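import Mathlib

/-!
# Azumaya algebras: tensor products, base change, endomorphism algebras of projective modules

All three bijectivity statements are deduced from the free case: the map in question for a finite
projective module is a retract of the map for a finite free module.
-/

namespace Groth.Agent.CSA.Azu

open TensorProduct MulOpposite

universe u v w

/-- A map which is a retract of a bijective map is bijective. -/
theorem bijective_of_retract {X Y X' Y' : Type*} {f : X → Y} {g : X' → Y'} (hg : Function.Bijective g)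
    {a : X → X'} {b : X' → X} {c : Y → Y'} {d : Y' → Y} (hba : ∀ x, b (a x) = x)
    (hdc : ∀ y, d (c y) = y) (h1 : ∀ x, g (a x) = c (f x)) (h2 : ∀ x, f (b x) = d (g x)) :
    Function.Bijective f := by
  refine ⟨fun x x' h => ?_, fun y => ?_⟩
  · have h' : g (a x) = g (a x') := by rw [h1, h1, h]
    rw [← hba x, ← hba x', hg.1 h']
  · obtain ⟨u, hu⟩ := hg.2 (c y)
    exact ⟨b u, by rw [h2, hu, hdc]⟩

section

variable (R : Type u) [CommRing R]

/-- A faithful finitely generated projective module has a linear form onto a generator of the unit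
ideal: no nonzero element is killed by all values of linear forms. -/
theorem eq_zero_of_forall_mul_dual (P : Type v) [AddCommGroup P] [Module R P] [Module.Finite R P]
    [Module.Projective R P] [FaithfulSMul R P] {S : Type w} [CommRing S] [Algebra R S] (s : S)
    (h : ∀ (φ : P →ₗ[R] R) (p : P), s * algebraMap R S (φ p) = 0) : s = 0 := by
  let T : Ideal R := Ideal.span {r | ∃ (φ : P →ₗ[R] R) (p : P), φ p = r}
  obtain ⟨n, f, g, -, -, hfg⟩ := Module.Finite.exists_comp_eq_id_of_projective R P
  have hle : (⊤ : Submodule R P) ≤ T • ⊤ := by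
    intro x _
    have hx : x = f (g x) := (LinearMap.congr_fun hfg x).symm
    rw [hx, LinearMap.pi_apply_eq_sum_univ f (g x)]
    exact Submodule.sum_mem _ fun i _ => Submodule.smul_mem_smul
      (Ideal.subset_span ⟨(LinearMap.proj i).comp g, x, rfl⟩) trivial
  obtain ⟨r, hr1, hr0⟩ := Submodule.exists_sub_one_mem_and_smul_eq_zero_of_fg_of_le_smul T ⊤
    Module.Finite.fg_top hle
  have hr : r = 0 := FaithfulSMul.eq_of_smul_eq_smul (α := P) fun p => by
    rw [hr0 p trivial, zero_smul]
  have h1 : (1 : R) ∈ T := by
    rw [hr, zero_sub] at hr1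
    simpa using T.neg_mem hr1
  have hT : T ≤ LinearMap.ker ((LinearMap.mulLeft R s).comp (Algebra.linearMap R S)) := by
    refine Ideal.span_le.2 ?_
    rintro _ ⟨φ, p, rfl⟩
    exact h φ p
  simpa using hT h1

theorem faithfulSMul_tensor (A : Type v) [AddCommGroup A] [Module R A] [FaithfulSMul R A]
    (B : Type w) [AddCommGroup B] [Module R B] [Module.Finite R B] [Module.Projective R B]
    [FaithfulSMul R B] : FaithfulSMul R (A ⊗[R] B) := by
  refine ⟨fun {r r'} h => sub_eq_zero.1 ?_⟩
  refine eq_zero_of_forall_mul_dual R B (S := R) _ fun φ b => ?_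
  refine FaithfulSMul.eq_of_smul_eq_smul (α := A) fun a => ?_
  have hab : (r - r') • (a ⊗ₜ[R] b) = 0 := by rw [sub_smul, h, sub_self]
  have := congr_arg ((TensorProduct.rid R A).toLinearMap.comp (φ.lTensor A)) hab
  rw [map_smul, map_zero] at this
  simpa [mul_smul] using this

theorem faithfulSMul_baseChange (S : Type w) [CommRing S] [Algebra R S] (A : Type v) [AddCommGroup A]
    [Module R A] [Module.Finite R A] [Module.Projective R A] [FaithfulSMul R A] :
    FaithfulSMul S (S ⊗[R] A) := by
  refine ⟨fun {r r'} h => sub_eq_zero.1 ?_⟩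
  refine eq_zero_of_forall_mul_dual R A _ fun φ a => ?_
  have hab : (r - r') • ((1 : S) ⊗ₜ[R] a) = 0 :=
    (sub_smul r r' ((1 : S) ⊗ₜ[R] a)).trans (sub_eq_zero.2 (h _))
  have := congr_arg ((TensorProduct.rid R S).toLinearMap.comp (φ.lTensor S)) hab
  rw [TensorProduct.smul_tmul', map_zero] at this
  simpa [Algebra.smul_def, mul_comm] using this

theorem faithfulSMul_end (P : Type v) [AddCommGroup P] [Module R P] [FaithfulSMul R P] :
    FaithfulSMul R (Module.End R P) :=
  ⟨fun {r r'} h => FaithfulSMul.eq_of_smul_eq_smul (α := P) fun p => LinearMap.congr_fun (h 1) p⟩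

/-- `End P ⊗ End Q → End (P ⊗ Q)` is bijective for finitely generated projective modules. -/
theorem bijective_homTensorHomMap (P : Type v) [AddCommGroup P] [Module R P] [Module.Finite R P]
    [Module.Projective R P] (Q : Type w) [AddCommGroup Q] [Module R Q] [Module.Finite R Q]
    [Module.Projective R Q] :
    Function.Bijective (TensorProduct.homTensorHomMap (RingHom.id R) P Q P Q) := by
  obtain ⟨n, f, g, -, -, hfg⟩ := Module.Finite.exists_comp_eq_id_of_projective R P
  obtain ⟨m, f', g', -, -, hfg'⟩ := Module.Finite.exists_comp_eq_id_of_projective R Q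
  have hbij : Function.Bijective (TensorProduct.homTensorHomMap (RingHom.id R)
      (Fin n → R) (Fin m → R) (Fin n → R) (Fin m → R)) := by
    rw [← homTensorHomEquiv_toLinearMap]
    exact LinearEquiv.bijective _
  let α : (P →ₗ[R] P) →ₗ[R] ((Fin n → R) →ₗ[R] (Fin n → R)) := (g.compRight R).comp (f.lcomp R P)
  let β : ((Fin n → R) →ₗ[R] (Fin n → R)) →ₗ[R] (P →ₗ[R] P) :=
    (f.compRight R).comp (g.lcomp R (Fin n → R))
  let α' : (Q →ₗ[R] Q) →ₗ[R] ((Fin m → R) →ₗ[R] (Fin m → R)) := (g'.compRight R).comp (f'.lcomp R Q)
  let β' : ((Fin m → R) →ₗ[R] (Fin m → R)) →ₗ[R] (Q →ₗ[R] Q) :=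
    (f'.compRight R).comp (g'.lcomp R (Fin m → R))
  have hff : ∀ p, f (g p) = p := LinearMap.congr_fun hfg
  have hff' : ∀ p, f' (g' p) = p := LinearMap.congr_fun hfg'
  refine bijective_of_retract hbij (a := TensorProduct.map α α') (b := TensorProduct.map β β')
    (c := fun F => (TensorProduct.map g g').comp (F.comp (TensorProduct.map f f')))
    (d := fun G => (TensorProduct.map f f').comp (G.comp (TensorProduct.map g g'))) ?_ ?_ ?_ ?_
  · intro x
    induction x using TensorProduct.induction_on with
    | zero => simp
    | tmul u u' =>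
      have hu : β (α u) = u := LinearMap.ext fun p => by simp [α, β, hff]
      have hu' : β' (α' u') = u' := LinearMap.ext fun p => by simp [α', β', hff']
      simp [hu, hu']
    | add x y hx hy => simp only [map_add, hx, hy]
  · intro F
    refine TensorProduct.ext' fun p q => ?_
    have h : ∀ z : P ⊗[R] Q, TensorProduct.map f f' (TensorProduct.map g g' z) = z := fun z => by
      rw [← LinearMap.comp_apply, ← TensorProduct.map_comp, hfg, hfg', TensorProduct.map_id]
      rfl
    simp only [LinearMap.comp_apply, h]
  · intro x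
    induction x using TensorProduct.induction_on with
    | zero => simp
    | tmul u u' =>
      refine TensorProduct.ext' fun p q => ?_
      simp [TensorProduct.homTensorHomMap, α, α']
    | add x y hx hy => simp only [map_add, hx, hy, LinearMap.add_comp, LinearMap.comp_add]
  · intro x
    induction x using TensorProduct.induction_on with
    | zero => simp
    | tmul u u' =>
      refine TensorProduct.ext' fun p q => ?_
      simp [TensorProduct.homTensorHomMap, β, β']
    | add x y hx hy => simp only [map_add, hx, hy, LinearMap.add_comp, LinearMap.comp_add]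

theorem tensorProductEnd_tmul (S : Type w) [CommRing S] [Algebra R S] (P : Type v)
    [AddCommGroup P] [Module R P] (s : S) (u : Module.End R P) (t : S) (p : P) :
    LinearMap.tensorProductEnd R S P (s ⊗ₜ[R] u) (t ⊗ₜ[R] p) = (s * t) ⊗ₜ[R] u p := by
  rw [← smul_eq_mul, ← TensorProduct.smul_tmul']
  rfl

/-- `S ⊗ End P → End (S ⊗ P)` is bijective for finitely generated projective modules. -/
theorem bijective_tensorProductEnd (S : Type w) [CommRing S] [Algebra R S] (P : Type v)
    [AddCommGroup P] [Module R P] [Module.Finite R P] [Module.Projective R P] :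
    Function.Bijective (LinearMap.tensorProductEnd R S P) := by
  obtain ⟨n, f, g, -, -, hfg⟩ := Module.Finite.exists_comp_eq_id_of_projective R P
  have hbij : Function.Bijective (LinearMap.tensorProductEnd R S (Fin n → R)) := by
    have hb := (TensorProduct.isBaseChange R (Fin n → R) S).end
    have : ⇑(LinearMap.tensorProductEnd R S (Fin n → R)) = ⇑hb.equiv := by
      funext x
      induction x using TensorProduct.induction_on with
      | zero => simp
      | tmul s u =>
        rw [IsBaseChange.equiv_tmul]
        refine LinearMap.ext fun z => ?_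
        induction z using TensorProduct.induction_on with
        | zero => simp
        | tmul t w =>
          have := IsBaseChange.endHom_comp_apply (TensorProduct.isBaseChange R (Fin n → R) S) u w
          have ht : t ⊗ₜ[R] w = t • ((TensorProduct.mk R S (Fin n → R) 1) w) := by
            simp [TensorProduct.smul_tmul']
          rw [ht, map_smul, map_smul, LinearMap.smul_apply, this]
          simp only [TensorProduct.mk_apply]
          rw [tensorProductEnd_tmul, TensorProduct.smul_tmul', TensorProduct.smul_tmul',
            TensorProduct.smul_tmul']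
          simp [mul_comm]
        | add x y hx hy => simp only [map_add, hx, hy]
      | add x y hx hy => simp only [map_add, hx, hy]
    rw [this]
    exact hb.equiv.bijective
  let α : (P →ₗ[R] P) →ₗ[R] ((Fin n → R) →ₗ[R] (Fin n → R)) := (g.compRight R).comp (f.lcomp R P)
  let β : ((Fin n → R) →ₗ[R] (Fin n → R)) →ₗ[R] (P →ₗ[R] P) :=
    (f.compRight R).comp (g.lcomp R (Fin n → R))
  have hff : ∀ p, f (g p) = p := LinearMap.congr_fun hfg
  refine bijective_of_retract hbij (a := α.lTensor S) (b := β.lTensor S)
    (c := fun F => (g.baseChange S).comp (F.comp (f.baseChange S)))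
    (d := fun G => (f.baseChange S).comp (G.comp (g.baseChange S))) ?_ ?_ ?_ ?_
  · intro x
    induction x using TensorProduct.induction_on with
    | zero => simp
    | tmul s u =>
      have hu : β (α u) = u := LinearMap.ext fun p => by simp [α, β, hff]
      simp [hu]
    | add x y hx hy => simp only [map_add, hx, hy]
  · intro F
    have h : ∀ z, (f.baseChange S) ((g.baseChange S) z) = z := fun z => by
      rw [← LinearMap.comp_apply, ← LinearMap.baseChange_comp, hfg, LinearMap.baseChange_id]
      rfl
    refine LinearMap.ext fun z => ?_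
    simp only [LinearMap.comp_apply, h]
  · intro x
    induction x using TensorProduct.induction_on with
    | zero => simp
    | tmul s u =>
      refine (TensorProduct.isBaseChange R (Fin n → R) S).algHom_ext _ _ fun p => ?_
      simp only [TensorProduct.mk_apply, LinearMap.lTensor_tmul, LinearMap.comp_apply,
        LinearMap.baseChange_tmul, tensorProductEnd_tmul]
      simp [α]
    | add x y hx hy => simp only [map_add, hx, hy, LinearMap.add_comp, LinearMap.comp_add]
  · intro x
    induction x using TensorProduct.induction_on with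
    | zero => simp
    | tmul s u =>
      refine (TensorProduct.isBaseChange R P S).algHom_ext _ _ fun p => ?_
      simp only [TensorProduct.mk_apply, LinearMap.lTensor_tmul, LinearMap.comp_apply,
        LinearMap.baseChange_tmul, tensorProductEnd_tmul]
      simp [β]
    | add x y hx hy => simp only [map_add, hx, hy, LinearMap.add_comp, LinearMap.comp_add]

theorem bijective_mulLeftRight_free (n : ℕ) :
    Function.Bijective (AlgHom.mulLeftRight R (Module.End R (Fin n → R))) := by
  have h1 : Function.Bijective (AlgHom.mulLeftRight R (Matrix (Fin n) (Fin n) R)) := by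
    refine Function.bijective_iff_has_inverse.2 ⟨AlgHom.mulLeftRightMatrix_inv R (Fin n),
      LinearMap.congr_fun (AlgHom.mulLeftRightMatrix.inv_comp R (Fin n)),
      LinearMap.congr_fun (AlgHom.mulLeftRightMatrix.comp_inv R (Fin n))⟩
  let e : Matrix (Fin n) (Fin n) R ≃ₐ[R] Module.End R (Fin n → R) := Matrix.toLinAlgEquiv'
  have h2 := congr_arg DFunLike.coe (IsAzumaya.mulLeftRight_comp_congr R _ _ e)
  refine (Function.Bijective.of_comp_iff _ (Algebra.TensorProduct.congr e e.op).bijective).1 ?_
  rw [← AlgEquiv.coe_toAlgHom, ← AlgHom.coe_comp, h2, AlgHom.coe_comp]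
  exact (AlgEquiv.bijective _).comp h1

/-- The endomorphism algebra of a faithful finitely generated projective module is Azumaya. -/
theorem isAzumaya_end (P : Type v) [AddCommGroup P] [Module R P] [Module.Finite R P]
    [Module.Projective R P] [FaithfulSMul R P] : IsAzumaya R (Module.End R P) := by
  obtain ⟨n, f, g, -, -, hfg⟩ := Module.Finite.exists_comp_eq_id_of_projective R P
  let α : Module.End R P →ₗ[R] Module.End R (Fin n → R) := (g.compRight R).comp (f.lcomp R P)
  let β : Module.End R (Fin n → R) →ₗ[R] Module.End R P :=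
    (f.compRight R).comp (g.lcomp R (Fin n → R))
  have hff : ∀ p, f (g p) = p := LinearMap.congr_fun hfg
  have hβα : ∀ u, β (α u) = u := fun u => LinearMap.ext fun p => by simp [α, β, hff]
  have : Module.Projective R (Module.End R P) := Module.Projective.of_split α β (LinearMap.ext hβα)
  have : Module.Finite R (Module.End R P) :=
    Module.Finite.of_surjective β fun u => ⟨α u, hβα u⟩
  have := faithfulSMul_end R P
  let αo : (Module.End R P)ᵐᵒᵖ →ₗ[R] (Module.End R (Fin n → R))ᵐᵒᵖ :=
    (opLinearEquiv R).toLinearMap.comp (α.comp (opLinearEquiv R).symm.toLinearMap)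
  let βo : (Module.End R (Fin n → R))ᵐᵒᵖ →ₗ[R] (Module.End R P)ᵐᵒᵖ :=
    (opLinearEquiv R).toLinearMap.comp (β.comp (opLinearEquiv R).symm.toLinearMap)
  constructor
  refine bijective_of_retract (bijective_mulLeftRight_free R n) (a := TensorProduct.map α αo)
    (b := TensorProduct.map β βo) (c := fun F => α.comp (F.comp β))
    (d := fun G => β.comp (G.comp α)) ?_ ?_ ?_ ?_
  · intro x
    induction x using TensorProduct.induction_on with
    | zero => simp
    | tmul u u' => simp [αo, βo, hβα]
    | add x y hx hy => simp only [map_add, hx, hy]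
  · intro F
    exact LinearMap.ext fun u => by simp [hβα]
  · intro x
    induction x using TensorProduct.induction_on with
    | zero => simp
    | tmul u u' =>
      refine LinearMap.ext fun h => LinearMap.ext fun p => ?_
      simp [α, β, αo, hff]
    | add x y hx hy => simp only [map_add, hx, hy, LinearMap.add_comp, LinearMap.comp_add]
  · intro x
    induction x using TensorProduct.induction_on with
    | zero => simp
    | tmul u u' =>
      refine LinearMap.ext fun h => LinearMap.ext fun p => ?_
      simp [α, β, βo, hff]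
    | add x y hx hy => simp only [map_add, hx, hy, LinearMap.add_comp, LinearMap.comp_add]

/-- The tensor product of two Azumaya algebras is Azumaya. -/
theorem isAzumaya_tensor (A : Type v) [Ring A] [Algebra R A] [IsAzumaya R A]
    (B : Type w) [Ring B] [Algebra R B] [IsAzumaya R B] : IsAzumaya R (A ⊗[R] B) := by
  have := faithfulSMul_tensor R A B
  constructor
  let e : (A ⊗[R] Aᵐᵒᵖ) ⊗[R] (B ⊗[R] Bᵐᵒᵖ) ≃ₐ[R] (A ⊗[R] B) ⊗[R] (A ⊗[R] B)ᵐᵒᵖ :=
    (Algebra.TensorProduct.tensorTensorTensorComm R R R R A Aᵐᵒᵖ B Bᵐᵒᵖ).trans
      (Algebra.TensorProduct.congr AlgEquiv.refl (Algebra.TensorProduct.opAlgEquiv R R A B))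
  have h : (AlgHom.mulLeftRight R (A ⊗[R] B)).toLinearMap.comp e.toLinearMap =
      (TensorProduct.homTensorHomMap (RingHom.id R) A B A B).comp
        (TensorProduct.map (AlgHom.mulLeftRight R A).toLinearMap
          (AlgHom.mulLeftRight R B).toLinearMap) := by
    ext a a' b b' x y
    simp [e, TensorProduct.homTensorHomMap]
  refine (Function.Bijective.of_comp_iff _ e.bijective).1 ?_
  change Function.Bijective ⇑((AlgHom.mulLeftRight R (A ⊗[R] B)).toLinearMap.comp e.toLinearMap)
  rw [h, LinearMap.coe_comp]
  refine (bijective_homTensorHomMap R A B).comp ?_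
  exact TensorProduct.map_bijective IsAzumaya.bij IsAzumaya.bij

/-- `(a, b) ↦ (1 ⊗ a) ⊗ (1 ⊗ b)` as an `R`-bilinear map. -/
def pairMap (S : Type w) [CommRing S] [Algebra R S] (A : Type v) [Ring A] [Algebra R A] :
    A →ₗ[R] Aᵐᵒᵖ →ₗ[R] (S ⊗[R] A) ⊗[S] (S ⊗[R] A)ᵐᵒᵖ :=
  ((TensorProduct.mk S (S ⊗[R] A) (S ⊗[R] A)ᵐᵒᵖ).restrictScalars₁₂ R R).compl₁₂
    (TensorProduct.mk R S A 1)
    ((opLinearEquiv R).toLinearMap.comp
      ((TensorProduct.mk R S A 1).comp (opLinearEquiv R).symm.toLinearMap))

theorem pairMap_apply (S : Type w) [CommRing S] [Algebra R S] (A : Type v) [Ring A] [Algebra R A]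
    (a : A) (b : Aᵐᵒᵖ) :
    pairMap R S A a b = ((1 : S) ⊗ₜ[R] a) ⊗ₜ[S] op ((1 : S) ⊗ₜ[R] b.unop) := rfl

/-- The base change of an Azumaya algebra is Azumaya. -/
theorem isAzumaya_baseChange (S : Type w) [CommRing S] [Algebra R S] (A : Type v) [Ring A]
    [Algebra R A] [IsAzumaya R A] : IsAzumaya S (S ⊗[R] A) := by
  have := faithfulSMul_baseChange R S A
  constructor
  let ρ : S ⊗[R] (A ⊗[R] Aᵐᵒᵖ) →ₗ[S] (S ⊗[R] A) ⊗[S] (S ⊗[R] A)ᵐᵒᵖ :=
    (TensorProduct.lift (pairMap R S A)).liftBaseChange S
  have hρt : ∀ (s : S) (a : A) (b : Aᵐᵒᵖ), ρ (s ⊗ₜ[R] (a ⊗ₜ[R] b)) =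
      s • (((1 : S) ⊗ₜ[R] a) ⊗ₜ[S] op ((1 : S) ⊗ₜ[R] b.unop)) := fun s a b => by
    rw [LinearMap.liftBaseChange_tmul, TensorProduct.lift.tmul, pairMap_apply]
  have hρ : Function.Surjective ρ := by
    have key : ∀ (x : S ⊗[R] A) (y : (S ⊗[R] A)ᵐᵒᵖ), x ⊗ₜ[S] y ∈ LinearMap.range ρ := by
      intro x y
      induction x using TensorProduct.induction_on with
      | zero => simp
      | add x x' hx hx' => rw [TensorProduct.add_tmul]; exact add_mem hx hx'
      | tmul s a =>
        induction y using MulOpposite.rec' with
        | _ y =>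
        induction y using TensorProduct.induction_on with
        | zero => simp
        | add y y' hy hy' => rw [MulOpposite.op_add, TensorProduct.tmul_add]; exact add_mem hy hy'
        | tmul t b =>
          refine ⟨(t * s) ⊗ₜ (a ⊗ₜ op b), ?_⟩
          have h1 : (s ⊗ₜ[R] a : S ⊗[R] A) = s • ((1 : S) ⊗ₜ[R] a) := by
            simp [TensorProduct.smul_tmul']
          have h2 : op (t ⊗ₜ[R] b : S ⊗[R] A) = t • op ((1 : S) ⊗ₜ[R] b) := by
            rw [← MulOpposite.op_smul]; simp [TensorProduct.smul_tmul']
          rw [hρt, h1, h2, TensorProduct.tmul_smul, ← TensorProduct.smul_tmul', smul_smul, unop_op]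
    intro z
    induction z using TensorProduct.induction_on with
    | zero => exact ⟨0, map_zero ρ⟩
    | tmul x y => exact key x y
    | add x y hx hy =>
      obtain ⟨x', rfl⟩ := hx
      obtain ⟨y', rfl⟩ := hy
      exact ⟨x' + y', map_add ρ x' y'⟩
  have h : (AlgHom.mulLeftRight S (S ⊗[R] A)).toLinearMap.comp ρ =
      (LinearMap.tensorProductEnd R S A).toLinearMap.comp
        ((AlgHom.mulLeftRight R A).toLinearMap.baseChange S) := by
    refine (TensorProduct.isBaseChange R (A ⊗[R] Aᵐᵒᵖ) S).algHom_ext _ _ fun z => ?_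
    induction z using TensorProduct.induction_on with
    | zero => simp only [map_zero]
    | add x y hx hy => simp only [map_add, hx, hy]
    | tmul a b =>
      simp only [TensorProduct.mk_apply, LinearMap.comp_apply, hρt, one_smul,
        LinearMap.baseChange_tmul, AlgHom.toLinearMap_apply]
      refine (TensorProduct.isBaseChange R A S).algHom_ext _ _ fun x => ?_
      rw [TensorProduct.mk_apply, AlgHom.mulLeftRight_apply, tensorProductEnd_tmul,
        AlgHom.mulLeftRight_apply, MulOpposite.unop_op, Algebra.TensorProduct.tmul_mul_tmul,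
        Algebra.TensorProduct.tmul_mul_tmul, mul_one, mul_one]
  have hbij : Function.Bijective
      ((AlgHom.mulLeftRight S (S ⊗[R] A)).toLinearMap.comp ρ) := by
    rw [h, LinearMap.coe_comp]
    exact (bijective_tensorProductEnd R S A).comp
      (LinearEquiv.baseChange R S _ _ (LinearEquiv.ofBijective (AlgHom.mulLeftRight R A).toLinearMap
        IsAzumaya.bij)).bijective
  rw [LinearMap.coe_comp] at hbij
  refine ⟨fun z z' h => ?_, hbij.2.of_comp⟩
  obtain ⟨w, rfl⟩ := hρ z
  obtain ⟨w', rfl⟩ := hρ z'
  rw [hbij.1 (show ((AlgHom.mulLeftRight S (S ⊗[R] A)).toLinearMap ∘ ρ) w = _ from h)]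

end

end Groth.Agent.CSA.Azu
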