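import Groth.Agent.CSA.AzumayaDescent

/-!
# Automorphisms of Azumaya algebras are locally inner
-/

namespace Groth.Agent.CSA.Azu

open TensorProduct MulOpposite

universe u v w

variable (R : Type u) [CommRing R] (A : Type v) [Ring A] [Algebra R A] [IsAzumaya R A]

omit [IsAzumaya R A] in
/-- An endomorphism with values in `I A` lies in `I End A`. -/
theorem mem_smul_end [Module.Finite R A] [Module.Projective R A] (I : Ideal R) (F : Module.End R A)
    (h : ∀ y, F y ∈ I • (⊤ : Submodule R A)) : F ∈ I • (⊤ : Submodule R (Module.End R A)) := by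
  classical
  obtain ⟨n, f, g, -, -, hfg⟩ := Module.Finite.exists_comp_eq_id_of_projective R A
  let φ : Fin n → A →ₗ[R] R := fun i => (LinearMap.proj i).comp g
  let a : Fin n → A := fun i => f fun j => if i = j then 1 else 0
  have hF : F = ∑ i, (φ i).smulRight (F (a i)) := LinearMap.ext fun y => by
    have hy : y = ∑ i, φ i y • a i := by
      conv_lhs => rw [show y = f (g y) from (LinearMap.congr_fun hfg y).symm,
        LinearMap.pi_apply_eq_sum_univ f (g y)]
      rfl
    conv_lhs => rw [hy]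
    simp [map_sum]
  rw [hF]
  refine Submodule.sum_mem _ fun i _ => ?_
  refine Submodule.smul_induction_on (h (a i)) (fun r hr x _ => ?_) fun x y hx hy => ?_
  · have : (φ i).smulRight (r • x) = r • (φ i).smulRight x := LinearMap.ext fun y => by
      simp [smul_comm r]
    rw [this]
    exact Submodule.smul_mem_smul hr trivial
  · have : (φ i).smulRight (x + y) = (φ i).smulRight x + (φ i).smulRight y := LinearMap.ext fun z => by
      simp
    rw [this]
    exact add_mem hx hy

/-- Elements implementing an automorphism. -/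
theorem exists_semicentral (u : A ≃ₐ[R] A) (p : Ideal R) (hp : p ≠ ⊤) :
    ∃ a : A, (∀ x, u x * a = a * x) ∧ ∃ f : R, f ∉ p ∧ ∃ b c : A,
      b * a = algebraMap R A f ∧ a * c = algebraMap R A f := by
  obtain ⟨π, hπ⟩ := exists_retraction R A
  let Θ : A ⊗[R] Aᵐᵒᵖ →ₗ[R] Module.End R A := (AlgHom.mulLeftRight R A).toLinearMap
  let eΘ := LinearEquiv.ofBijective Θ IsAzumaya.bij
  obtain ⟨t, ht⟩ := IsAzumaya.bij.2 ((Algebra.linearMap R A).comp π)
  let τ : A ⊗[R] Aᵐᵒᵖ →ₐ[R] A ⊗[R] Aᵐᵒᵖ :=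
    Algebra.TensorProduct.map u.toAlgHom (AlgHom.id R Aᵐᵒᵖ)
  let E : A → A := fun y => AlgHom.mulLeftRight R A (τ t) y
  have hcomm : ∀ x : A, (x ⊗ₜ[R] (1 : Aᵐᵒᵖ)) * t = ((1 : A) ⊗ₜ[R] op x) * t := fun x => by
    refine IsAzumaya.bij.1 ?_
    rw [map_mul, map_mul, ht]
    refine LinearMap.ext fun z => ?_
    simp [Algebra.commutes]
  have hE : ∀ y x, u x * E y = E y * x := fun y x => by
    have h := congr_arg (fun s => AlgHom.mulLeftRight R A (τ s) y) (hcomm x)
    simpa [E, τ, map_mul] using h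
  obtain ⟨y, hy⟩ : ∃ y, E y ∉ p • (⊤ : Submodule R A) := by
    by_contra! hall
    have h1 : Θ (τ t) ∈ p • (⊤ : Submodule R (Module.End R A)) := mem_smul_end R A p _ hall
    have h2 : τ t ∈ p • (⊤ : Submodule R (A ⊗[R] Aᵐᵒᵖ)) := by
      have := Submodule.mem_map_of_mem (f := eΘ.symm.toLinearMap) h1
      rw [Submodule.map_smul''] at this
      have e : eΘ.symm (Θ (τ t)) = τ t := eΘ.symm_apply_apply _
      rw [LinearEquiv.coe_toLinearMap, e] at this
      exact Submodule.smul_mono le_rfl le_top this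
    have h3 : t ∈ p • (⊤ : Submodule R (A ⊗[R] Aᵐᵒᵖ)) := by
      let τ' : A ⊗[R] Aᵐᵒᵖ →ₐ[R] A ⊗[R] Aᵐᵒᵖ :=
        Algebra.TensorProduct.map u.symm.toAlgHom (AlgHom.id R Aᵐᵒᵖ)
      have := Submodule.mem_map_of_mem (f := τ'.toLinearMap) h2
      rw [Submodule.map_smul''] at this
      have e : τ' (τ t) = t := by
        rw [← AlgHom.comp_apply, ← Algebra.TensorProduct.map_comp]
        have : u.symm.toAlgHom.comp u.toAlgHom = AlgHom.id R A := AlgHom.ext fun z => u.symm_apply_apply z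
        rw [this, AlgHom.id_comp, Algebra.TensorProduct.map_id]
        rfl
      rw [AlgHom.toLinearMap_apply, e] at this
      exact Submodule.smul_mono le_rfl le_top this
    let ev : A ⊗[R] Aᵐᵒᵖ →ₗ[R] R := π.comp ((LinearMap.applyₗ (1 : A)).comp Θ)
    have := Submodule.mem_map_of_mem (f := ev) h3
    rw [Submodule.map_smul''] at this
    have e : ev t = 1 := by
      change π (AlgHom.mulLeftRight R A t 1) = 1
      rw [ht, LinearMap.comp_apply, hπ, Algebra.linearMap_apply, map_one, hπ]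
    rw [e] at this
    have h4 : (1 : R) ∈ p := by
      have := Submodule.smul_mono le_rfl le_top this
      rwa [smul_eq_mul, Ideal.mul_top] at this
    exact hp ((Ideal.eq_top_iff_one p).2 h4)
  set a := E y
  have ha : ∀ x, u x * a = a * x := hE y
  refine ⟨a, ha, ?_⟩
  let I : TwoSidedIdeal A := TwoSidedIdeal.mk' (Set.range fun b => b * a) ⟨0, zero_mul a⟩
    (by rintro _ _ ⟨b, rfl⟩ ⟨c, rfl⟩; exact ⟨b + c, add_mul b c a⟩)
    (by rintro _ ⟨b, rfl⟩; exact ⟨-b, neg_mul b a⟩)
    (by rintro x _ ⟨b, rfl⟩; exact ⟨x * b, mul_assoc x b a⟩)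
    (by rintro _ x ⟨b, rfl⟩; exact ⟨b * u x, by simp only; rw [mul_assoc, ha, mul_assoc]⟩)
  have hI : ∀ z, z ∈ I ↔ ∃ b, b * a = z := fun z => TwoSidedIdeal.mem_mk' _ _ _ _ _ _ z
  obtain ⟨f, hfI, hfp⟩ : ∃ f ∈ (TwoSidedIdeal.asIdeal I).comap (algebraMap R A), f ∉ p := by
    by_contra! hle
    have h1 : a ∈ TwoSidedIdeal.asIdeal I :=
      TwoSidedIdeal.mem_asIdeal.2 ((hI a).2 ⟨1, one_mul a⟩)
    rw [twoSided_eq_map R A I] at h1
    refine hy ?_
    have key : ∀ z ∈ Ideal.map (algebraMap R A) ((TwoSidedIdeal.asIdeal I).comap (algebraMap R A)),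
        z ∈ p • (⊤ : Submodule R A) := by
      intro z hz
      induction hz using Submodule.span_induction with
      | mem z hz =>
        obtain ⟨j, hj, rfl⟩ := hz
        rw [Algebra.algebraMap_eq_smul_one]
        exact Submodule.smul_mem_smul (hle j hj) trivial
      | zero => exact zero_mem _
      | add x y _ _ hx hy => exact add_mem hx hy
      | smul c x _ hx =>
        refine Submodule.smul_induction_on hx (fun r hr z _ => ?_) fun x y hx hy => ?_
        · rw [smul_eq_mul, mul_smul_comm]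
          exact Submodule.smul_mem_smul hr trivial
        · rw [smul_add]; exact add_mem hx hy
    exact key a h1
  obtain ⟨b, hb⟩ := (hI _).1 (TwoSidedIdeal.mem_asIdeal.1 (Ideal.mem_comap.1 hfI))
  refine ⟨f, hfp, b, u.symm b, hb, ?_⟩
  rw [← ha, u.apply_symm_apply, hb]

/-- The centre of an Azumaya algebra is the ground ring. -/
theorem exists_algebraMap_eq_of_central {c : A} (hc : ∀ x, x * c = c * x) :
    ∃ r : R, algebraMap R A r = c := by
  obtain ⟨π, hπ⟩ := exists_retraction R A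
  refine ⟨π c, ?_⟩
  obtain ⟨t, ht⟩ := IsAzumaya.bij.2 ((Algebra.linearMap R A).comp π)
  have key : ∀ s : A ⊗[R] Aᵐᵒᵖ, ∀ z, AlgHom.mulLeftRight R A s (c * z) = c * AlgHom.mulLeftRight R A s z := by
    intro s z
    induction s using TensorProduct.induction_on with
    | zero => simp
    | add a b ha hb => simp only [map_add, LinearMap.add_apply, ha, hb, mul_add]
    | tmul a b =>
      rw [AlgHom.mulLeftRight_apply, AlgHom.mulLeftRight_apply, ← mul_assoc a c, hc a]
      simp only [mul_assoc]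
  have h1 := key t 1
  rw [ht, mul_one, LinearMap.comp_apply, LinearMap.comp_apply, hπ, Algebra.linearMap_apply,
    Algebra.linearMap_apply, map_one, mul_one] at h1
  exact h1

theorem eq_algebraMap_mul_of_conj (u : A ≃ₐ[R] A) (a a' : Aˣ)
    (h : ∀ x : A, u x = (a : A) * x * (a⁻¹ : Aˣ)) (h' : ∀ x : A, u x = (a' : A) * x * (a'⁻¹ : Aˣ)) :
    ∃ c : Rˣ, (a' : A) = algebraMap R A (c : R) * (a : A) := by
  have e : ∀ x, (a : A) * x * (a⁻¹ : Aˣ) = (a' : A) * x * (a'⁻¹ : Aˣ) := fun x => (h x).symm.trans (h' x)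
  have key : ∀ (a a' : Aˣ), (∀ x, (a : A) * x * (a⁻¹ : Aˣ) = (a' : A) * x * (a'⁻¹ : Aˣ)) →
      ∃ r : R, algebraMap R A r = ((a⁻¹ * a' : Aˣ) : A) := by
    intro a a' e
    refine exists_algebraMap_eq_of_central R A fun x => ?_
    have := congr_arg (fun w => ((a⁻¹ : Aˣ) : A) * w * (a' : A)) (e x)
    simpa [mul_assoc] using this
  obtain ⟨r, hr⟩ := key a a' e
  obtain ⟨r', hr'⟩ := key a' a fun x => (e x).symm
  have h1 : r * r' = 1 := by
    have hinj : Function.Injective (algebraMap R A) := FaithfulSMul.algebraMap_injective R A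
    refine hinj ?_
    rw [map_mul, hr, hr', map_one, ← Units.val_mul, mul_assoc, mul_inv_cancel_left, inv_mul_cancel, Units.val_one]
  refine ⟨Units.mkOfMulEqOne r r' h1, ?_⟩
  rw [Units.val_mkOfMulEqOne, Algebra.commutes, hr, Units.val_mul, Units.mul_inv_cancel_left]

/-- Over a local ring automorphisms are inner. -/
theorem exists_conj_of_isLocalRing [IsLocalRing R] (u : A ≃ₐ[R] A) :
    ∃ a : Aˣ, ∀ x : A, u x = (a : A) * x * (a⁻¹ : Aˣ) := by
  obtain ⟨a, ha, f, hf, b, c, hb, hc⟩ :=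
    exists_semicentral R A u (IsLocalRing.maximalIdeal R) (IsLocalRing.maximalIdeal.isMaximal R).ne_top
  obtain ⟨f, rfl⟩ : IsUnit f := IsLocalRing.notMem_maximalIdeal.1 hf
  have h1 : (algebraMap R A ((f⁻¹ : Rˣ) : R) * b) * a = 1 := by
    rw [mul_assoc, hb, ← map_mul, Units.inv_mul, map_one]
  have h2 : a * (c * algebraMap R A ((f⁻¹ : Rˣ) : R)) = 1 := by
    rw [← mul_assoc, hc, ← map_mul, Units.mul_inv, map_one]
  have he : algebraMap R A ((f⁻¹ : Rˣ) : R) * b = c * algebraMap R A ((f⁻¹ : Rˣ) : R) :=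
    left_inv_eq_right_inv h1 h2
  refine ⟨⟨a, algebraMap R A ((f⁻¹ : Rˣ) : R) * b, he ▸ h2, h1⟩, fun x => ?_⟩
  change u x = a * x * (algebraMap R A ((f⁻¹ : Rˣ) : R) * b)
  rw [← ha x, mul_assoc (u x), he, h2, mul_one]

/-- Automorphisms are inner locally on the base. -/
theorem exists_conj_away (u : A ≃ₐ[R] A) (p : Ideal R) (hp : p ≠ ⊤) :
    ∃ (f : R) (_ : f ∉ p) (v : (Localization.Away f ⊗[R] A)ˣ),
      ∀ z : Localization.Away f ⊗[R] A,
        Algebra.TensorProduct.map (AlgHom.id (Localization.Away f) (Localization.Away f))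
            (u : A →ₐ[R] A) z =
          (v : Localization.Away f ⊗[R] A) * z * (v⁻¹ : (Localization.Away f ⊗[R] A)ˣ) := by
  obtain ⟨a, ha, f, hf, b, c, hb, hc⟩ := exists_semicentral R A u p hp
  refine ⟨f, hf, ?_⟩
  obtain ⟨i, hi⟩ := isUnit_iff_exists_inv.1 (IsLocalization.Away.algebraMap_isUnit (S := Localization.Away f) f)
  have key : ∀ z : A, algebraMap R A f = z → i ⊗ₜ[R] z = (1 : Localization.Away f ⊗[R] A) := by
    rintro _ rfl
    rw [Algebra.algebraMap_eq_smul_one, TensorProduct.tmul_smul, TensorProduct.smul_tmul',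
      Algebra.smul_def, hi, Algebra.TensorProduct.one_def]
  let v : (Localization.Away f ⊗[R] A) := (1 : Localization.Away f) ⊗ₜ[R] a
  have h1 : (i ⊗ₜ[R] b) * v = 1 := by
    rw [Algebra.TensorProduct.tmul_mul_tmul, mul_one]
    exact key _ hb.symm
  have h2 : v * (i ⊗ₜ[R] c) = 1 := by
    rw [Algebra.TensorProduct.tmul_mul_tmul, one_mul]
    exact key _ hc.symm
  have he : (i ⊗ₜ[R] b) = (i ⊗ₜ[R] c) := left_inv_eq_right_inv h1 h2
  refine ⟨⟨v, i ⊗ₜ[R] b, he ▸ h2, h1⟩, fun z => ?_⟩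
  have hcomm : ∀ z, Algebra.TensorProduct.map (AlgHom.id (Localization.Away f) (Localization.Away f))
      (u : A →ₐ[R] A) z * v = v * z := fun z => by
    induction z using TensorProduct.induction_on with
    | zero => simp
    | add x y hx hy => simp only [map_add, add_mul, mul_add, hx, hy]
    | tmul s x =>
      simp only [v, Algebra.TensorProduct.map_tmul, AlgHom.coe_id, id_eq,
        Algebra.TensorProduct.tmul_mul_tmul, mul_one, one_mul]
      exact congr_arg _ (ha x)
  change _ = v * z * (i ⊗ₜ[R] b)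
  rw [← hcomm z, mul_assoc, he, h2, mul_one]

end Groth.Agent.CSA.Azu
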