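import Groth.Agent.CSA.AzumayaInner
import Mathlib.RingTheory.MatrixAlgebra
import Mathlib.Algebra.Azumaya.Matrix
import Mathlib.LinearAlgebra.Matrix.Charpoly.Basic
import Mathlib.RingTheory.TensorProduct.IncludeLeftSubRight

/-!
# The reduced characteristic polynomial of an element of a split Azumaya algebra
-/

namespace Groth.Agent.CSA.Azu

open TensorProduct Polynomial Matrix

universe u v w w'

/-- The characteristic polynomial is invariant under algebra automorphisms of the matrix ring. -/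
theorem charpoly_algEquiv (S : Type u) [CommRing S] (n : ℕ)
    (σ : Matrix (Fin n) (Fin n) S ≃ₐ[S] Matrix (Fin n) (Fin n) S) (X : Matrix (Fin n) (Fin n) S) :
    (σ X).charpoly = X.charpoly := by
  rcases Nat.eq_zero_or_pos n with rfl | hn
  · rw [Subsingleton.elim (σ X) X]
  haveI : Nonempty (Fin n) := ⟨⟨0, hn⟩⟩
  haveI : IsAzumaya S (Matrix (Fin n) (Fin n) S) := IsAzumaya.matrix S (Fin n)
  refine Polynomial.ext fun k => eq_of_sub_eq_zero ?_
  by_contra hne
  obtain ⟨p, hp, hle⟩ : ∃ p : Ideal S, p.IsMaximal ∧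
      (Submodule.span S {((σ X).charpoly.coeff k - X.charpoly.coeff k)}).annihilator ≤ p :=
    Ideal.exists_le_maximal _ fun h => hne (by
      rw [Submodule.annihilator_eq_top_iff, Submodule.span_singleton_eq_bot] at h
      exact h)
  obtain ⟨a, ha, f, hf, b, c, hb, -⟩ :=
    exists_semicentral S (Matrix (Fin n) (Fin n) S) σ p hp.ne_top
  have hdet : a.det ∉ p := fun h => by
    have := congr_arg Matrix.det hb
    rw [Matrix.det_mul, Matrix.algebraMap_eq_diagonal, Matrix.det_diagonal] at this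
    simp only [Pi.algebraMap_apply, Algebra.algebraMap_self, RingHom.id_apply, Finset.prod_const,
      Finset.card_univ, Fintype.card_fin] at this
    exact hf (hp.isPrime.mem_of_pow_mem n (this ▸ Ideal.mul_mem_left _ _ h))
  have key : (σ X).charpoly * C a.det = C a.det * X.charpoly := by
    have hC : (C a.det : S[X]) = (a.map C).det := RingHom.map_det C a
    rw [Matrix.charpoly, Matrix.charpoly, hC, ← Matrix.det_mul, ← Matrix.det_mul]
    congr 1
    simp only [charmatrix, Matrix.sub_mul, Matrix.mul_sub, RingHom.mapMatrix_apply]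
    rw [← Matrix.map_mul, ← Matrix.map_mul, ha, (Matrix.scalar_commute _ (fun _ => Commute.all _ _) _).eq]
  refine hdet (hle (Submodule.mem_annihilator_span_singleton _ _ |>.2 ?_))
  have hk := congr_arg (fun q => Polynomial.coeff q k) key
  simp only [coeff_mul_C, coeff_C_mul] at hk
  rw [smul_eq_mul, mul_sub, ← hk, mul_comm, sub_self]

variable (R : Type u) [CommRing R] (A : Type v) [Ring A] [Algebra R A] {n : ℕ}

/-- A splitting may be pushed along a map of base rings. -/
theorem exists_splitting_baseChange (R' : Type w) [CommRing R'] [Algebra R R']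
    (φ : (R' ⊗[R] A) ≃ₐ[R'] Matrix (Fin n) (Fin n) R') (S : Type w') [CommRing S] [Algebra R S]
    (g : R' →ₐ[R] S) :
    ∃ Φ : (S ⊗[R] A) ≃ₐ[S] Matrix (Fin n) (Fin n) S,
      ∀ a, Φ (1 ⊗ₜ a) = (φ (1 ⊗ₜ a)).map g := by
  letI : Algebra R' S := g.toAlgebra
  haveI : IsScalarTower R R' S := IsScalarTower.of_algHom g
  let e1 : S ⊗[R] A ≃ₐ[S] S ⊗[R'] (R' ⊗[R] A) :=
    AlgEquiv.ofLinearEquiv (TensorProduct.AlgebraTensorModule.cancelBaseChange R R' S S A).symm
      (by simp [Algebra.TensorProduct.one_def])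
      (LinearMap.map_mul_of_map_mul_tmul (fun _ _ _ _ ↦ by simp))
  let e2 : S ⊗[R'] (R' ⊗[R] A) ≃ₐ[S] S ⊗[R'] Matrix (Fin n) (Fin n) R' :=
    Algebra.TensorProduct.congr AlgEquiv.refl φ
  let e3' : S ⊗[R'] Matrix (Fin n) (Fin n) R' ≃ₐ[R'] Matrix (Fin n) (Fin n) S :=
    (matrixEquivTensor (Fin n) R' S).symm
  let e3 : S ⊗[R'] Matrix (Fin n) (Fin n) R' ≃ₐ[S] Matrix (Fin n) (Fin n) S :=
    AlgEquiv.ofRingEquiv (f := e3'.toRingEquiv) fun s => by
      simp only [e3', Algebra.TensorProduct.algebraMap_apply, Algebra.algebraMap_self,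
        RingHom.id_apply,
        matrixEquivTensor_apply_symm]
      ext i j
      by_cases h : i = j <;> simp [h, Matrix.algebraMap_matrix_apply, Algebra.smul_def]
  refine ⟨e1.trans (e2.trans e3), fun a => ?_⟩
  have h1 : e1 (1 ⊗ₜ a) = 1 ⊗ₜ (1 ⊗ₜ a) :=
    TensorProduct.AlgebraTensorModule.cancelBaseChange_symm_tmul R R' S (1 : S) a
  show e3' (e2 (e1 (1 ⊗ₜ a))) = _
  rw [h1, show e2 (1 ⊗ₜ (1 ⊗ₜ a)) = 1 ⊗ₜ φ (1 ⊗ₜ a) from rfl, show e3' (1 ⊗ₜ φ (1 ⊗ₜ a)) = _ from
    matrixEquivTensor_apply_symm (Fin n) R' S (1 : S) (φ (1 ⊗ₜ a))]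
  ext i j
  simp [RingHom.algebraMap_toAlgebra]

/-- Two splittings give the same characteristic polynomial on a common base. -/
theorem charpoly_map_eq (R' : Type w) [CommRing R'] [Algebra R R']
    (φ : (R' ⊗[R] A) ≃ₐ[R'] Matrix (Fin n) (Fin n) R')
    (R'' : Type w') [CommRing R''] [Algebra R R'']
    (ψ : (R'' ⊗[R] A) ≃ₐ[R''] Matrix (Fin n) (Fin n) R'')
    {S : Type*} [CommRing S] [Algebra R S] (g : R' →ₐ[R] S) (h : R'' →ₐ[R] S) (a : A) :
    (φ (1 ⊗ₜ a)).charpoly.map g.toRingHom = (ψ (1 ⊗ₜ a)).charpoly.map h.toRingHom := by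
  obtain ⟨Φ, hΦ⟩ := exists_splitting_baseChange R A R' φ S g
  obtain ⟨Ψ, hΨ⟩ := exists_splitting_baseChange R A R'' ψ S h
  rw [← Matrix.charpoly_map, ← Matrix.charpoly_map]
  show ((φ (1 ⊗ₜ a)).map g).charpoly = ((ψ (1 ⊗ₜ a)).map h).charpoly
  rw [← hΦ, ← hΨ, ← charpoly_algEquiv S n (Φ.symm.trans Ψ) (Φ (1 ⊗ₜ a))]
  simp

/-- The characteristic polynomial attached to a faithfully flat splitting is defined over the
base. -/
theorem exists_charpoly_descent (R' : Type w) [CommRing R'] [Algebra R R']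
    [Module.FaithfullyFlat R R'] (φ : (R' ⊗[R] A) ≃ₐ[R'] Matrix (Fin n) (Fin n) R') (a : A) :
    ∃ p : R[X], p.map (algebraMap R R') = (φ (1 ⊗ₜ a)).charpoly ∧ Polynomial.aeval a p = 0 := by
  have hco : (φ (1 ⊗ₜ a)).charpoly ∈ Polynomial.lifts (algebraMap R R') := by
    rw [Polynomial.lifts_iff_coeff_lifts]
    intro k
    rw [← (Algebra.IsEffective.of_faithfullyFlat R R').eqLocus_includeLeft_includeRight]
    have := congr_arg (fun q => Polynomial.coeff q k) (charpoly_map_eq R A R' φ R' φ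
      (Algebra.TensorProduct.includeLeft (S := R) (A := R') (B := R'))
      Algebra.TensorProduct.includeRight a)
    simpa using this
  obtain ⟨p, hp⟩ := Polynomial.mem_lifts _ |>.1 hco
  refine ⟨p, hp, ?_⟩
  refine Module.FaithfullyFlat.tensorProduct_mk_injective (A := R) (B := R') A ?_
  show (1 : R') ⊗ₜ[R] Polynomial.aeval a p = (1 : R') ⊗ₜ[R] (0 : A)
  rw [TensorProduct.tmul_zero]
  have h1 : (1 : R') ⊗ₜ[R] Polynomial.aeval a p =
      Polynomial.aeval ((1 : R') ⊗ₜ[R] a) (p.map (algebraMap R R')) := by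
    rw [Polynomial.aeval_map_algebraMap]
    exact (Polynomial.aeval_algHom_apply (Algebra.TensorProduct.includeRight (A := R')) a p).symm
  rw [h1, hp]
  apply φ.injective
  rw [← Polynomial.aeval_algHom_apply, Matrix.aeval_self_charpoly, map_zero]

end Groth.Agent.CSA.Azu
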