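import Groth.Agent.CSA.Split
import Mathlib.RingTheory.Artinian.Module
import Mathlib.FieldTheory.Finite.Extension
import Mathlib.FieldTheory.PrimitiveElement

/-!
# Étale subalgebras of half dimension in central simple algebras
-/

namespace Groth.Agent.CSA

open TensorProduct Module

universe u v w

variable (k : Type u) [Field k] (B : Type v) [Ring B] [Algebra k B] [FiniteDimensional k B]
  [Algebra.IsCentral k B] [IsSimpleRing B]

/-- A central simple algebra of dimension `r ^ 2` is free of rank `r` over a reduced commutative
subalgebra of dimension `r`, acting by right multiplication. -/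
theorem exists_basis_of_reduced {r : ℕ} (hB : finrank k B = r ^ 2) (C : Type w) [CommRing C]
    [Algebra k C] [FiniteDimensional k C] [IsReduced C] (hC : finrank k C = r) (u : C →ₐ[k] B)
    (hu : Function.Injective u) :
    ∃ y : Fin r → B, Function.Bijective fun c : Fin r → C => ∑ j, y j * u (c j) := by
  classical
  have : IsArtinianRing C := IsArtinianRing.of_finite k C
  letI : Fintype (MaximalSpectrum C) := Fintype.ofFinite _
  let l : MaximalSpectrum C → Type w := fun i => C ⧸ i.asIdeal
  letI : ∀ i, Field (l i) := fun i =>
    haveI := i.isMaximal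
    Ideal.Quotient.field i.asIdeal
  letI : ∀ i, Algebra k (l i) := fun i => (inferInstance : Algebra k (C ⧸ i.asIdeal))
  have hfd : ∀ i, FiniteDimensional k (l i) := fun i =>
    (inferInstance : Module.Finite k (C ⧸ i.asIdeal))
  let ε : C ≃ₐ[k] ((i : MaximalSpectrum C) → l i) := (IsArtinianRing.equivPi C).restrictScalars k
  let ι : ∀ i, l i → B := fun i x => u (ε.symm (Pi.single i x))
  have ι_mul : ∀ i x x', ι i x * ι i x' = ι i (x * x') := fun i x x' => by
    simp only [ι, ← map_mul, ← Pi.single_mul]
  have ι_add : ∀ i x x', ι i (x + x') = ι i x + ι i x' := fun i x x' => by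
    simp only [ι, ← map_add, ← Pi.single_add]
  have ι_ne : ∀ i, ι i 1 ≠ 0 := fun i h => by
    have : ε.symm (Pi.single i (1 : l i)) = ε.symm 0 := hu (by rw [map_zero, map_zero]; exact h)
    have := congr_fun (ε.symm.injective this) i
    simp at this
  have ι_smul : ∀ i (a : k) x, ι i (a • x) = a • ι i x := fun i a x => by
    simp only [ι, Pi.single_smul, map_smul]
  let W : MaximalSpectrum C → Submodule k B := fun i => LinearMap.range (LinearMap.mulRight k (ι i 1))
  have hW : ∀ i (w : W i), (w : B) * ι i 1 = w := fun i w => by
    obtain ⟨b, hb⟩ := w.2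
    rw [← hb, LinearMap.mulRight_apply, mul_assoc, ι_mul, mul_one]
  letI instW : ∀ i, Module (l i) (W i) := fun i =>
    { smul := fun x w => ⟨(w : B) * ι i x, (w : B) * ι i x,
        by rw [LinearMap.mulRight_apply, mul_assoc, ι_mul, mul_one]⟩
      one_smul := fun w => Subtype.ext (hW i w)
      mul_smul := fun x y w => Subtype.ext (by
        show (w : B) * ι i (x * y) = (w : B) * ι i y * ι i x
        rw [mul_assoc, ι_mul, mul_comm x y])
      smul_zero := fun x => Subtype.ext (by show ((0 : W i) : B) * ι i x = _; simp)
      smul_add := fun x w w' => Subtype.ext (by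
        show ((w + w' : W i) : B) * ι i x = (w : B) * ι i x + (w' : B) * ι i x
        simp [add_mul])
      add_smul := fun x y w => Subtype.ext (by
        show (w : B) * ι i (x + y) = (w : B) * ι i x + (w : B) * ι i y
        rw [ι_add, mul_add])
      zero_smul := fun w => Subtype.ext (by
        show (w : B) * ι i 0 = _
        simp [ι]) }
  have hsm : ∀ i (x : l i) (w : W i), ((x • w : W i) : B) = (w : B) * ι i x := fun _ _ _ => rfl
  have htower : ∀ i, IsScalarTower k (l i) (W i) := fun i => ⟨fun a x w => Subtype.ext (by
    rw [Submodule.coe_smul, hsm, hsm, ι_smul, mul_smul_comm])⟩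
  have hfin : ∀ i, Module.Finite (l i) (W i) := fun i => Module.Finite.of_restrictScalars_finite k _ _
  have hle : ∀ i, r ≤ finrank (l i) (W i) := fun i => by
    let g : B →ₐ[k] Module.End (l i) (W i) :=
      { toFun := fun b =>
          { toFun := fun w => ⟨b * w, b * w, by rw [LinearMap.mulRight_apply, mul_assoc, hW]⟩
            map_add' := fun w w' => Subtype.ext (by simp [mul_add])
            map_smul' := fun x w => Subtype.ext (by simp [hsm, mul_assoc]) }
        map_one' := LinearMap.ext fun w => Subtype.ext (one_mul (w : B))
        map_mul' := fun b b' => LinearMap.ext fun w => Subtype.ext (mul_assoc b b' (w : B))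
        map_zero' := LinearMap.ext fun w => Subtype.ext (zero_mul (w : B))
        map_add' := fun b b' => LinearMap.ext fun w => Subtype.ext (add_mul b b' (w : B))
        commutes' := fun a => LinearMap.ext fun w => Subtype.ext (by
          simp [Algebra.algebraMap_eq_smul_one]) }
    let G : l i ⊗[k] B →ₐ[l i] Module.End (l i) (W i) :=
      Algebra.TensorProduct.lift (Algebra.ofId _ _) g fun x y => Algebra.commutes x (g y)
    have := isSimpleRing_tensor k (l i) B
    have : Nontrivial (W i) := ⟨⟨⟨ι i 1, 1, by simp⟩, 0, fun h => ι_ne i (congr_arg Subtype.val h)⟩⟩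
    have hG : Function.Injective G.toLinearMap := G.toRingHom.injective
    have h2 := LinearMap.finrank_le_finrank_of_injective hG
    rw [Module.finrank_baseChange, Module.finrank_linearMap, hB, sq] at h2
    exact Nat.mul_self_le_mul_self_iff.1 h2
  have hsum : ∀ c, ∑ i, ι i (ε c i) = u c := fun c => by
    simp only [ι, ← map_sum, Finset.univ_sum_single, AlgEquiv.symm_apply_apply]
  have hortho : ∀ i j, i ≠ j → ∀ x y, ι i x * ι j y = 0 := fun i j hij x y => by
    simp only [ι, ← map_mul]
    rw [show Pi.single i x * Pi.single j y = (0 : (i : MaximalSpectrum C) → l i) from funext fun m => by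
      rcases eq_or_ne m i with rfl | hm
      · simp [Pi.single_eq_of_ne hij]
      · simp [Pi.single_eq_of_ne hm], map_zero, map_zero]
  let δ : B ≃ₗ[k] ((i : MaximalSpectrum C) → W i) :=
    { toFun := fun b i => ⟨b * ι i 1, b, rfl⟩
      map_add' := fun b b' => funext fun i => Subtype.ext (add_mul b b' _)
      map_smul' := fun a b => funext fun i => Subtype.ext (smul_mul_assoc a b _)
      invFun := fun w => ∑ i, (w i : B)
      left_inv := fun b => by
        have h1 := hsum 1
        simp only [map_one, Pi.one_apply] at h1
        simp only [← Finset.mul_sum, h1, mul_one]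
      right_inv := fun w => funext fun i => Subtype.ext (by
        simp only [Finset.sum_mul]
        rw [Finset.sum_eq_single i (fun j _ hj => ?_) (by simp), hW]
        rw [← hW j (w j), mul_assoc, hortho j i hj, mul_zero]) }
  have hBsum : ∑ i, finrank k (l i) * finrank (l i) (W i) = r ^ 2 := by
    rw [← hB, δ.finrank_eq, Module.finrank_pi_fintype]
    exact Finset.sum_congr rfl fun i _ => Module.finrank_mul_finrank k (l i) (W i)
  have hCsum : ∑ i, finrank k (l i) = r := by
    rw [← hC, ε.toLinearEquiv.finrank_eq, Module.finrank_pi_fintype]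
  have hd : ∀ i, finrank (l i) (W i) = r := fun i => by
    have h1 : ∀ j ∈ Finset.univ, finrank k (l j) * r ≤ finrank k (l j) * finrank (l j) (W j) :=
      fun j _ => Nat.mul_le_mul_left _ (hle j)
    have h2 := (Finset.sum_eq_sum_iff_of_le h1).1 (by rw [← Finset.sum_mul, hCsum, hBsum, sq])
    exact (Nat.eq_of_mul_eq_mul_left Module.finrank_pos (h2 i (Finset.mem_univ i))).symm
  let b : ∀ i, Basis (Fin r) (l i) (W i) := fun i => Module.finBasisOfFinrankEq _ _ (hd i)
  let y : Fin r → B := fun j => ∑ i, (b i j : B)
  refine ⟨y, ?_⟩
  let L : (Fin r → C) →ₗ[k] B :=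
    { toFun := fun c => ∑ j, y j * u (c j)
      map_add' := fun c c' => by simp [mul_add, Finset.sum_add_distrib]
      map_smul' := fun a c => by simp [Finset.smul_sum] }
  have hsurj : Function.Surjective L := fun t => by
    refine ⟨fun j => ε.symm fun i => (b i).repr ⟨t * ι i 1, t, rfl⟩ j, ?_⟩
    show ∑ j, (∑ i, (b i j : B)) * u (ε.symm fun i => (b i).repr ⟨t * ι i 1, t, rfl⟩ j) = t
    have key : ∀ i j (c : C), (b i j : B) * u c = ((ε c i • b i j : W i) : B) := fun i j c => by
      rw [hsm, ← hsum c, Finset.mul_sum, Finset.sum_eq_single i (fun m _ hm => ?_) (by simp)]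
      rw [← hW i (b i j), mul_assoc, hortho i m (Ne.symm hm), mul_zero]
    simp only [Finset.sum_mul, key, AlgEquiv.apply_symm_apply]
    rw [Finset.sum_comm]
    simp only [← Submodule.coe_sum, Basis.sum_repr]
    exact δ.left_inv t
  refine ⟨?_, hsurj⟩
  show Function.Injective L
  refine (LinearMap.injective_iff_surjective_of_finrank_eq_finrank ?_).2 hsurj
  rw [Module.finrank_pi_fintype, hB, Finset.sum_const, Finset.card_univ, Fintype.card_fin, hC,
    smul_eq_mul, sq]

/-- A central simple algebra of dimension `r ^ 2` has a regular element. -/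
theorem exists_regular {r : ℕ} (hB : finrank k B = r ^ 2) :
    ∃ x : B, (minpoly k x).Separable ∧ (minpoly k x).natDegree = r := by
  classical
  have := IsArtinianRing.of_finite k B
  obtain ⟨n, hn, D, _, _, _, ⟨e⟩⟩ := IsSimpleRing.exists_algEquiv_matrix_divisionRing_finite k B
  have := isCentral_of_algEquiv_matrix k D e
  obtain ⟨L, hcomm, hmax, hsep⟩ := exists_separable_maximal k D
  have hLD := finrank_eq_sq_of_maximal k D L hcomm hmax
  let _ : CommRing L :=
    { (inferInstance : Ring L) with mul_comm := fun a b => Subtype.ext (hcomm a a.2 b b.2) }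
  let _ : Field L := fieldOfFiniteDimensional k L
  have hr : r = n * finrank k L := by
    have h1 := e.toLinearEquiv.finrank_eq
    rw [hB, Module.finrank_matrix, Fintype.card_fin, hLD, sq] at h1
    exact Nat.mul_self_inj.1 (by rw [h1]; ring)
  rcases finite_or_infinite k with hk | hk
  · have hDk : ∀ d : D, d ∈ (⊥ : Subalgebra k D) := fun d => by
      have : Finite D := Module.finite_of_finite k
      let _ : Field D := littleWedderburn D
      exact Algebra.IsCentral.out (Subalgebra.mem_center_iff.2 fun x => mul_comm x d)
    have hLk : finrank k L = 1 := by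
      rw [show L = ⊥ from eq_bot_iff.2 fun d _ => hDk d, Subalgebra.finrank_bot]
    rw [hLk, mul_one] at hr
    obtain ⟨p, hp⟩ := CharP.exists k
    have : Fact p.Prime := ⟨CharP.char_is_prime k p⟩
    have : NeZero n := hn
    let M := FiniteField.Extension k p n
    have hM : finrank k M = n := FiniteField.finrank_extension k p n
    let pb := Field.powerBasisOfFiniteOfSeparable k M
    let bM := Module.finBasisOfFinrankEq k M hM
    let φ : M →ₐ[k] B := (e.symm.toAlgHom.comp (Algebra.ofId k D).mapMatrix).comp (Algebra.leftMulMatrix bM)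
    refine ⟨φ pb.gen, ?_⟩
    rw [minpoly.algHom_eq φ φ.toRingHom.injective, ← pb.finrank.symm.trans hM |>.trans hr.symm,
      pb.natDegree_minpoly]
    exact ⟨Algebra.IsSeparable.isSeparable k pb.gen, rfl⟩
  · let pb := Field.powerBasisOfFiniteOfSeparable k L
    let g := minpoly k pb.gen
    have hg : Irreducible g := minpoly.irreducible (Algebra.IsIntegral.isIntegral _)
    let G : k → Polynomial k := fun c => minpoly k (pb.gen + algebraMap k L c)
    have hfib : ∀ c, Set.Finite {c' | G c' = G c} := fun c => by
      have : Function.Injective fun c' : k => pb.gen + algebraMap k L c' :=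
        fun a b h => (algebraMap k L).injective (add_left_cancel h)
      refine (((G c).map (algebraMap k L)).roots.toFinset.finite_toSet.preimage this.injOn).subset
        fun c' hc' => ?_
      simp only [Set.mem_preimage, Finset.mem_coe, Multiset.mem_toFinset, Polynomial.mem_roots',
        Polynomial.IsRoot.def, Polynomial.eval_map_algebraMap]
      exact ⟨Polynomial.map_ne_zero (minpoly.ne_zero (Algebra.IsIntegral.isIntegral _)),
        by rw [← hc']; exact minpoly.aeval k _⟩
    have hinf : (Set.range G).Infinite := fun hfin => Set.infinite_univ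
      ((Set.Finite.preimage' hfin fun q hq => by
        obtain ⟨c, rfl⟩ := hq
        exact hfib c).subset fun c _ => ⟨c, rfl⟩)
    let q := hinf.natEmbedding
    choose c hc using fun i : Fin n => (q i).2
    let z : Fin n → L := fun i => pb.gen + algebraMap k L (c i)
    let φ : (Fin n → L) →ₐ[k] B := e.symm.toAlgHom.comp
      ((Matrix.diagonalAlgHom k).comp (L.val.compLeft (Fin n)))
    have hφ : Function.Injective φ := e.symm.injective.comp
      (Matrix.diagonal_injective.comp fun a b h => funext fun i => Subtype.ext (congr_fun h i))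
    refine ⟨φ z, ?_⟩
    rw [minpoly.algHom_eq φ hφ]
    let Q := ∏ i, G (c i)
    have hmonic : ∀ i, (G (c i)).Monic := fun i => minpoly.monic (Algebra.IsIntegral.isIntegral _)
    have hirr : ∀ i, Irreducible (G (c i)) := fun i => minpoly.irreducible (Algebra.IsIntegral.isIntegral _)
    have hcop : Pairwise (Function.onFun IsCoprime fun i => G (c i)) := fun i j hij => by
      refine (hirr i).coprime_iff_not_dvd.2 fun hd => hij ?_
      have := Polynomial.eq_of_monic_of_associated (hmonic i) (hmonic j)
        ((hirr i).associated_of_dvd (hirr j) hd)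
      rw [hc, hc] at this
      exact Fin.ext (q.injective (Subtype.ext this))
    have heval : ∀ (P : Polynomial k) i, Polynomial.aeval z P i = Polynomial.aeval (z i) P := fun P i =>
      (Polynomial.aeval_algHom_apply (Pi.evalAlgHom k (fun _ : Fin n => L) i) z P).symm
    have hz : IsIntegral k z := Algebra.IsIntegral.isIntegral z
    have hmin : minpoly k z = Q := by
      refine Polynomial.eq_of_monic_of_associated (minpoly.monic hz)
        (Polynomial.monic_prod_of_monic _ _ fun i _ => hmonic i) (associated_of_dvd_dvd ?_ ?_)
      · refine minpoly.dvd k z (funext fun i => ?_)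
        rw [heval, map_prod, Pi.zero_apply]
        exact Finset.prod_eq_zero (Finset.mem_univ i) (minpoly.aeval k (z i))
      · refine Fintype.prod_dvd_of_coprime hcop fun i => minpoly.dvd k (z i) ?_
        rw [← heval, minpoly.aeval, Pi.zero_apply]
    rw [hmin]
    refine ⟨Polynomial.separable_prod hcop fun i => Algebra.IsSeparable.isSeparable k _, ?_⟩
    rw [Polynomial.natDegree_prod_of_monic _ _ fun i _ => hmonic i, hr]
    simp only [G, minpoly.add_algebraMap, Polynomial.natDegree_comp, Polynomial.natDegree_X_sub_C,
      mul_one, pb.natDegree_minpoly, ← pb.finrank]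
    simp

end Groth.Agent.CSA
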