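import Groth.Agent.CSA.AzumayaFibre
import Groth.Agent.CSA.EtaleBasis
import Mathlib.Algebra.Azumaya.Matrix
import Mathlib.RingTheory.LocalRing.Module
import Mathlib.RingTheory.Unramified.Field

/-!
# Maximal étale subalgebras of Azumaya algebras
-/

namespace Groth.Agent.CSA.Azu

open TensorProduct Module

universe u v w

variable (R : Type u) [CommRing R]

/-- A map into a finite projective module which is bijective on closed fibres is bijective. -/
theorem bijective_of_forall_maximal {M : Type v} {N : Type w} [AddCommGroup M] [Module R M]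
    [AddCommGroup N] [Module R N] [Module.Finite R M] [Module.Finite R N] [Module.Projective R N]
    (θ : M →ₗ[R] N)
    (h : ∀ m : Ideal R, m.IsMaximal → Function.Bijective (θ.baseChange (R ⧸ m))) :
    Function.Bijective θ := by
  have hq : ∀ m : Ideal R, m.IsMaximal → ∃ q : Ideal (R ⧸ m), q.IsPrime ∧
      q.comap (algebraMap R (R ⧸ m)) = m := fun m hm =>
    haveI := hm
    ⟨⊥, Ideal.isPrime_bot, by
      rw [← RingHom.ker_eq_comap_bot, Ideal.Quotient.algebraMap_eq, Ideal.mk_ker]⟩
  have hsurj : Function.Surjective θ := by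
    have := subsingleton_of_forall_maximal R (N ⧸ LinearMap.range θ) fun m hm => by
      refine ⟨R ⧸ m, inferInstance, inferInstance, hq m hm, subsingleton_of_forall_eq 0 fun t => ?_⟩
      obtain ⟨t, rfl⟩ := LinearMap.lTensor_surjective _ (Submodule.mkQ_surjective (LinearMap.range θ)) t
      obtain ⟨w, rfl⟩ := (h m hm).2 t
      change ((Submodule.mkQ (LinearMap.range θ)).lTensor _) ((θ.lTensor _) w) = 0
      rw [← LinearMap.comp_apply, ← LinearMap.lTensor_comp, LinearMap.range_mkQ_comp, LinearMap.lTensor_zero]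
      rfl
    rw [← LinearMap.range_eq_top]
    exact Submodule.Quotient.subsingleton_iff.1 this
  obtain ⟨σ, hσ⟩ := Module.projective_lifting_property θ LinearMap.id hsurj
  let K := LinearMap.ker θ
  let pr : M →ₗ[R] K := (LinearMap.id - σ.comp θ).codRestrict K fun x => by
    rw [LinearMap.mem_ker, LinearMap.sub_apply, map_sub, LinearMap.comp_apply, LinearMap.id_apply,
      ← LinearMap.comp_apply θ σ, hσ, LinearMap.id_apply, sub_self]
  have hpr : Function.Surjective pr := fun x => ⟨x, Subtype.ext (by
    simp [pr, LinearMap.codRestrict_apply, show θ x = 0 from x.2])⟩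
  have : Module.Finite R K := Module.Finite.of_surjective pr hpr
  have := subsingleton_of_forall_maximal R K fun m hm => by
    refine ⟨R ⧸ m, inferInstance, inferInstance, hq m hm, subsingleton_of_forall_eq 0 fun t => ?_⟩
    have hcomp : pr.comp K.subtype = LinearMap.id := LinearMap.ext fun x => Subtype.ext (by
      simp [pr, LinearMap.codRestrict_apply, show θ x = 0 from x.2])
    have h0 : θ.baseChange (R ⧸ m) (K.subtype.lTensor _ t) = 0 := by
      change θ.lTensor _ (K.subtype.lTensor _ t) = 0
      rw [← LinearMap.comp_apply, ← LinearMap.lTensor_comp, LinearMap.comp_ker_subtype, LinearMap.lTensor_zero]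
      rfl
    have h1 : K.subtype.lTensor (R ⧸ m) t = 0 := (h m hm).1 (by rw [h0, map_zero])
    have h2 := congr_arg (pr.lTensor (R ⧸ m)) h1
    rwa [← LinearMap.comp_apply, ← LinearMap.lTensor_comp, hcomp, LinearMap.lTensor_id, map_zero] at h2
  refine ⟨(injective_iff_map_eq_zero θ).2 fun x hx => ?_, hsurj⟩
  exact congr_arg Subtype.val (Subsingleton.elim (⟨x, hx⟩ : K) 0)

/-- A homomorphism of Azumaya algebras of the same rank is bijective. -/
theorem bijective_algHom {A : Type v} [Ring A] [Algebra R A] [IsAzumaya R A] {B : Type w} [Ring B]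
    [Algebra R B] [IsAzumaya R B] (f : A →ₐ[R] B)
    (h : ∀ m : Ideal R, m.IsMaximal →
      finrank (R ⧸ m) ((R ⧸ m) ⊗[R] A) = finrank (R ⧸ m) ((R ⧸ m) ⊗[R] B)) :
    Function.Bijective f := by
  refine bijective_of_forall_maximal R f.toLinearMap fun m hm => ?_
  haveI := hm
  letI : Field (R ⧸ m) := Ideal.Quotient.field m
  have hA := isAzumaya_baseChange (R := R) (R ⧸ m) A
  have hB := isAzumaya_baseChange (R := R) (R ⧸ m) B
  obtain ⟨-, hAs⟩ := (isAzumaya_iff_central_simple (R ⧸ m) ((R ⧸ m) ⊗[R] A)).1 hA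
  obtain ⟨-, hBs⟩ := (isAzumaya_iff_central_simple (R ⧸ m) ((R ⧸ m) ⊗[R] B)).1 hB
  exact bijective_of_isSimpleRing (Algebra.TensorProduct.map (AlgHom.id (R ⧸ m) (R ⧸ m)) f) (h m hm)

variable (A : Type v) [Ring A] [Algebra R A] [IsAzumaya R A]

/-- An Azumaya algebra free of rank `r ^ 2` which is free over a commutative subalgebra on `r`
generators is split by that subalgebra. -/
theorem bijective_act [Module.Free R A] {r : ℕ} (hr : 0 < r) (hA : finrank R A = r ^ 2)
    (E : Type w) [CommRing E] [Algebra R E] (u : E →ₐ[R] A) [Module E A]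
    (hmod : ∀ (e : E) (a : A), e • a = a * u e) (b : Basis (Fin r) E A) :
    (∃ Φ : E ⊗[R] A ≃ₐ[E] Module.End E A, ∀ a y, Φ (1 ⊗ₜ a) y = a * y) ∧
      Nonempty (E ⊗[R] A ≃ₐ[E] Matrix (Fin r) (Fin r) E) ∧
      ∀ z : A, (∀ e, z * u e = u e * z) → z ∈ Set.range u := by
  haveI : IsScalarTower R E A := ⟨fun a e x => by rw [hmod, hmod, map_smul, mul_smul_comm]⟩
  haveI : SMulCommClass E A A := ⟨fun e a x => by rw [smul_eq_mul, smul_eq_mul, hmod, hmod, mul_assoc]⟩
  haveI : SMulCommClass A E A := SMulCommClass.symm _ _ _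
  let g : A →ₐ[R] Module.End E A :=
    { toFun := fun a =>
        { toFun := fun y => a * y
          map_add' := mul_add a
          map_smul' := fun e y => by simp [hmod, mul_assoc] }
      map_one' := LinearMap.ext one_mul
      map_mul' := fun a a' => LinearMap.ext (mul_assoc a a')
      map_zero' := LinearMap.ext zero_mul
      map_add' := fun a a' => LinearMap.ext (add_mul a a')
      commutes' := fun c => LinearMap.ext fun y => by simp [Algebra.algebraMap_eq_smul_one] }
  let Φ : E ⊗[R] A →ₐ[E] Module.End E A :=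
    Algebra.TensorProduct.lift (Algebra.ofId _ _) g fun e a => Algebra.commutes e (g a)
  have hΦt : ∀ e a y, Φ (e ⊗ₜ a) y = e • (a * y) := fun e a y => by
    show (Algebra.ofId E (Module.End E A) e * g a) y = _
    rfl
  have hΦ : ∀ a y, Φ (1 ⊗ₜ a) y = a * y := fun a y => by rw [hΦt, one_smul]
  haveI : Nonempty (Fin r) := ⟨⟨0, hr⟩⟩
  let M : Module.End E A ≃ₐ[E] Matrix (Fin r) (Fin r) E := algEquivMatrix b
  haveI := IsAzumaya.matrix E (Fin r)
  haveI : IsAzumaya E (Module.End E A) := IsAzumaya.of_AlgEquiv _ _ _ M.symm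
  haveI := isAzumaya_baseChange (R := R) E A
  have hbij : Function.Bijective Φ := bijective_algHom E Φ fun m hm => by
    haveI : Nontrivial E := nontrivial_of_ne (0 : E) 1 fun h => hm.ne_top
      ((Ideal.eq_top_iff_one m).2 (h ▸ m.zero_mem))
    haveI : Nontrivial R := (algebraMap R E).domain_nontrivial
    haveI : Nontrivial (E ⧸ m) := Ideal.Quotient.nontrivial_iff.2 hm.ne_top
    haveI : Module.Free E A := Module.Free.of_basis b
    haveI : Module.Free E (Module.End E A) := Module.Free.of_equiv M.toLinearEquiv.symm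
    rw [Module.finrank_baseChange, Module.finrank_baseChange, Module.finrank_baseChange, hA,
      M.toLinearEquiv.finrank_eq, Module.finrank_matrix, Fintype.card_fin, Module.finrank_self, sq,
      mul_one]
  let Φ' := AlgEquiv.ofBijective Φ hbij
  refine ⟨⟨Φ', hΦ⟩, ⟨Φ'.trans M⟩, fun z hz => ?_⟩
  let ρ : Module.End E A :=
    { toFun := fun y => y * z
      map_add' := fun y y' => add_mul y y' z
      map_smul' := fun e y => by simp [hmod, mul_assoc, hz] }
  have hc : ρ ∈ Subalgebra.center E (Module.End E A) := Subalgebra.mem_center_iff.2 fun φ => by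
    obtain ⟨t, rfl⟩ := hbij.2 φ
    induction t using TensorProduct.induction_on with
    | zero => simp
    | add x y hx hy => rw [map_add, add_mul, mul_add, hx, hy]
    | tmul e a =>
      refine LinearMap.ext fun y => ?_
      simp [hΦt, ρ, hmod, mul_assoc, hz]
  haveI : Module.Free E A := Module.Free.of_basis b
  haveI : Module.Free E (Module.End E A) := Module.Free.of_equiv M.toLinearEquiv.symm
  obtain ⟨e, he⟩ := Algebra.mem_bot.1 (Algebra.IsCentral.out hc)
  refine ⟨e, ?_⟩
  have := LinearMap.congr_fun he 1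
  simpa [ρ, hmod] using this

end Groth.Agent.CSA.Azu
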