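import Groth.Agent.CSA.Period

/-!
# The antisymmetriser in tensor powers of a central simple algebra
-/

namespace Groth.Agent.CSA

open scoped TensorProduct

section Matrices

variable {K : Type*} [Field K] {r d : ℕ}

/-- Tensor product of matrices, on multi-indices. -/
def piMat (M : Fin r → Matrix (Fin d) (Fin d) K) : Matrix (Fin r → Fin d) (Fin r → Fin d) K :=
  Matrix.of fun I J => ∏ t, M t (I t) (J t)

theorem piMat_mul (M N : Fin r → Matrix (Fin d) (Fin d) K) :
    piMat M * piMat N = piMat (M * N) := by
  ext I J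
  simp only [piMat, Matrix.mul_apply, Matrix.of_apply, Pi.mul_apply]
  rw [Fintype.prod_sum]
  exact Finset.sum_congr rfl fun L _ => Finset.prod_mul_distrib.symm

theorem piMat_one : piMat (1 : Fin r → Matrix (Fin d) (Fin d) K) = 1 := by
  ext I J
  simp only [piMat, Matrix.of_apply, Pi.one_apply, Matrix.one_apply]
  rw [Fintype.prod_boole]
  by_cases h : I = J
  · subst h; simp
  · rw [if_neg h, if_neg fun h' => h (funext h')]

/-- The antisymmetriser. -/
def asym (r d : ℕ) (K : Type*) [Field K] : Matrix (Fin r → Fin d) (Fin r → Fin d) K :=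
  Matrix.of fun I J => ∑ π : Equiv.Perm (Fin r),
    if I ∘ π = J then ((Equiv.Perm.sign π : ℤ) : K) else 0

theorem asym_map {L : Type*} [Field L] (f : K →+* L) : (asym r d K).map f = asym r d L := by
  ext I J
  simp only [asym, Matrix.map_apply, Matrix.of_apply, map_sum]
  refine Finset.sum_congr rfl fun π _ => ?_
  split_ifs <;> simp

theorem piMat_const_commute (u : Matrix (Fin d) (Fin d) K) :
    Commute (piMat fun _ : Fin r => u) (asym r d K) := by
  ext I J
  simp only [Matrix.mul_apply, asym, Matrix.of_apply, Finset.mul_sum, Finset.sum_mul]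
  conv_lhs => rw [Finset.sum_comm]
  conv_rhs => rw [Finset.sum_comm]
  refine Finset.sum_congr rfl fun π _ => ?_
  simp only [mul_ite, mul_zero, ite_mul, zero_mul]
  rw [Finset.sum_eq_single (J ∘ ⇑π⁻¹), Finset.sum_eq_single (I ∘ ⇑π)]
  · rw [if_pos rfl, if_pos (by ext t; simp), mul_comm]
    congr 1
    simp only [piMat, Matrix.of_apply, Function.comp_apply]
    rw [← Equiv.prod_comp π]
    simp
  · intro L _ hL; rw [if_neg fun h => hL h.symm]
  · simp
  · intro L _ hL
    rw [if_neg fun h => hL ?_]
    rw [← h]; ext t; simp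
  · simp

theorem asym_row_comp (I : Fin r → Fin d) (ρ : Equiv.Perm (Fin r)) :
    asym r d K (I ∘ ρ) = ((Equiv.Perm.sign ρ : ℤ) : K) • asym r d K I := by
  ext J
  simp only [asym, Matrix.of_apply, Pi.smul_apply, smul_eq_mul, Finset.mul_sum]
  rw [← Equiv.sum_comp (Equiv.mulLeft ρ⁻¹)]
  refine Finset.sum_congr rfl fun π _ => ?_
  simp only [Equiv.coe_mulLeft, Function.comp_assoc, ← Equiv.Perm.coe_mul, mul_inv_cancel_left]
  split_ifs <;> simp

theorem asym_row_eq_zero (I : Fin r → Fin d) (hI : ¬ Function.Injective I) : asym r d K I = 0 := by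
  obtain ⟨a, b, hab, hne⟩ : ∃ a b, I a = I b ∧ a ≠ b := by
    simpa [Function.Injective] using hI
  ext J
  simp only [asym, Matrix.of_apply, Pi.zero_apply]
  refine Finset.sum_involution (fun π _ => Equiv.swap a b * π) ?_ ?_ (fun π _ => Finset.mem_univ _)
    (fun π _ => by simp [← mul_assoc])
  · intro π _
    have h : I ∘ ⇑(Equiv.swap a b * π) = I ∘ ⇑π := by
      funext t
      simp only [Function.comp_apply, Equiv.Perm.coe_mul]
      rcases eq_or_ne (π t) a with h1 | h1
      · rw [h1, Equiv.swap_apply_left, hab]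
      · rcases eq_or_ne (π t) b with h2 | h2
        · rw [h2, Equiv.swap_apply_right, hab]
        · rw [Equiv.swap_apply_of_ne_of_ne h1 h2]
    rw [h, map_mul, Equiv.Perm.sign_swap hne]
    split_ifs <;> simp
  · intro π _ _ h
    exact hne (Equiv.swap_eq_one_iff.1 (mul_eq_right.1 h))

/-- Rank of the antisymmetriser. -/
theorem finrank_span_asym :
    Module.finrank K (Submodule.span K (Set.range (asym r d K).row)) = d.choose r := by
  let emb : {S : Finset (Fin d) // S.card = r} → (Fin r → Fin d) :=
    fun S => ⇑(S.1.orderEmbOfFin S.2)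
  let v : {S : Finset (Fin d) // S.card = r} → ((Fin r → Fin d) → K) := fun S => asym r d K (emb S)
  have hemb : ∀ S S' : {S : Finset (Fin d) // S.card = r}, ∀ π : Equiv.Perm (Fin r),
      emb S ∘ ⇑π = emb S' → S = S' ∧ π = 1 := by
    intro S S' π h
    have hS : S = S' := by
      refine Subtype.ext (Finset.coe_injective ?_)
      rw [← Finset.range_orderEmbOfFin S.1 S.2, ← Finset.range_orderEmbOfFin S'.1 S'.2]
      change Set.range (emb S) = Set.range (emb S')
      rw [← h, π.surjective.range_comp]
    subst hS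
    exact ⟨rfl, Equiv.ext fun t => (S.1.orderEmbOfFin S.2).injective (congr_fun h t)⟩
  have hli : LinearIndependent K v := by
    rw [Fintype.linearIndependent_iff]
    intro c hc S'
    have := congr_fun hc (emb S')
    rw [Finset.sum_apply, Finset.sum_eq_single S'] at this
    · simp only [v, asym, Pi.smul_apply, Matrix.of_apply, Pi.zero_apply] at this
      rw [Finset.sum_eq_single 1] at this
      · simpa using this
      · intro π _ hπ
        rw [if_neg fun h => hπ (hemb _ _ π h).2]
      · simp
    · intro S _ hS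
      simp only [v, asym, Pi.smul_apply, Matrix.of_apply]
      rw [Finset.sum_eq_zero, smul_zero]
      intro π _
      rw [if_neg fun h => hS (hemb _ _ π h).1]
    · simp
  have hspan : Submodule.span K (Set.range (asym r d K).row) = Submodule.span K (Set.range v) := by
    refine le_antisymm (Submodule.span_le.2 ?_) (Submodule.span_mono ?_)
    · rintro _ ⟨I, rfl⟩
      rw [SetLike.mem_coe]
      by_cases hI : Function.Injective I
      · let S : {S : Finset (Fin d) // S.card = r} :=
          ⟨Finset.univ.image I, by rw [Finset.card_image_of_injective _ hI, Finset.card_univ, Fintype.card_fin]⟩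
        let ρ₀ : Fin r → Fin r := fun t =>
          (S.1.orderIsoOfFin S.2).symm ⟨I t, Finset.mem_image_of_mem I (Finset.mem_univ t)⟩
        have hρ : Function.Injective ρ₀ := fun a b h => hI (congr_arg Subtype.val
          ((S.1.orderIsoOfFin S.2).symm.injective h))
        let ρ : Equiv.Perm (Fin r) :=
          Equiv.ofBijective ρ₀ (Finite.injective_iff_bijective.1 hρ)
        have hIρ : I = emb S ∘ ⇑ρ := by
          funext t
          change I t = S.1.orderEmbOfFin S.2 (ρ₀ t)
          rw [← Finset.coe_orderIsoOfFin_apply]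
          simp [ρ₀]
        change asym r d K I ∈ _
        rw [hIρ, asym_row_comp]
        exact Submodule.smul_mem _ _ (Submodule.subset_span ⟨S, rfl⟩)
      · change asym r d K I ∈ _
        rw [asym_row_eq_zero I hI]
        exact zero_mem _
    · rintro _ ⟨S, rfl⟩
      exact ⟨emb S, rfl⟩
  rw [hspan, finrank_span_eq_card hli, Fintype.card_finset_len, Fintype.card_fin]

/-- Dimension of the left ideal generated by a matrix. -/
theorem finrank_range_mulRight {ι : Type*} [Fintype ι] [DecidableEq ι] (S : Matrix ι ι K) :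
    Module.finrank K (LinearMap.range (LinearMap.mulRight K S)) =
      Fintype.card ι * Module.finrank K (Submodule.span K (Set.range S.row)) := by
  classical
  rw [← range_vecMulLinear]
  let W := LinearMap.range (Matrix.vecMulLinear S)
  let e : LinearMap.range (LinearMap.mulRight K S) ≃ₗ[K] (ι → W) :=
    { toFun := fun X i => ⟨X.1 i, by
        obtain ⟨Y, hY⟩ := X.2
        exact ⟨Y i, by rw [← hY]; rfl⟩⟩
      map_add' := fun _ _ => rfl
      map_smul' := fun _ _ => rfl
      invFun := fun w => ⟨Matrix.of fun i => (w i : ι → K),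
        ⟨Matrix.of fun i => (w i).2.choose, funext fun i => (w i).2.choose_spec⟩⟩
      left_inv := fun _ => rfl
      right_inv := fun _ => rfl }
  rw [e.finrank_eq, Module.finrank_pi_fintype, Finset.sum_const, Finset.card_univ, smul_eq_mul]

end Matrices

/-- Galois invariant elements of a base change are rational. -/
theorem exists_one_tmul_of_fixed {k K : Type*} [Field k] [Field K] [Algebra k K]
    [FiniteDimensional k K] [IsGalois k K] {M : Type*} [AddCommGroup M] [Module k M] (x : K ⊗[k] M)
    (h : ∀ σ : K ≃ₐ[k] K, LinearMap.rTensor M σ.toLinearMap x = x) :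
    ∃ m : M, x = 1 ⊗ₜ[k] m := by
  classical
  let 𝒞 := Module.Free.chooseBasis k M
  let e := TensorProduct.equivFinsuppOfBasisRight (M := K) 𝒞
  have hσ : ∀ (σ : K ≃ₐ[k] K) (y : K ⊗[k] M) (i), e (LinearMap.rTensor M σ.toLinearMap y) i = σ (e y i) := by
    intro σ y i
    induction y using TensorProduct.induction_on with
    | zero => simp
    | tmul c m => simp [e]
    | add y z hy hz => simp [hy, hz]
  have hc : ∀ i, ∃ a : k, algebraMap k K a = e x i := fun i =>
    IntermediateField.mem_bot.1 ((IsGalois.mem_bot_iff_fixed _).2 fun σ => by rw [← hσ, h σ])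
  choose a ha using hc
  refine ⟨∑ i ∈ (e x).support, a i • 𝒞 i, ?_⟩
  rw [TensorProduct.tmul_sum]
  conv_lhs => rw [← e.symm_apply_apply x, TensorProduct.equivFinsuppOfBasisRight_symm_apply,
    Finsupp.sum]
  refine Finset.sum_congr rfl fun i _ => ?_
  rw [TensorProduct.tmul_smul, TensorProduct.smul_tmul', ← Algebra.algebraMap_eq_smul_one, ha]

theorem finrank_range_baseChange {k : Type*} [Field k] (K : Type*) [Field K] [Algebra k K]
    {M N : Type*} [AddCommGroup M] [Module k M] [AddCommGroup N] [Module k N] [FiniteDimensional k N]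
    (f : M →ₗ[k] N) :
    Module.finrank K (LinearMap.range (f.baseChange K)) = Module.finrank k (LinearMap.range f) := by
  have h1 : f.baseChange K =
      ((LinearMap.range f).subtype.baseChange K).comp (f.rangeRestrict.baseChange K) := by
    rw [← LinearMap.baseChange_comp]; rfl
  have hs : Function.Surjective (f.rangeRestrict.baseChange K) := by
    intro y
    exact LinearMap.lTensor_surjective K f.surjective_rangeRestrict y
  have hi : Function.Injective ((LinearMap.range f).subtype.baseChange K) :=
    Module.Flat.lTensor_preserves_injective_linearMap (M := K) _ Subtype.val_injective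
  rw [h1, LinearMap.range_comp, LinearMap.range_eq_top.2 hs, Submodule.map_top,
    LinearMap.finrank_range_of_inj hi, Module.finrank_baseChange]

/-- Skolem–Noether for a representation twisted by a field automorphism. -/
theorem exists_twist {k K : Type*} [Field k] [Field K] [Algebra k K] {d : ℕ} [NeZero d]
    {A : Type*} [Ring A] [Algebra k A] [Algebra.IsCentral k A] [IsSimpleRing A]
    (g : A →ₐ[k] Matrix (Fin d) (Fin d) K) (σ : K ≃ₐ[k] K) :
    ∃ u : (Matrix (Fin d) (Fin d) K)ˣ,
      ∀ a, (g a).map σ = (u : Matrix (Fin d) (Fin d) K) * g a * ((u⁻¹ : _ˣ) : Matrix (Fin d) (Fin d) K) := by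
  have := isSimpleRing_tensor k K A
  let F : (A →ₐ[k] Matrix (Fin d) (Fin d) K) → (K ⊗[k] A →ₐ[K] Matrix (Fin d) (Fin d) K) :=
    fun h => Algebra.TensorProduct.lift (Algebra.ofId K _) h (fun x y => Algebra.commutes x (h y))
  have hF : ∀ h a, F h (1 ⊗ₜ[k] a) = h a := fun h a => by
    refine (Algebra.TensorProduct.lift_tmul _ _ _ _ _).trans ?_
    rw [map_one, one_mul]
  obtain ⟨u, hu⟩ := skolemNoether (F (σ.toAlgHom.mapMatrix.comp g)) (F g)
  exact ⟨u, fun a => by have := hu (1 ⊗ₜ a); rw [hF, hF] at this; exact this⟩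

/-- The multilinear map `a ↦ g a₁ ⊗ ⋯ ⊗ g aᵣ`. -/
noncomputable def piRepMulti {k K : Type*} [Field k] [Field K] [Algebra k K] {d : ℕ} {A : Type*}
    [Ring A] [Algebra k A] (g : A →ₐ[k] Matrix (Fin d) (Fin d) K) (r : ℕ) :
    MultilinearMap k (fun _ : Fin r => A) (Matrix (Fin r → Fin d) (Fin r → Fin d) K) :=
    { toFun := fun a => piMat fun t => g (a t)
      map_update_add' := @fun _ a t x y => by
        ext I J
        have hu : ∀ z : A, (∏ u, g (Function.update a t z u) (I u) (J u)) =
            g z (I t) (J t) * ∏ u ∈ Finset.univ.erase t, g (a u) (I u) (J u) := fun z => by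
          rw [← Finset.mul_prod_erase Finset.univ (fun u => g (Function.update a t z u) (I u) (J u))
            (Finset.mem_univ t), Function.update_self]
          congr 1
          exact Finset.prod_congr rfl fun u hu => by
            rw [Function.update_of_ne (Finset.ne_of_mem_erase hu)]
        simp only [piMat, Matrix.of_apply, Matrix.add_apply, hu, map_add, add_mul]
      map_update_smul' := @fun _ a t c x => by
        ext I J
        have hu : ∀ z : A, (∏ u, g (Function.update a t z u) (I u) (J u)) =
            g z (I t) (J t) * ∏ u ∈ Finset.univ.erase t, g (a u) (I u) (J u) := fun z => by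
          rw [← Finset.mul_prod_erase Finset.univ (fun u => g (Function.update a t z u) (I u) (J u))
            (Finset.mem_univ t), Function.update_self]
          congr 1
          exact Finset.prod_congr rfl fun u hu => by
            rw [Function.update_of_ne (Finset.ne_of_mem_erase hu)]
        simp only [piMat, Matrix.of_apply, Matrix.smul_apply, hu, map_smul, smul_mul_assoc] }

/-- The representation of a tensor power. -/
noncomputable def piRep {k K : Type*} [Field k] [Field K] [Algebra k K] {d : ℕ} {A : Type*}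
    [Ring A] [Algebra k A] (g : A →ₐ[k] Matrix (Fin d) (Fin d) K) (r : ℕ) :
    CSAGal.tpow k A r →ₐ[k] Matrix (Fin r → Fin d) (Fin r → Fin d) K :=
  PiTensorProduct.liftAlgHom (piRepMulti g r)
    (by
      change piMat _ = _
      rw [← piMat_one]
      exact congr_arg piMat (funext fun t => map_one g))
    (fun x y => by
      change piMat _ = piMat _ * piMat _
      rw [piMat_mul]
      exact congr_arg piMat (funext fun t => map_mul g (x t) (y t)))

theorem piRep_tprod {k K : Type*} [Field k] [Field K] [Algebra k K] {d : ℕ} {A : Type*}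
    [Ring A] [Algebra k A] (g : A →ₐ[k] Matrix (Fin d) (Fin d) K) (r : ℕ) (a : Fin r → A) :
    piRep g r (PiTensorProduct.tprod k a) = piMat fun t => g (a t) :=
  PiTensorProduct.lift.tprod a

/-- The base-changed representation. -/
noncomputable def piRepK {k K : Type*} [Field k] [Field K] [Algebra k K] {d : ℕ} {A : Type*}
    [Ring A] [Algebra k A] (g : A →ₐ[k] Matrix (Fin d) (Fin d) K) (r : ℕ) :
    K ⊗[k] CSAGal.tpow k A r →ₐ[K] Matrix (Fin r → Fin d) (Fin r → Fin d) K :=
  Algebra.TensorProduct.lift (Algebra.ofId K _) (piRep g r) (fun x y => Algebra.commutes x _)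

theorem piRepK_tmul {k K : Type*} [Field k] [Field K] [Algebra k K] {d : ℕ} {A : Type*}
    [Ring A] [Algebra k A] (g : A →ₐ[k] Matrix (Fin d) (Fin d) K) (r : ℕ) (c : K) (q : k)
    (a : Fin r → A) : piRepK g r (c ⊗ₜ[k] (q • PiTensorProduct.tprod k a)) =
      (algebraMap k K q * c) • piMat fun t => g (a t) := by
  refine (Algebra.TensorProduct.lift_tmul _ _ _ _ _).trans ?_
  rw [map_smul, piRep_tprod]
  change algebraMap K _ c * (q • _) = _
  rw [← Algebra.smul_def, ← algebraMap_smul K q, smul_smul, mul_comm]

theorem piRepK_twist {k K : Type*} [Field k] [Field K] [Algebra k K] {d : ℕ} {A : Type*}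
    [Ring A] [Algebra k A] (g : A →ₐ[k] Matrix (Fin d) (Fin d) K) (r : ℕ) (σ : K ≃ₐ[k] K)
    (u : (Matrix (Fin d) (Fin d) K)ˣ)
    (hu : ∀ a, (g a).map σ = (u : Matrix (Fin d) (Fin d) K) * g a * ((u⁻¹ : _ˣ) : Matrix (Fin d) (Fin d) K))
    (z : K ⊗[k] CSAGal.tpow k A r) :
    (piRepK g r z).map σ = (piMat fun _ => (u : Matrix (Fin d) (Fin d) K)) *
      piRepK g r (LinearMap.rTensor _ σ.toLinearMap z) *
      (piMat fun _ => ((u⁻¹ : _ˣ) : Matrix (Fin d) (Fin d) K)) := by
  induction z using TensorProduct.induction_on with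
  | zero => simp
  | add z z' hz hz' =>
    rw [map_add, map_add, map_add, Matrix.map_add σ (map_add σ), hz, hz', mul_add, add_mul]
  | tmul c w =>
    induction w using PiTensorProduct.induction_on with
    | smul_tprod q a =>
      have hUa : (piMat fun _ => (u : Matrix (Fin d) (Fin d) K)) * piMat (fun t => g (a t)) *
          (piMat fun _ => ((u⁻¹ : _ˣ) : Matrix (Fin d) (Fin d) K)) = (piMat fun t => g (a t)).map σ := by
        rw [piMat_mul, piMat_mul]
        ext I J
        simp only [piMat, Matrix.of_apply, Matrix.map_apply, map_prod, Pi.mul_apply, ← hu]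
      rw [LinearMap.rTensor_tmul, piRepK_tmul, piRepK_tmul, Matrix.map_smul' σ _ _ (map_mul σ), map_mul,
        AlgEquiv.commutes, ← hUa, Matrix.mul_smul, Matrix.smul_mul]
      rfl
    | add w w' hw hw' =>
      rw [TensorProduct.tmul_add, map_add, map_add, map_add, Matrix.map_add σ (map_add σ), hw,
        hw', mul_add, add_mul]

/-- The dimension of a principal left ideal, computed after splitting. -/
theorem finrank_leftIdeal_eq {k K : Type*} [Field k] [Field K] [Algebra k K] {T : Type*} [Ring T]
    [Algebra k T] [FiniteDimensional k T] {ι : Type*} [Fintype ι] [DecidableEq ι] (s₀ : T)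
    (Φ : K ⊗[k] T ≃ₐ[K] Matrix ι ι K) (S : Matrix ι ι K) (hS : Φ (1 ⊗ₜ[k] s₀) = S) :
    Module.finrank k (LinearMap.range (LinearMap.toSpanSingleton T T s₀)) =
      Fintype.card ι * Module.finrank K (Submodule.span K (Set.range S.row)) := by
  have hJ : (LinearMap.range (LinearMap.toSpanSingleton T T s₀)).restrictScalars k =
      LinearMap.range (LinearMap.mulRight k s₀) := Submodule.ext fun z => Iff.rfl
  change Module.finrank k
    ((LinearMap.range (LinearMap.toSpanSingleton T T s₀)).restrictScalars k) = _
  rw [hJ, ← finrank_range_baseChange K, ← finrank_range_mulRight S]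
  have hbc : (LinearMap.mulRight k s₀).baseChange K =
      LinearMap.mulRight K ((1 : K) ⊗ₜ[k] s₀) := by
    refine LinearMap.ext fun z => ?_
    induction z using TensorProduct.induction_on with
    | zero => simp
    | tmul c b => simp [Algebra.TensorProduct.tmul_mul_tmul]
    | add x y hx hy => simp [add_mul, hx, hy]
  rw [hbc, ← LinearEquiv.finrank_map_eq Φ.toLinearEquiv]
  have : (LinearMap.range (LinearMap.mulRight K ((1 : K) ⊗ₜ[k] s₀))).map Φ.toLinearEquiv.toLinearMap =
      LinearMap.range (LinearMap.mulRight K S) := by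
    refine Submodule.ext fun M => ⟨?_, ?_⟩
    · rintro ⟨_, ⟨y, rfl⟩, rfl⟩
      exact ⟨Φ y, by rw [LinearMap.mulRight_apply, ← hS, ← map_mul]; rfl⟩
    · rintro ⟨Y, rfl⟩
      exact ⟨_, ⟨Φ.symm Y, rfl⟩, by
        change Φ (Φ.symm Y * _) = Y * S
        rw [map_mul, hS, Φ.apply_symm_apply]⟩
  exact congr_arg (fun W : Submodule K (Matrix ι ι K) => Module.finrank K W) this

/-- `A ^ ⊗ r` has a left ideal of dimension `choose d r * d ^ r`, for `A` of degree `d`. -/
theorem exists_leftIdeal_tpow {k : Type*} [Field k] {A : Type*} [Ring A] [Algebra k A]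
    [Algebra.IsCentral k A] [IsSimpleRing A] [FiniteDimensional k A] {d : ℕ}
    (hd : Module.finrank k A = d ^ 2) (r : ℕ) :
    ∃ J : Submodule (CSAGal.tpow k A r) (CSAGal.tpow k A r),
      Module.finrank k J = d.choose r * d ^ r := by
  classical
  obtain ⟨K, _, _, hs⟩ := exists_isSplit_galois k A
  obtain ⟨d', hd', g, hd0⟩ := exists_algHom_of_isSplit k hs
  obtain rfl : d' = d := Nat.mul_self_inj.1 (by rw [hd', hd, sq])
  have : NeZero d' := ⟨hd0⟩
  obtain ⟨hc, hsimp⟩ := csa_tpow k A r
  let Φ₀ := piRepK g r
  have := isSimpleRing_tensor k K (CSAGal.tpow k A r)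
  let Φ := AlgEquiv.ofBijective Φ₀ (bijective_of_isSimpleRing Φ₀ (by
    rw [Module.finrank_baseChange, finrank_tpow, hd, Module.finrank_matrix, Module.finrank_self,
      mul_one, Fintype.card_fun, Fintype.card_fin, Fintype.card_fin, ← pow_mul, ← pow_add]
    ring))
  let s' := Φ.symm (asym r d' K)
  obtain ⟨s₀, hs₀⟩ := exists_one_tmul_of_fixed s' fun σ => by
    obtain ⟨u, hu⟩ := exists_twist g σ
    let U : Matrix (Fin r → Fin d') (Fin r → Fin d') K := piMat fun _ => (u : Matrix (Fin d') (Fin d') K)
    let U' : Matrix (Fin r → Fin d') (Fin r → Fin d') K :=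
      piMat fun _ => ((u⁻¹ : _ˣ) : Matrix (Fin d') (Fin d') K)
    have hUU : U' * U = 1 := by
      rw [piMat_mul, ← piMat_one]; exact congr_arg piMat (funext fun _ => u.inv_mul)
    have key := piRepK_twist g r σ u hu
    have h1 : (Φ s').map σ = U * Φ (LinearMap.rTensor _ σ.toLinearMap s') * U' := key s'
    rw [AlgEquiv.apply_symm_apply, show (asym r d' K).map σ = asym r d' K from asym_map σ.toRingHom] at h1
    apply Φ.injective
    rw [AlgEquiv.apply_symm_apply]
    calc Φ (LinearMap.rTensor _ σ.toLinearMap s')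
        = U' * (U * Φ (LinearMap.rTensor _ σ.toLinearMap s') * U') * U := by
          simp only [mul_assoc]; rw [hUU, mul_one, ← mul_assoc, hUU, one_mul]
      _ = U' * asym r d' K * U := by rw [← h1]
      _ = asym r d' K := by
          rw [(piMat_const_commute ((u⁻¹ : _ˣ) : Matrix (Fin d') (Fin d') K)).eq, mul_assoc, hUU,
            mul_one]
  refine ⟨LinearMap.range (LinearMap.toSpanSingleton (CSAGal.tpow k A r) _ s₀), ?_⟩
  rw [finrank_leftIdeal_eq s₀ Φ (asym r d' K) (by rw [← hs₀]; exact Φ.apply_symm_apply _),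
    finrank_span_asym, Fintype.card_fun, Fintype.card_fin, Fintype.card_fin, mul_comm]

/-- A left ideal of dimension `c * √dim` forces the index to divide `c`. -/
theorem index_dvd_of_leftIdeal {k : Type*} [Field k] {T : Type*} [Ring T] [Algebra k T]
    [Algebra.IsCentral k T] [IsSimpleRing T] [FiniteDimensional k T] {D : Type*} [DivisionRing D]
    [Algebra k D] [FiniteDimensional k D] [Algebra.IsCentral k D] (h : BrEq k T D) {e : ℕ}
    (he : Module.finrank k D = e ^ 2) {N : ℕ} (hN : Module.finrank k T = N ^ 2) {c : ℕ}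
    (J : Submodule T T) (hJ : Module.finrank k J = c * N) : e ∣ c := by
  rcases Nat.eq_zero_or_pos c with rfl | hc
  · exact dvd_zero e
  have hN0 : 0 < N := by
    rcases Nat.eq_zero_or_pos N with rfl | hN'
    · exact absurd hN (by simp [(Module.finrank_pos (R := k) (M := T)).ne'])
    · exact hN'
  obtain ⟨m, hm, ⟨f⟩⟩ := exists_matrix_of_brEq h
  have : FiniteDimensional k J :=
    FiniteDimensional.of_injective (J.subtype.restrictScalars k) Subtype.val_injective
  have : Nontrivial J := Module.nontrivial_of_finrank_pos (R := k) (by rw [hJ]; exact Nat.mul_pos hc hN0)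
  obtain ⟨q, hq, S, hS, ⟨eJ⟩⟩ := exists_linearEquiv_pi k T J
  have : NeZero m := ⟨hm⟩
  let ρ : T →ₐ[k] Module.End k (Fin m → D) := (colAction k D m).comp f.toAlgHom
  let : Module T (Fin m → D) := Module.compHom _ ρ.toRingHom
  have : IsScalarTower k T (Fin m → D) := ⟨fun s t v => by
    change ρ (s • t) v = s • ρ t v
    rw [map_smul, LinearMap.smul_apply]⟩
  have : IsSimpleModule T (Fin m → D) :=
    isSimpleModule_iff_toSpanSingleton_surjective.2 ⟨inferInstance, fun x hx y => by
      obtain ⟨M, hM⟩ := colAction_trans k D m x hx y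
      refine ⟨f.symm M, ?_⟩
      change colAction k D m (f (f.symm M)) x = y
      rw [f.apply_symm_apply, hM]⟩
  obtain ⟨gS⟩ := nonempty_linearEquiv_of_isSimpleModule k T S (Fin m → D)
  have hdim := ((eJ.trans (LinearEquiv.piCongrRight fun _ => gS)).restrictScalars k).finrank_eq
  rw [hJ] at hdim
  simp only [Module.finrank_pi_fintype, Finset.sum_const, Finset.card_univ, Fintype.card_fin,
    smul_eq_mul, he] at hdim
  have hNm : N = m * e := by
    have := f.toLinearEquiv.finrank_eq
    rw [hN, Module.finrank_matrix, Fintype.card_fin, he] at this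
    exact Nat.pow_left_injective two_ne_zero (show N ^ 2 = (m * e) ^ 2 by rw [this]; ring)
  refine ⟨q, Nat.eq_of_mul_eq_mul_right hN0 ?_⟩
  rw [hdim, hNm]
  ring

end Groth.Agent.CSA
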