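import Groth.Agent.CSA.Azumaya

/-!
# Azumaya algebras: descent and ideals
-/

namespace Groth.Agent.CSA.Azu

open TensorProduct MulOpposite

universe u v w

section

variable (R : Type u) [CommRing R]

theorem subsingleton_of_baseChange (S : Type v) [CommRing S] [Algebra R S]
    (hS : Function.Surjective (PrimeSpectrum.comap (algebraMap R S))) (M : Type w) [AddCommGroup M]
    [Module R M] [Module.Finite R M] (h : Subsingleton (S ⊗[R] M)) : Subsingleton M := by
  rw [← not_nontrivial_iff_subsingleton]
  intro hnt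
  obtain ⟨N, hN⟩ := IsCoatomic.exists_coatom (α := Submodule R M)
  have : IsSimpleModule R (M ⧸ N) := isSimpleModule_iff_isCoatom.2 hN
  obtain ⟨m, hm, ⟨e⟩⟩ := isSimpleModule_iff_quot_maximal.1 this
  obtain ⟨q, hq⟩ := hS ⟨m, hm.isPrime⟩
  have hle : m ≤ LinearMap.ker ((Ideal.Quotient.mkₐ R q.asIdeal).toLinearMap.comp (Algebra.linearMap R S)) := by
    intro r hr
    have : r ∈ (PrimeSpectrum.comap (algebraMap R S) q).asIdeal := by rw [hq]; exact hr
    exact Ideal.Quotient.eq_zero_iff_mem.2 this
  let g : M →ₗ[R] S ⧸ q.asIdeal := (Submodule.liftQ m _ hle).comp (e.toLinearMap.comp N.mkQ)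
  obtain ⟨x, hx⟩ := N.mkQ_surjective (e.symm (Submodule.Quotient.mk 1))
  have h1 : g.liftBaseChange S ((1 : S) ⊗ₜ[R] x) = 1 := by
    simp only [g, LinearMap.liftBaseChange_tmul, one_smul, LinearMap.comp_apply]
    rw [hx, LinearEquiv.coe_toLinearMap, LinearEquiv.apply_symm_apply, Submodule.liftQ_apply]
    simp
  rw [Subsingleton.elim ((1 : S) ⊗ₜ[R] x) 0, map_zero] at h1
  have hq' : Nontrivial (S ⧸ q.asIdeal) := Ideal.Quotient.nontrivial_iff.2 q.isPrime.ne_top
  exact zero_ne_one h1

theorem faithfulSMul_of_baseChange (S : Type v) [CommRing S] [Algebra R S]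
    (hS : Function.Surjective (PrimeSpectrum.comap (algebraMap R S))) (M : Type w) [AddCommGroup M]
    [Module R M] [Module.Finite R M] [Module.Projective R M] [FaithfulSMul S (S ⊗[R] M)] :
    FaithfulSMul R M := by
  let T : Ideal R := Ideal.span {r | ∃ (φ : M →ₗ[R] R) (p : M), φ p = r}
  obtain ⟨n, f, g, -, -, hfg⟩ := Module.Finite.exists_comp_eq_id_of_projective R M
  have hle : (⊤ : Submodule R M) ≤ T • ⊤ := by
    intro x _
    have hx : x = f (g x) := (LinearMap.congr_fun hfg x).symm
    rw [hx, LinearMap.pi_apply_eq_sum_univ f (g x)]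
    exact Submodule.sum_mem _ fun i _ => Submodule.smul_mem_smul
      (Ideal.subset_span ⟨(LinearMap.proj i).comp g, x, rfl⟩) trivial
  obtain ⟨r, hr1, hr0⟩ := Submodule.exists_sub_one_mem_and_smul_eq_zero_of_fg_of_le_smul T ⊤
    Module.Finite.fg_top hle
  have hkill : algebraMap R S r = 0 := FaithfulSMul.eq_of_smul_eq_smul (α := S ⊗[R] M) fun t => by
    rw [zero_smul]
    induction t using TensorProduct.induction_on with
    | zero => simp
    | add a b ha hb => rw [smul_add, ha, hb, add_zero]
    | tmul s p => rw [algebraMap_smul, ← TensorProduct.tmul_smul, hr0 p trivial, TensorProduct.tmul_zero]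
  have hnil : IsNilpotent r := by
    rw [← mem_nilradical, nilradical_eq_sInf, Ideal.mem_sInf]
    intro p hp
    obtain ⟨q, hq⟩ := hS ⟨p, hp⟩
    have : r ∈ (PrimeSpectrum.comap (algebraMap R S) q).asIdeal := by
      rw [PrimeSpectrum.comap_asIdeal, Ideal.mem_comap, hkill]
      exact zero_mem _
    rwa [hq] at this
  have hT : (1 : R) ∈ T := by
    have hu : IsUnit (1 - r) := hnil.isUnit_one_sub
    have hmem : 1 - r ∈ T := by rw [← neg_sub]; exact T.neg_mem hr1
    rw [T.eq_top_of_isUnit_mem hmem hu]
    trivial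
  refine ⟨fun {a b} hab => sub_eq_zero.1 ?_⟩
  have hker : T ≤ LinearMap.ker (LinearMap.mulLeft R (a - b)) := by
    refine Ideal.span_le.2 ?_
    rintro _ ⟨φ, p, rfl⟩
    change (a - b) * φ p = 0
    rw [← smul_eq_mul, ← map_smul, sub_smul, hab, sub_self, map_zero]
  simpa using hker hT

/-- `S ⊗ (A ⊗ Aᵐᵒᵖ) ≅ (S ⊗ A) ⊗ (S ⊗ A)ᵐᵒᵖ`, and the two multiplication maps correspond. -/
theorem exists_square (S : Type v) [CommRing S] [Algebra R S] (A : Type w) [Ring A] [Algebra R A] :
    ∃ ρ : S ⊗[R] (A ⊗[R] Aᵐᵒᵖ) ≃ₗ[S] (S ⊗[R] A) ⊗[S] (S ⊗[R] A)ᵐᵒᵖ,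
      ∀ t, AlgHom.mulLeftRight S (S ⊗[R] A) (ρ t) =
        LinearMap.tensorProductEnd R S A ((AlgHom.mulLeftRight R A).toLinearMap.baseChange S t) := by
  let e : S ⊗[R] Aᵐᵒᵖ ≃ₗ[S] (S ⊗[R] A)ᵐᵒᵖ :=
    (LinearEquiv.baseChange R S _ _ (opLinearEquiv R : A ≃ₗ[R] Aᵐᵒᵖ).symm).trans (opLinearEquiv S)
  refine ⟨(TensorProduct.AlgebraTensorModule.distribBaseChange R S A Aᵐᵒᵖ).trans
    (TensorProduct.congr (LinearEquiv.refl S _) e), fun t => ?_⟩
  induction t using TensorProduct.induction_on with
  | zero => simp
  | add a b ha hb => simp only [map_add, ha, hb]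
  | tmul s z =>
    induction z using TensorProduct.induction_on with
    | zero => simp
    | add a b ha hb => simp only [TensorProduct.tmul_add, map_add, ha, hb]
    | tmul a b =>
      refine (TensorProduct.isBaseChange R A S).algHom_ext _ _ fun x => ?_
      rw [LinearMap.baseChange_tmul, AlgHom.toLinearMap_apply, TensorProduct.mk_apply,
        tensorProductEnd_tmul, mul_one]
      simp [e]

/-- An algebra which is finite projective and becomes Azumaya over a cover is Azumaya. -/
theorem isAzumaya_of_baseChange (S : Type v) [CommRing S] [Algebra R S]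
    (hS : Function.Surjective (PrimeSpectrum.comap (algebraMap R S)))
    (B : Type w) [Ring B] [Algebra R B] [Module.Finite R B] [Module.Projective R B]
    [IsAzumaya S (S ⊗[R] B)] : IsAzumaya R B := by
  have := faithfulSMul_of_baseChange R S hS B
  constructor
  obtain ⟨ρ, hρ⟩ := exists_square R S B
  let θ : B ⊗[R] Bᵐᵒᵖ →ₗ[R] Module.End R B := (AlgHom.mulLeftRight R B).toLinearMap
  have : Module.Projective R Bᵐᵒᵖ := Module.Projective.of_equiv (opLinearEquiv R : B ≃ₗ[R] Bᵐᵒᵖ)
  have : Module.Finite R Bᵐᵒᵖ := Module.Finite.equiv (opLinearEquiv R : B ≃ₗ[R] Bᵐᵒᵖ)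
  have hbc : Function.Bijective (θ.baseChange S) := by
    have hcomp : Function.Bijective (fun t => LinearMap.tensorProductEnd R S B (θ.baseChange S t)) := by
      have : (fun t => LinearMap.tensorProductEnd R S B (θ.baseChange S t)) =
          fun t => AlgHom.mulLeftRight S (S ⊗[R] B) (ρ t) := funext fun t => (hρ t).symm
      rw [this]
      exact IsAzumaya.bij.comp ρ.bijective
    exact (Function.Bijective.of_comp_iff' (bijective_tensorProductEnd R S B) _).1 hcomp
  have : Module.Finite R (Module.End R B) := by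
    obtain ⟨n, f, g, -, -, hfg⟩ := Module.Finite.exists_comp_eq_id_of_projective R B
    exact Module.Finite.of_surjective ((f.compRight R).comp (g.lcomp R (Fin n → R)))
      fun u => ⟨(g.comp u).comp f, LinearMap.ext fun p => by
        simp [show ∀ x, f (g x) = x from LinearMap.congr_fun hfg]⟩
  have hsurj : Function.Surjective θ := by
    have hc : Subsingleton (S ⊗[R] (Module.End R B ⧸ LinearMap.range θ)) := by
      refine subsingleton_of_forall_eq 0 fun t => ?_
      obtain ⟨t, rfl⟩ := LinearMap.lTensor_surjective S (Submodule.mkQ_surjective (LinearMap.range θ)) t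
      obtain ⟨u, rfl⟩ := hbc.2 t
      change ((Submodule.mkQ (LinearMap.range θ)).lTensor S) ((θ.lTensor S) u) = 0
      rw [← LinearMap.comp_apply, ← LinearMap.lTensor_comp, LinearMap.range_mkQ_comp, LinearMap.lTensor_zero]
      rfl
    have := subsingleton_of_baseChange R S hS _ hc
    rw [← LinearMap.range_eq_top]
    exact Submodule.Quotient.subsingleton_iff.1 this
  have : Module.Projective R (Module.End R B) := by
    obtain ⟨n, f, g, -, -, hfg⟩ := Module.Finite.exists_comp_eq_id_of_projective R B
    refine Module.Projective.of_split ((g.compRight R).comp (f.lcomp R B))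
      ((f.compRight R).comp (g.lcomp R (Fin n → R))) (LinearMap.ext fun u => LinearMap.ext fun p => ?_)
    simp [show ∀ x, f (g x) = x from LinearMap.congr_fun hfg]
  obtain ⟨σ, hσ⟩ := Module.projective_lifting_property θ LinearMap.id hsurj
  let K := LinearMap.ker θ
  let pr : B ⊗[R] Bᵐᵒᵖ →ₗ[R] K := (LinearMap.id - σ.comp θ).codRestrict K fun x => by
    rw [LinearMap.mem_ker, LinearMap.sub_apply, map_sub, LinearMap.comp_apply, LinearMap.id_apply,
      ← LinearMap.comp_apply θ σ, hσ, LinearMap.id_apply, sub_self]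
  have hpr : Function.Surjective pr := fun x => ⟨x, Subtype.ext (by
    simp [pr, LinearMap.codRestrict_apply, show θ x = 0 from x.2])⟩
  have : Module.Finite R K := Module.Finite.of_surjective pr hpr
  have hK : Subsingleton (S ⊗[R] K) := by
    refine subsingleton_of_forall_eq 0 fun t => ?_
    have hcomp : pr.comp K.subtype = LinearMap.id := LinearMap.ext fun x => Subtype.ext (by
      simp [pr, LinearMap.codRestrict_apply, show θ x = 0 from x.2])
    have h0 : θ.baseChange S (K.subtype.lTensor S t) = 0 := by
      change θ.lTensor S (K.subtype.lTensor S t) = 0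
      rw [← LinearMap.comp_apply, ← LinearMap.lTensor_comp, LinearMap.comp_ker_subtype, LinearMap.lTensor_zero]
      rfl
    have h1 : K.subtype.lTensor S t = 0 := hbc.1 (by rw [h0, map_zero])
    have h2 := congr_arg (pr.lTensor S) h1
    rwa [← LinearMap.comp_apply, ← LinearMap.lTensor_comp, hcomp, LinearMap.lTensor_id, map_zero] at h2
  have : Subsingleton K := @subsingleton_of_baseChange R _ S _ _ hS K K.addCommGroup _ _ hK
  refine ⟨(injective_iff_map_eq_zero θ).2 fun x hx => ?_, hsurj⟩
  exact congr_arg Subtype.val (Subsingleton.elim (⟨x, hx⟩ : K) 0)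

/-- Faithfully flat descent of the Azumaya property. -/
theorem isAzumaya_of_faithfullyFlat (S : Type v) [CommRing S] [Algebra R S]
    [Module.FaithfullyFlat R S] (B : Type w) [Ring B] [Algebra R B] [IsAzumaya S (S ⊗[R] B)] :
    IsAzumaya R B := by
  have : Module.Finite R B := Module.Finite.of_finite_tensorProduct_of_faithfullyFlat S
  obtain ⟨n, f, hf⟩ := Module.Finite.exists_fin' R B
  have hker : (LinearMap.ker f).FG := by
    rw [← Module.Finite.iff_fg]
    have : Module.Finite S (S ⊗[R] LinearMap.ker f) := by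
      have hex : Function.Exact ((LinearMap.ker f).subtype.lTensor S) (f.lTensor S) :=
        Module.Flat.lTensor_exact S (LinearMap.exact_subtype_ker_map f)
      have hinj : Function.Injective ((LinearMap.ker f).subtype.baseChange S) :=
        Module.Flat.lTensor_preserves_injective_linearMap (M := S) _ (LinearMap.ker f).injective_subtype
      obtain ⟨σ, hσ⟩ := Module.projective_lifting_property (f.baseChange S) LinearMap.id
        (LinearMap.lTensor_surjective S hf)
      let pr : S ⊗[R] (Fin n → R) →ₗ[S] LinearMap.ker (f.baseChange S) :=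
        (LinearMap.id - σ.comp (f.baseChange S)).codRestrict _ fun x => by
          rw [LinearMap.mem_ker, LinearMap.sub_apply, map_sub, LinearMap.comp_apply, LinearMap.id_apply,
            ← LinearMap.comp_apply (f.baseChange S) σ, hσ, LinearMap.id_apply, sub_self]
      have : Module.Finite S (LinearMap.ker (f.baseChange S)) := Module.Finite.of_surjective pr fun x =>
        ⟨x, Subtype.ext (by simp [pr, LinearMap.codRestrict_apply, show (f.baseChange S) x = 0 from x.2])⟩
      have hrange : LinearMap.ker (f.baseChange S) =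
          LinearMap.range ((LinearMap.ker f).subtype.baseChange S) := SetLike.ext fun x => hex x
      exact Module.Finite.equiv ((LinearEquiv.ofEq _ _ hrange).trans (LinearEquiv.ofInjective _ hinj).symm)
    exact Module.Finite.of_finite_tensorProduct_of_faithfullyFlat S
  have : Module.FinitePresentation R B := Module.finitePresentation_of_surjective f hf hker
  have : Module.Flat R B := Module.Flat.of_flat_tensorProduct R B S
  have : Module.Projective R B := Module.Flat.projective_of_finitePresentation
  exact isAzumaya_of_baseChange R S PrimeSpectrum.comap_surjective_of_faithfullyFlat B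

/-- An Azumaya algebra retracts onto the ground ring. -/
theorem exists_retraction (A : Type w) [Ring A] [Algebra R A] [IsAzumaya R A] :
    ∃ π : A →ₗ[R] R, π 1 = 1 := by
  let τ : Ideal R := LinearMap.range (LinearMap.applyₗ (1 : A) : (A →ₗ[R] R) →ₗ[R] R)
  suffices h : τ = ⊤ by
    obtain ⟨π, hπ⟩ := (h ▸ Submodule.mem_top : (1 : R) ∈ τ)
    exact ⟨π, hπ⟩
  obtain ⟨n, f, g, -, -, hfg⟩ := Module.Finite.exists_comp_eq_id_of_projective R A
  have h1 : (1 : A) ∈ τ • (⊤ : Submodule R A) := by
    rw [show (1 : A) = f (g 1) from (LinearMap.congr_fun hfg 1).symm, LinearMap.pi_apply_eq_sum_univ f (g 1)]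
    exact Submodule.sum_mem _ fun i _ => Submodule.smul_mem_smul
      ⟨(LinearMap.proj i).comp g, rfl⟩ trivial
  have hle : (⊤ : Submodule R A) ≤ τ • ⊤ := by
    intro a _
    rw [← mul_one a]
    refine Submodule.smul_induction_on h1 (fun r hr x _ => ?_) fun x y hx hy => ?_
    · rw [mul_smul_comm]
      exact Submodule.smul_mem_smul hr trivial
    · rw [mul_add]
      exact add_mem hx hy
  obtain ⟨r, hr1, hr0⟩ := Submodule.exists_sub_one_mem_and_smul_eq_zero_of_fg_of_le_smul τ ⊤
    Module.Finite.fg_top hle
  have hr : r = 0 := FaithfulSMul.eq_of_smul_eq_smul (α := A) fun p => by rw [hr0 p trivial, zero_smul]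
  rw [hr, zero_sub, neg_mem_iff] at hr1
  exact (Ideal.eq_top_iff_one τ).2 hr1

/-- Two-sided ideals of an Azumaya algebra are extended from the ground ring. -/
theorem twoSided_eq_map (A : Type w) [Ring A] [Algebra R A] [IsAzumaya R A] (I : TwoSidedIdeal A) :
    TwoSidedIdeal.asIdeal I =
      Ideal.map (algebraMap R A) ((TwoSidedIdeal.asIdeal I).comap (algebraMap R A)) := by
  refine le_antisymm (fun x hx => ?_) Ideal.map_comap_le
  rw [TwoSidedIdeal.mem_asIdeal] at hx
  obtain ⟨n, f, g, -, -, hfg⟩ := Module.Finite.exists_comp_eq_id_of_projective R A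
  have hend : ∀ F : Module.End R A, F x ∈ I := by
    intro F
    obtain ⟨t, rfl⟩ := (IsAzumaya.bij (R := R) (A := A)).2 F
    induction t using TensorProduct.induction_on with
    | zero => simpa using I.zero_mem
    | tmul a b =>
      rw [AlgHom.mulLeftRight_apply]
      exact I.mul_mem_right _ _ (I.mul_mem_left _ _ hx)
    | add a b ha hb => rw [map_add, LinearMap.add_apply]; exact I.add_mem ha hb
  rw [show x = f (g x) from (LinearMap.congr_fun hfg x).symm, LinearMap.pi_apply_eq_sum_univ f (g x)]
  refine Submodule.sum_mem _ fun i _ => ?_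
  rw [Algebra.smul_def, Algebra.commutes]
  refine Ideal.mul_mem_left _ _ (Ideal.mem_map_of_mem _ ?_)
  rw [Ideal.mem_comap, TwoSidedIdeal.mem_asIdeal]
  exact hend ((Algebra.linearMap R A).comp ((LinearMap.proj i).comp g))

theorem comap_map_eq (A : Type w) [Ring A] [Algebra R A] [IsAzumaya R A] (J : Ideal R) :
    (Ideal.map (algebraMap R A) J).comap (algebraMap R A) = J := by
  refine le_antisymm (fun r hr => ?_) Ideal.le_comap_map
  obtain ⟨π, hπ⟩ := exists_retraction R A
  rw [Ideal.mem_comap] at hr
  have key : ∀ z ∈ Ideal.map (algebraMap R A) J, ∀ a : A, π (a * z) ∈ J := by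
    intro z hz
    induction hz using Submodule.span_induction with
    | mem z hz =>
      obtain ⟨j, hj, rfl⟩ := hz
      intro a
      rw [← Algebra.commutes, ← Algebra.smul_def, map_smul]
      exact J.mul_mem_right _ hj
    | zero => intro a; simp
    | add x y _ _ hx hy => intro a; rw [mul_add, map_add]; exact add_mem (hx a) (hy a)
    | smul c x _ hx => intro a; rw [smul_eq_mul, ← mul_assoc]; exact hx _
  have := key _ hr 1
  rwa [one_mul, Algebra.algebraMap_eq_smul_one, map_smul, hπ, smul_eq_mul, mul_one] at this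

end

end Groth.Agent.CSA.Azu
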