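import Mathlib

/-!
# Central simple algebras: tensor products, centralisers, base change
-/

namespace Groth.Agent.CSA

open scoped TensorProduct

section Tensor

variable {k : Type*} [Field k] {A : Type*} [Ring A] [Algebra k A] {A' : Type*} [Ring A'] [Algebra k A']
variable {ι : Type*} [DecidableEq ι] (ℬ : Module.Basis ι k A)

/-- The `i`-th coefficient in `A'` of an element of `A ⊗ A'` w.r.t. a basis of `A`. -/
noncomputable def coefL (i : ι) : A ⊗[k] A' →ₗ[k] A' :=
  (Finsupp.lapply i) ∘ₗ (TensorProduct.equivFinsuppOfBasisLeft ℬ).toLinearMap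

theorem coefL_tmul (i : ι) (a : A) (b : A') : coefL ℬ i (a ⊗ₜ[k] b) = ℬ.repr a i • b := by
  simp [coefL]

theorem coefL_mul (i : ι) (c d : A') (x : A ⊗[k] A') :
    coefL ℬ i (((1 : A) ⊗ₜ[k] c) * x * ((1 : A) ⊗ₜ[k] d)) = c * coefL ℬ i x * d := by
  induction x using TensorProduct.induction_on with
  | zero => simp
  | tmul a b => simp [coefL_tmul, Algebra.TensorProduct.tmul_mul_tmul]
  | add x y hx hy => simp [mul_add, add_mul, hx, hy]

theorem coefL_mul_left (i : ι) (c : A') (x : A ⊗[k] A') :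
    coefL ℬ i (((1 : A) ⊗ₜ[k] c) * x) = c * coefL ℬ i x := by
  simpa [← Algebra.TensorProduct.one_def] using coefL_mul ℬ i c 1 x

theorem coefL_mul_right (i : ι) (d : A') (x : A ⊗[k] A') :
    coefL ℬ i (x * ((1 : A) ⊗ₜ[k] d)) = coefL ℬ i x * d := by
  simpa [← Algebra.TensorProduct.one_def] using coefL_mul ℬ i 1 d x

theorem eq_sum_coefL (x : A ⊗[k] A') :
    x = (TensorProduct.equivFinsuppOfBasisLeft ℬ x).sum fun i n => ℬ i ⊗ₜ[k] n := by
  rw [← TensorProduct.equivFinsuppOfBasisLeft_symm_apply, LinearEquiv.symm_apply_apply]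

theorem ext_coefL {x y : A ⊗[k] A'} (h : ∀ i, coefL ℬ i x = coefL ℬ i y) : x = y :=
  (TensorProduct.equivFinsuppOfBasisLeft ℬ).injective (Finsupp.ext h)

variable [Algebra.IsCentral k A'] [IsSimpleRing A']

/-- A nonzero element of a two-sided ideal of `A ⊗ A'` (`A'` central simple) with minimal support
produces an element `a ⊗ 1` of the ideal with smaller or equal support. -/
theorem exists_tmul_one_mem (I : TwoSidedIdeal (A ⊗[k] A')) (x : A ⊗[k] A') (hx : x ∈ I)
    (hx0 : x ≠ 0) :
    ∃ (a : A) (i : ι), ℬ.repr a i = 1 ∧ a ⊗ₜ[k] (1 : A') ∈ I ∧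
      (∀ j, coefL ℬ j x = 0 → ℬ.repr a j = 0) := by
  classical
  let supp : A ⊗[k] A' → Finset ι := fun y => (TensorProduct.equivFinsuppOfBasisLeft ℬ y).support
  have hsupp : ∀ (y : A ⊗[k] A') (j : ι), j ∈ supp y ↔ coefL ℬ j y ≠ 0 := fun y j => by
    simp [supp, coefL]
  let P : ℕ → Prop := fun n => ∃ y ∈ I, y ≠ 0 ∧ supp y ⊆ supp x ∧ (supp y).card = n
  have hP : ∃ n, P n := ⟨_, x, hx, hx0, subset_rfl, rfl⟩
  obtain ⟨y, hyI, hy0, hys, hyc⟩ := Nat.find_spec hP
  have hmin : ∀ z ∈ I, supp z ⊆ supp y → (supp z).card < (supp y).card → z = 0 := by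
    intro z hz hzs hzc
    by_contra hz0
    exact Nat.find_min hP (hyc ▸ hzc) ⟨z, hz, hz0, hzs.trans hys, rfl⟩
  obtain ⟨i, hi⟩ : ∃ i, coefL ℬ i y ≠ 0 := by
    by_contra h
    push Not at h
    exact hy0 (ext_coefL ℬ (by simpa using h))
  -- the ideal of `i`-coefficients
  let J : TwoSidedIdeal A' := TwoSidedIdeal.mk'
    {b | ∃ z ∈ I, supp z ⊆ supp y ∧ coefL ℬ i z = b}
    ⟨0, I.zero_mem, by simp [supp], by simp⟩
    (by
      rintro _ _ ⟨z, hz, hzs, rfl⟩ ⟨w, hw, hws, rfl⟩
      refine ⟨z + w, I.add_mem hz hw, ?_, map_add _ _ _⟩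
      intro j hj
      rw [hsupp] at hj
      by_contra hjy
      apply hj
      have h1 : coefL ℬ j z = 0 := by
        by_contra h; exact hjy (hzs ((hsupp z j).2 h))
      have h2 : coefL ℬ j w = 0 := by
        by_contra h; exact hjy (hws ((hsupp w j).2 h))
      simp [h1, h2])
    (by
      rintro _ ⟨z, hz, hzs, rfl⟩
      refine ⟨-z, I.neg_mem hz, ?_, map_neg _ _⟩
      intro j hj
      apply hzs
      rw [hsupp] at hj ⊢
      simpa using hj)
    (by
      rintro c _ ⟨z, hz, hzs, rfl⟩
      refine ⟨((1 : A) ⊗ₜ[k] c) * z, I.mul_mem_left _ _ hz, ?_, coefL_mul_left ℬ i c z⟩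
      intro j hj
      apply hzs
      rw [hsupp] at hj ⊢
      intro h
      exact hj (by rw [coefL_mul_left, h, mul_zero]))
    (by
      rintro _ d ⟨z, hz, hzs, rfl⟩
      refine ⟨z * ((1 : A) ⊗ₜ[k] d), I.mul_mem_right _ _ hz, ?_, coefL_mul_right ℬ i d z⟩
      intro j hj
      apply hzs
      rw [hsupp] at hj ⊢
      intro h
      exact hj (by rw [coefL_mul_right, h, zero_mul]))
  have h1 : (1 : A') ∈ J :=
    IsSimpleRing.one_mem_of_ne_zero_mem J hi
      ((TwoSidedIdeal.mem_mk' ..).2 ⟨y, hyI, subset_rfl, rfl⟩)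
  obtain ⟨z, hzI, hzs, hzi⟩ := (TwoSidedIdeal.mem_mk' ..).1 h1
  -- all coefficients of `z` are central
  have hcent : ∀ j, coefL ℬ j z ∈ Subalgebra.center k A' := by
    intro j
    rw [Subalgebra.mem_center_iff]
    intro c
    set w := ((1 : A) ⊗ₜ[k] c) * z - z * ((1 : A) ⊗ₜ[k] c) with hw
    have hwI : w ∈ I := I.sub_mem (I.mul_mem_left _ _ hzI) (I.mul_mem_right _ _ hzI)
    have hwc : ∀ j, coefL ℬ j w = c * coefL ℬ j z - coefL ℬ j z * c := fun j => by
      simp [hw, coefL_mul_left, coefL_mul_right]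
    have hwi : i ∉ supp w := by simp [hsupp, hwc, hzi]
    have hws : supp w ⊆ supp y := by
      intro j hj
      apply hzs
      rw [hsupp] at hj ⊢
      intro h
      exact hj (by simp [hwc, h])
    have hlt : (supp w).card < (supp y).card :=
      Finset.card_lt_card ⟨hws, fun h => hwi (h ((hsupp y i).2 hi))⟩
    have := hmin w hwI hws hlt
    exact sub_eq_zero.1 (by rw [← hwc, this, map_zero])
  choose r hr using fun j => (Algebra.IsCentral.out (K := k) (D := A') (hcent j) :
    coefL ℬ j z ∈ (⊥ : Subalgebra k A'))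
  refine ⟨∑ j ∈ supp z, r j • ℬ j, i, ?_, ?_, ?_⟩
  rotate_left
  · have : (∑ j ∈ supp z, r j • ℬ j) ⊗ₜ[k] (1 : A') = z := by
      conv_rhs => rw [eq_sum_coefL ℬ z]
      rw [TensorProduct.sum_tmul, Finsupp.sum]
      refine Finset.sum_congr rfl fun j _ => ?_
      have hrj : r j • (1 : A') = coefL ℬ j z := by
        rw [← Algebra.algebraMap_eq_smul_one]; exact hr j
      rw [TensorProduct.smul_tmul, hrj]
      rfl
    rw [this]; exact hzI
  · intro j hj
    have : j ∉ supp z := fun h => (hsupp x j).1 (hys (hzs h)) hj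
    simp [map_sum, Finsupp.single_apply, this]
  · have hiz : i ∈ supp z := (hsupp z i).2 (by rw [hzi]; exact one_ne_zero)
    have hr1 : r i = 1 := by
      apply (algebraMap k A').injective
      rw [map_one]
      exact (hr i).trans hzi
    simp [map_sum, Finsupp.single_apply, hiz, hr1]

/-- A simple algebra tensor a central simple algebra is simple. -/
theorem isSimpleRing_tensor (k A A' : Type*) [Field k] [Ring A] [Algebra k A] [IsSimpleRing A]
    [Ring A'] [Algebra k A'] [Algebra.IsCentral k A'] [IsSimpleRing A'] :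
    IsSimpleRing (A ⊗[k] A') := by
  classical
  let ℬ := Module.Free.chooseBasis k A
  have hnt : Nontrivial (A ⊗[k] A') :=
    (Algebra.TensorProduct.includeLeft_injective (S := k) (A := A) (B := A')
      (algebraMap k A').injective).nontrivial
  refine IsSimpleRing.of_eq_bot_or_eq_top fun I => ?_
  by_contra h
  push Not at h
  obtain ⟨x, hx, hx0⟩ : ∃ x ∈ I, x ≠ 0 := by
    by_contra h'
    push Not at h'
    apply h.1
    ext x
    exact ⟨fun hx => (TwoSidedIdeal.mem_bot _).2 (h' x hx),
      fun hx => by rw [(TwoSidedIdeal.mem_bot _).1 hx]; exact I.zero_mem⟩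
  obtain ⟨a, i, hai, haI, -⟩ := exists_tmul_one_mem ℬ I x hx hx0
  have ha0 : a ≠ 0 := by rintro rfl; simp at hai
  let f : A →ₐ[k] A ⊗[k] A' := Algebra.TensorProduct.includeLeft
  have h1 : (1 : A) ∈ TwoSidedIdeal.comap f I :=
    IsSimpleRing.one_mem_of_ne_zero_mem _ ha0 ((TwoSidedIdeal.mem_comap f).2 haI)
  rw [TwoSidedIdeal.mem_comap, map_one] at h1
  exact h.2 (TwoSidedIdeal.ext fun y => ⟨fun _ => trivial,
    fun _ => by simpa using I.mul_mem_left y 1 h1⟩)

/-- A simple algebra tensor a central simple algebra is simple, other order. -/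
theorem isSimpleRing_tensor' (k A A' : Type*) [Field k] [Ring A] [Algebra k A] [IsSimpleRing A]
    [Ring A'] [Algebra k A'] [Algebra.IsCentral k A'] [IsSimpleRing A'] :
    IsSimpleRing (A' ⊗[k] A) :=
  IsSimpleRing.of_ringEquiv (Algebra.TensorProduct.comm k A A').toRingEquiv
    (isSimpleRing_tensor k A A')

end Tensor

section Centralizer

variable {k : Type*} [Field k] {A : Type*} [Ring A] [Algebra k A] {A' : Type*} [Ring A'] [Algebra k A']

/-- Centraliser of `B ⊗ 1` in `A ⊗ A'`. -/
theorem mem_range_map_left (B : Subalgebra k A) (x : A ⊗[k] A')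
    (h : ∀ b ∈ B, (b ⊗ₜ[k] (1 : A')) * x = x * (b ⊗ₜ[k] (1 : A'))) :
    x ∈ (Algebra.TensorProduct.map (Subalgebra.centralizer k (B : Set A)).val
      (AlgHom.id k A')).range := by
  classical
  let 𝒞 := Module.Free.chooseBasis k A'
  let e := TensorProduct.equivFinsuppOfBasisRight (M := A) 𝒞
  have hl : ∀ (b : A) (y : A ⊗[k] A') i, e ((b ⊗ₜ[k] (1 : A')) * y) i = b * e y i := by
    intro b y i
    induction y using TensorProduct.induction_on with
    | zero => simp
    | tmul a a' => simp [e, Algebra.TensorProduct.tmul_mul_tmul]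
    | add y z hy hz => simp [mul_add, hy, hz]
  have hr : ∀ (b : A) (y : A ⊗[k] A') i, e (y * (b ⊗ₜ[k] (1 : A'))) i = e y i * b := by
    intro b y i
    induction y using TensorProduct.induction_on with
    | zero => simp
    | tmul a a' => simp [e, Algebra.TensorProduct.tmul_mul_tmul]
    | add y z hy hz => simp [add_mul, hy, hz]
  have hC : ∀ i, e x i ∈ Subalgebra.centralizer k (B : Set A) := by
    intro i
    rw [Subalgebra.mem_centralizer_iff]
    intro b hb
    rw [← hl, ← hr, h b hb]
  rw [← e.symm_apply_apply x, TensorProduct.equivFinsuppOfBasisRight_symm_apply, Finsupp.sum]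
  refine Subalgebra.sum_mem _ fun i _ => ?_
  exact ⟨⟨_, hC i⟩ ⊗ₜ 𝒞 i, rfl⟩

/-- Centraliser of the image of `B ⊗ B'`. -/
theorem mem_range_map_of_commute (B : Subalgebra k A) (B' : Subalgebra k A') (x : A ⊗[k] A')
    (h : ∀ b ∈ B, (b ⊗ₜ[k] (1 : A')) * x = x * (b ⊗ₜ[k] (1 : A')))
    (h' : ∀ b ∈ B', ((1 : A) ⊗ₜ[k] b) * x = x * ((1 : A) ⊗ₜ[k] b)) :
    x ∈ (Algebra.TensorProduct.map (Subalgebra.centralizer k (B : Set A)).val
      (Subalgebra.centralizer k (B' : Set A')).val).range := by
  classical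
  obtain ⟨y, rfl⟩ := mem_range_map_left B x h
  let C := Subalgebra.centralizer k (B : Set A)
  let f : C ⊗[k] A' →ₐ[k] A ⊗[k] A' := Algebra.TensorProduct.map C.val (AlgHom.id k A')
  have hf : Function.Injective f :=
    Module.Flat.rTensor_preserves_injective_linearMap (M := A') C.val.toLinearMap
      Subtype.val_injective
  let ℬ := Module.Free.chooseBasis k C
  have hC' : ∀ i, coefL ℬ i y ∈ Subalgebra.centralizer k (B' : Set A') := by
    intro i
    rw [Subalgebra.mem_centralizer_iff]
    intro b hb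
    rw [← coefL_mul_left, ← coefL_mul_right]
    congr 1
    apply hf
    rw [map_mul, map_mul]
    have : f ((1 : C) ⊗ₜ[k] b) = (1 : A) ⊗ₜ[k] b := rfl
    rw [this]
    exact h' b hb
  rw [eq_sum_coefL ℬ y, Finsupp.sum]
  change (Algebra.TensorProduct.map C.val (AlgHom.id k A')).toRingHom (∑ i ∈ _, _) ∈ _
  rw [map_sum]
  exact Subalgebra.sum_mem _ fun i _ => ⟨ℬ i ⊗ₜ ⟨_, hC' i⟩, rfl⟩

theorem centralizer_range_map (B : Subalgebra k A) (B' : Subalgebra k A') :
    Subalgebra.centralizer k ((Algebra.TensorProduct.map B.val B'.val).range : Set (A ⊗[k] A')) =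
      (Algebra.TensorProduct.map (Subalgebra.centralizer k (B : Set A)).val
        (Subalgebra.centralizer k (B' : Set A')).val).range := by
  refine le_antisymm ?_ ?_
  · intro x hx
    rw [Subalgebra.mem_centralizer_iff] at hx
    refine mem_range_map_of_commute B B' x (fun b hb => ?_) (fun b hb => ?_)
    · exact hx _ ⟨⟨b, hb⟩ ⊗ₜ 1, rfl⟩
    · exact hx _ ⟨1 ⊗ₜ ⟨b, hb⟩, rfl⟩
  · rintro _ ⟨y, rfl⟩
    rw [Subalgebra.mem_centralizer_iff]
    rintro _ ⟨x, rfl⟩
    induction y using TensorProduct.induction_on with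
    | zero => simp
    | add y z hy hz => simp_all [mul_add, add_mul]
    | tmul c c' =>
      induction x using TensorProduct.induction_on with
      | zero => simp
      | add x x' hx hx' => simp_all [mul_add, add_mul]
      | tmul b b' =>
        simp [Algebra.TensorProduct.tmul_mul_tmul,
          (Subalgebra.mem_centralizer_iff k).1 c.2 b b.2,
          (Subalgebra.mem_centralizer_iff k).1 c'.2 b' b'.2]

/-- The tensor product of two central algebras is central. -/
theorem isCentral_tensor (k A A' : Type*) [Field k] [Ring A] [Algebra k A] [Algebra.IsCentral k A]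
    [Ring A'] [Algebra k A'] [Algebra.IsCentral k A'] : Algebra.IsCentral k (A ⊗[k] A') := by
  refine ⟨fun x hx => ?_⟩
  rw [Subalgebra.mem_center_iff] at hx
  obtain ⟨y, rfl⟩ := mem_range_map_of_commute (⊤ : Subalgebra k A) (⊤ : Subalgebra k A') x
    (fun b _ => hx _) (fun b _ => hx _)
  clear hx
  rw [AlgHom.toRingHom_eq_coe, AlgHom.coe_toRingHom]
  induction y using TensorProduct.induction_on with
  | zero => rw [map_zero]; exact zero_mem _
  | add y z hy hz => rw [map_add]; exact add_mem hy hz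
  | tmul c c' =>
    obtain ⟨a, ha⟩ : (c : A) ∈ (⊥ : Subalgebra k A) := Algebra.IsCentral.out (by
      rw [Subalgebra.mem_center_iff]
      exact fun b => (Subalgebra.mem_centralizer_iff k).1 c.2 b trivial)
    obtain ⟨a', ha'⟩ : (c' : A') ∈ (⊥ : Subalgebra k A') := Algebra.IsCentral.out (by
      rw [Subalgebra.mem_center_iff]
      exact fun b => (Subalgebra.mem_centralizer_iff k).1 c'.2 b trivial)
    refine ⟨a * a', ?_⟩
    change algebraMap k (A ⊗[k] A') (a * a') = (c : A) ⊗ₜ[k] (c' : A')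
    rw [← ha, ← ha']
    change _ = algebraMap k A a ⊗ₜ[k] algebraMap k A' a'
    simp [Algebra.algebraMap_eq_smul_one, TensorProduct.smul_tmul', TensorProduct.tmul_smul,
      Algebra.TensorProduct.one_def, smul_smul, mul_comm]

/-- Base change of a central algebra is central. -/
theorem isCentral_baseChange (k : Type*) [Field k] (K : Type*) [CommRing K] [Algebra k K]
    (A : Type*) [Ring A] [Algebra k A] [Algebra.IsCentral k A] :
    Algebra.IsCentral K (K ⊗[k] A) := by
  refine ⟨fun x hx => ?_⟩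
  rw [Subalgebra.mem_center_iff] at hx
  obtain ⟨y, rfl⟩ := mem_range_map_of_commute (⊤ : Subalgebra k K) (⊤ : Subalgebra k A) x
    (fun b _ => hx _) (fun b _ => hx _)
  clear hx
  rw [AlgHom.toRingHom_eq_coe, AlgHom.coe_toRingHom]
  induction y using TensorProduct.induction_on with
  | zero => rw [map_zero]; exact zero_mem _
  | add y z hy hz => rw [map_add]; exact add_mem hy hz
  | tmul c c' =>
    obtain ⟨a, ha⟩ : (c' : A) ∈ (⊥ : Subalgebra k A) := Algebra.IsCentral.out (by
      rw [Subalgebra.mem_center_iff]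
      exact fun b => (Subalgebra.mem_centralizer_iff k).1 c'.2 b trivial)
    refine ⟨a • (c : K), ?_⟩
    change algebraMap K (K ⊗[k] A) (a • (c : K)) = (c : K) ⊗ₜ[k] (c' : A)
    rw [← ha]
    change _ = (c : K) ⊗ₜ[k] algebraMap k A a
    rw [Algebra.TensorProduct.algebraMap_apply, Algebra.algebraMap_self_apply,
      Algebra.algebraMap_eq_smul_one (A := A), TensorProduct.smul_tmul]

end Centralizer

/-- An algebra map out of a simple algebra between algebras of the same finite dimension is
bijective. -/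
theorem bijective_of_isSimpleRing {k A B : Type*} [Field k] [Ring A] [Algebra k A] [IsSimpleRing A]
    [Ring B] [Algebra k B] [Nontrivial B] [FiniteDimensional k A] [FiniteDimensional k B]
    (f : A →ₐ[k] B) (h : Module.finrank k A = Module.finrank k B) : Function.Bijective f :=
  have hi : Function.Injective f.toLinearMap := f.toRingHom.injective
  ⟨hi, (LinearMap.injective_iff_surjective_of_finrank_eq_finrank h).1 hi⟩

/-- `A ⊗ Aᵒᵖ → End A` is bijective for a finite central simple algebra. -/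
theorem mulLeftRight_bijective (k : Type*) [Field k] (A : Type*) [Ring A] [Algebra k A]
    [Algebra.IsCentral k A] [IsSimpleRing A] [FiniteDimensional k A] :
    Function.Bijective (AlgHom.mulLeftRight k A) := by
  have := isSimpleRing_tensor k A Aᵐᵒᵖ
  exact bijective_of_isSimpleRing _ (by
    rw [Module.finrank_tensorProduct, Module.finrank_linearMap,
      ← LinearEquiv.finrank_eq (MulOpposite.opLinearEquiv k : A ≃ₗ[k] Aᵐᵒᵖ)])

end Groth.Agent.CSA
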