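import Groth.Agent.CSA.AzumayaDescent
import Groth.Agent.CSA.Basic
import Mathlib.RingTheory.LocalRing.ResidueField.Ideal

/-!
# The Azumaya property is detected on closed fibres
-/

namespace Groth.Agent.CSA.Azu

open TensorProduct MulOpposite

universe u v w

variable (R : Type u) [CommRing R]

/-- A finite module whose fibre at each maximal ideal vanishes is zero. -/
theorem subsingleton_of_forall_maximal (M : Type w) [AddCommGroup M] [Module R M] [Module.Finite R M]
    (h : ∀ m : Ideal R, m.IsMaximal → ∃ (S : Type u) (_ : CommRing S) (_ : Algebra R S),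
      (∃ q : Ideal S, q.IsPrime ∧ q.comap (algebraMap R S) = m) ∧ Subsingleton (S ⊗[R] M)) :
    Subsingleton M := by
  rw [← not_nontrivial_iff_subsingleton]
  intro hnt
  obtain ⟨N, hN⟩ := IsCoatomic.exists_coatom (α := Submodule R M)
  have : IsSimpleModule R (M ⧸ N) := isSimpleModule_iff_isCoatom.2 hN
  obtain ⟨m, hm, ⟨e⟩⟩ := isSimpleModule_iff_quot_maximal.1 this
  obtain ⟨S, hS₁, hS₂, ⟨q, hq, hqm⟩, hsub⟩ := h m hm
  have hle : m ≤ LinearMap.ker ((Ideal.Quotient.mkₐ R q).toLinearMap.comp (Algebra.linearMap R S)) := by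
    intro r hr
    rw [← hqm] at hr
    exact Ideal.Quotient.eq_zero_iff_mem.2 hr
  let g : M →ₗ[R] S ⧸ q := (Submodule.liftQ m _ hle).comp (e.toLinearMap.comp N.mkQ)
  obtain ⟨x, hx⟩ := N.mkQ_surjective (e.symm (Submodule.Quotient.mk 1))
  have h1 : g.liftBaseChange S ((1 : S) ⊗ₜ[R] x) = 1 := by
    simp only [g, LinearMap.liftBaseChange_tmul, one_smul, LinearMap.comp_apply]
    rw [hx, LinearEquiv.coe_toLinearMap, LinearEquiv.apply_symm_apply, Submodule.liftQ_apply]
    simp
  rw [Subsingleton.elim ((1 : S) ⊗ₜ[R] x) 0, map_zero] at h1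
  have hq' : Nontrivial (S ⧸ q) := Ideal.Quotient.nontrivial_iff.2 hq.ne_top
  exact zero_ne_one h1

/-- A finite projective module which is faithful on each closed fibre is faithful. -/
theorem faithfulSMul_of_forall_maximal (M : Type w) [AddCommGroup M] [Module R M]
    [Module.Finite R M] [Module.Projective R M]
    (h : ∀ m : Ideal R, m.IsMaximal → ∃ (S : Type u) (_ : CommRing S) (_ : Algebra R S),
      (∃ q : Ideal S, q.IsPrime ∧ q.comap (algebraMap R S) = m) ∧ FaithfulSMul S (S ⊗[R] M)) :
    FaithfulSMul R M := by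
  let T : Ideal R := Ideal.span {r | ∃ (φ : M →ₗ[R] R) (p : M), φ p = r}
  obtain ⟨n, f, g, -, -, hfg⟩ := Module.Finite.exists_comp_eq_id_of_projective R M
  have hle : (⊤ : Submodule R M) ≤ T • ⊤ := by
    intro x _
    have hx : x = f (g x) := (LinearMap.congr_fun hfg x).symm
    rw [hx, LinearMap.pi_apply_eq_sum_univ f (g x)]
    exact Submodule.sum_mem _ fun i _ => Submodule.smul_mem_smul
      (Ideal.subset_span ⟨(LinearMap.proj i).comp g, x, rfl⟩) trivial
  have hT : (1 : R) ∈ T := by
    by_contra h1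
    obtain ⟨m, hm, hTm⟩ := Ideal.exists_le_maximal T ((Ideal.ne_top_iff_one T).2 h1)
    obtain ⟨r, hr1, hr0⟩ := Submodule.exists_sub_one_mem_and_smul_eq_zero_of_fg_of_le_smul T ⊤
      Module.Finite.fg_top hle
    obtain ⟨S, hS₁, hS₂, ⟨q, hq, hqm⟩, hf⟩ := h m hm
    have hkill : algebraMap R S r = 0 := hf.eq_of_smul_eq_smul fun t => by
      rw [zero_smul]
      induction t using TensorProduct.induction_on with
      | zero => simp
      | add a b ha hb => rw [smul_add, ha, hb, add_zero]
      | tmul s p => rw [algebraMap_smul, ← TensorProduct.tmul_smul, hr0 p trivial, TensorProduct.tmul_zero]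
    have hrm : r ∈ m := by rw [← hqm, Ideal.mem_comap, hkill]; exact zero_mem q
    exact hm.ne_top ((Ideal.eq_top_iff_one m).2 (by simpa using sub_mem hrm (hTm hr1)))
  refine ⟨fun {a b} hab => sub_eq_zero.1 ?_⟩
  have hker : T ≤ LinearMap.ker (LinearMap.mulLeft R (a - b)) := by
    refine Ideal.span_le.2 ?_
    rintro _ ⟨φ, p, rfl⟩
    change (a - b) * φ p = 0
    rw [← smul_eq_mul, ← map_smul, sub_smul, hab, sub_self, map_zero]
  simpa using hker hT

/-- A finite projective algebra which is Azumaya on each closed fibre is Azumaya. -/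
theorem isAzumaya_of_forall_maximal (B : Type w) [Ring B] [Algebra R B] [Module.Finite R B]
    [Module.Projective R B]
    (h : ∀ m : Ideal R, m.IsMaximal → ∃ (S : Type u) (_ : CommRing S) (_ : Algebra R S),
      (∃ q : Ideal S, q.IsPrime ∧ q.comap (algebraMap R S) = m) ∧ IsAzumaya S (S ⊗[R] B)) :
    IsAzumaya R B := by
  have := faithfulSMul_of_forall_maximal R B fun m hm => by
    obtain ⟨S, hS₁, hS₂, hq, hA⟩ := h m hm
    exact ⟨S, hS₁, hS₂, hq, hA.toFaithfulSMul⟩
  constructor
  let θ : B ⊗[R] Bᵐᵒᵖ →ₗ[R] Module.End R B := (AlgHom.mulLeftRight R B).toLinearMap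
  have : Module.Projective R Bᵐᵒᵖ := Module.Projective.of_equiv (opLinearEquiv R : B ≃ₗ[R] Bᵐᵒᵖ)
  have : Module.Finite R Bᵐᵒᵖ := Module.Finite.equiv (opLinearEquiv R : B ≃ₗ[R] Bᵐᵒᵖ)
  have hbc : ∀ m : Ideal R, m.IsMaximal → ∃ (S : Type u) (_ : CommRing S) (_ : Algebra R S),
      (∃ q : Ideal S, q.IsPrime ∧ q.comap (algebraMap R S) = m) ∧
        Function.Bijective (θ.baseChange S) := by
    intro m hm
    obtain ⟨S, hS₁, hS₂, hq, hA⟩ := h m hm
    obtain ⟨ρ, hρ⟩ := exists_square R S B
    refine ⟨S, hS₁, hS₂, hq, ?_⟩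
    have hcomp : Function.Bijective (fun t => LinearMap.tensorProductEnd R S B (θ.baseChange S t)) := by
      have : (fun t => LinearMap.tensorProductEnd R S B (θ.baseChange S t)) =
          fun t => AlgHom.mulLeftRight S (S ⊗[R] B) (ρ t) := funext fun t => (hρ t).symm
      rw [this]
      exact IsAzumaya.bij.comp ρ.bijective
    exact (Function.Bijective.of_comp_iff' (bijective_tensorProductEnd R S B) _).1 hcomp
  have : Module.Finite R (Module.End R B) := by
    obtain ⟨n, f, g, -, -, hfg⟩ := Module.Finite.exists_comp_eq_id_of_projective R B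
    exact Module.Finite.of_surjective ((f.compRight R).comp (g.lcomp R (Fin n → R)))
      fun u => ⟨(g.comp u).comp f, LinearMap.ext fun p => by
        simp [show ∀ x, f (g x) = x from LinearMap.congr_fun hfg]⟩
  have hsurj : Function.Surjective θ := by
    have := subsingleton_of_forall_maximal R (Module.End R B ⧸ LinearMap.range θ) fun m hm => by
      obtain ⟨S, hS₁, hS₂, hq, hb⟩ := hbc m hm
      refine ⟨S, hS₁, hS₂, hq, subsingleton_of_forall_eq 0 fun t => ?_⟩
      obtain ⟨t, rfl⟩ := LinearMap.lTensor_surjective S (Submodule.mkQ_surjective (LinearMap.range θ)) t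
      obtain ⟨u, rfl⟩ := hb.2 t
      change ((Submodule.mkQ (LinearMap.range θ)).lTensor S) ((θ.lTensor S) u) = 0
      rw [← LinearMap.comp_apply, ← LinearMap.lTensor_comp, LinearMap.range_mkQ_comp, LinearMap.lTensor_zero]
      rfl
    rw [← LinearMap.range_eq_top]
    exact Submodule.Quotient.subsingleton_iff.1 this
  have : Module.Projective R (Module.End R B) := by
    obtain ⟨n, f, g, -, -, hfg⟩ := Module.Finite.exists_comp_eq_id_of_projective R B
    refine Module.Projective.of_split ((g.compRight R).comp (f.lcomp R B))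
      ((f.compRight R).comp (g.lcomp R (Fin n → R))) (LinearMap.ext fun u => LinearMap.ext fun p => ?_)
    simp [show ∀ x, f (g x) = x from LinearMap.congr_fun hfg]
  obtain ⟨σ, hσ⟩ := Module.projective_lifting_property θ LinearMap.id hsurj
  let K := LinearMap.ker θ
  let pr : B ⊗[R] Bᵐᵒᵖ →ₗ[R] K := (LinearMap.id - σ.comp θ).codRestrict K fun x => by
    rw [LinearMap.mem_ker, LinearMap.sub_apply, map_sub, LinearMap.comp_apply, LinearMap.id_apply,
      ← LinearMap.comp_apply θ σ, hσ, LinearMap.id_apply, sub_self]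
  have hpr : Function.Surjective pr := fun x => ⟨x, Subtype.ext (by
    simp [pr, LinearMap.codRestrict_apply, show θ x = 0 from x.2])⟩
  have : Module.Finite R K := Module.Finite.of_surjective pr hpr
  have := subsingleton_of_forall_maximal R K fun m hm => by
    obtain ⟨S, hS₁, hS₂, hq, hb⟩ := hbc m hm
    refine ⟨S, hS₁, hS₂, hq, subsingleton_of_forall_eq 0 fun t => ?_⟩
    have hcomp : pr.comp K.subtype = LinearMap.id := LinearMap.ext fun x => Subtype.ext (by
      simp [pr, LinearMap.codRestrict_apply, show θ x = 0 from x.2])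
    have h0 : θ.baseChange S (K.subtype.lTensor S t) = 0 := by
      change θ.lTensor S (K.subtype.lTensor S t) = 0
      rw [← LinearMap.comp_apply, ← LinearMap.lTensor_comp, LinearMap.comp_ker_subtype, LinearMap.lTensor_zero]
      rfl
    have h1 : K.subtype.lTensor S t = 0 := hb.1 (by rw [h0, map_zero])
    have h2 := congr_arg (pr.lTensor S) h1
    rwa [← LinearMap.comp_apply, ← LinearMap.lTensor_comp, hcomp, LinearMap.lTensor_id, map_zero] at h2
  refine ⟨(injective_iff_map_eq_zero θ).2 fun x hx => ?_, hsurj⟩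
  exact congr_arg Subtype.val (Subsingleton.elim (⟨x, hx⟩ : K) 0)

/-- Over a field, Azumaya means central simple. -/
theorem isAzumaya_iff_central_simple (k : Type u) [Field k] (B : Type v) [Ring B] [Algebra k B]
    [Module.Finite k B] : IsAzumaya k B ↔ Algebra.IsCentral k B ∧ IsSimpleRing B := by
  refine ⟨fun _ => ⟨inferInstance, ?_⟩, fun ⟨_, _⟩ => ?_⟩
  · have : Nontrivial B := by
      by_contra hB
      rw [not_nontrivial_iff_subsingleton] at hB
      exact one_ne_zero (FaithfulSMul.eq_of_smul_eq_smul (M := k) (α := B) fun x => Subsingleton.elim _ _)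
    refine IsSimpleRing.of_eq_bot_or_eq_top fun I => ?_
    have hI := twoSided_eq_map k B I
    rcases Ideal.eq_bot_or_top ((TwoSidedIdeal.asIdeal I).comap (algebraMap k B)) with h | h <;>
      rw [h] at hI
    · left
      rw [Ideal.map_bot] at hI
      ext x
      rw [← TwoSidedIdeal.mem_asIdeal, hI, Ideal.mem_bot, TwoSidedIdeal.mem_bot]
    · right
      rw [Ideal.map_top] at hI
      ext x
      rw [← TwoSidedIdeal.mem_asIdeal, hI]
      simp
  · have : Module.Free k B := Module.Free.of_divisionRing k B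
    exact ⟨Groth.Agent.CSA.mulLeftRight_bijective k B⟩

end Groth.Agent.CSA.Azu
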