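import Groth.Agent.CSA.AzumayaLocal
import Groth.Agent.HenselLib.ProjLift
import Mathlib.RingTheory.Henselian
import Mathlib.LinearAlgebra.Matrix.ToLin

/-!
# Azumaya algebras over henselian local rings
-/

namespace Groth.Agent.CSA.Azu

open TensorProduct Polynomial

universe u v

/-- Idempotents lift in a finite free algebra over a henselian local ring. -/
theorem exists_idem_lift (R : Type u) [CommRing R] [HenselianLocalRing R] (C : Type v) [Ring C]
    [Algebra R C] [Module.Finite R C] [Module.Free R C]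
    {e : IsLocalRing.ResidueField R ⊗[R] C} (he : IsIdempotentElem e) :
    ∃ E : C, IsIdempotentElem E ∧ (1 : IsLocalRing.ResidueField R) ⊗ₜ[R] E = e := by
  classical
  set k := IsLocalRing.ResidueField R
  set I := IsLocalRing.maximalIdeal R
  obtain ⟨M, hM⟩ := TensorProduct.mk_surjective R C k IsLocalRing.residue_surjective e
  set B := Algebra.adjoin R ({M} : Set C)
  let ψ : B →+* k ⊗[R] C :=
    (Algebra.TensorProduct.includeRight (R := R) (A := k) (B := C)).toRingHom.comp B.val.toRingHom
  haveI : Algebra.IsIntegral R B := ⟨fun y => (isIntegral_algHom_iff B.val Subtype.val_injective).mp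
    (Algebra.IsIntegral.isIntegral (R := R) (y : C))⟩
  letI : CommRing B := Algebra.adjoinCommRingOfComm R (by
    rintro a rfl b rfl; rfl)
  set J := I.map (algebraMap R B)
  have hψJ : ∀ y ∈ J, ψ y = 0 := by
    refine fun y hy => (Ideal.map_le_iff_le_comap.mpr (fun a ha => ?_) : J ≤ RingHom.ker ψ) hy
    rw [Ideal.mem_comap, RingHom.mem_ker]
    show (1 : k) ⊗ₜ[R] (algebraMap R C a) = 0
    rw [Algebra.algebraMap_eq_smul_one, TensorProduct.tmul_smul, TensorProduct.smul_tmul',
      Algebra.smul_def, mul_one, IsLocalRing.ResidueField.algebraMap_eq,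
      (IsLocalRing.residue_eq_zero_iff a).2 ha, TensorProduct.zero_tmul]
  let bC := Module.Free.chooseBasis R C
  let ι := Module.Free.ChooseBasisIndex R C
  have hnil : ∀ q ∈ RingHom.ker (Ideal.Quotient.lift J ψ hψJ), IsNilpotent q := by
    intro q hq
    obtain ⟨y, rfl⟩ := Ideal.Quotient.mk_surjective q
    rw [RingHom.mem_ker, Ideal.Quotient.lift_mk] at hq
    refine ⟨Fintype.card ι, ?_⟩
    rw [← map_pow, Ideal.Quotient.eq_zero_iff_mem]
    let Y := Algebra.leftMulMatrix bC (y : C)
    have hY : Y.map (IsLocalRing.residue R) = 0 := by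
      ext i j
      rw [Matrix.map_apply, Matrix.zero_apply]
      show IsLocalRing.residue R (Algebra.leftMulMatrix bC (y : C) i j) = 0
      rw [Algebra.leftMulMatrix_eq_repr_mul]
      have h0 : (1 : k) ⊗ₜ[R] ((y : C) * bC j) = 0 := by
        rw [← one_mul (1 : k), ← Algebra.TensorProduct.tmul_mul_tmul,
          show (1 : k) ⊗ₜ[R] (y : C) = 0 from hq, zero_mul]
      have := congr_arg (fun t => (bC.baseChange k).repr t i) h0
      simp [Algebra.smul_def] at this
      exact this
    have hχ : Y.charpoly.map (Ideal.Quotient.mk I) =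
        ((X : R[X]) ^ Fintype.card ι).map (Ideal.Quotient.mk I) := by
      rw [← Matrix.charpoly_map, show Y.map (Ideal.Quotient.mk I) = 0 from hY, Polynomial.map_pow,
        map_X]
      exact Matrix.charpoly_zero
    have h1 := Groth.Agent.HenselLib.eval_sub_eval_mem (I := I) (B := B) hχ y
    have h2 : aeval y Y.charpoly = 0 := Subtype.ext (by
      rw [aeval_subalgebra_coe]
      apply Algebra.leftMulMatrix_injective bC
      rw [← aeval_algHom_apply]
      refine Eq.trans ?_ (map_zero (Algebra.leftMulMatrix bC)).symm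
      exact Matrix.aeval_self_charpoly Y)
    rwa [h2, aeval_X_pow, zero_sub, neg_mem_iff] at h1
  obtain ⟨e', he', hee'⟩ := exists_isIdempotentElem_eq_of_ker_isNilpotent
    (Ideal.Quotient.lift J ψ hψJ) hnil e
    ⟨Ideal.Quotient.mk J ⟨M, Algebra.self_mem_adjoin_singleton R M⟩, hM⟩ he
  obtain ⟨b, hb, rfl⟩ := (Groth.Agent.HenselLib.bijOn_idem I B).surjOn he'
  exact ⟨b, congrArg Subtype.val hb, hee'⟩

variable {R : Type u} [CommRing R] [HenselianLocalRing R] {A B : Type u} [Ring A] [Algebra R A]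
  [IsAzumaya R A] [Ring B] [Algebra R B] [IsAzumaya R B]

/-- Isomorphisms of special fibres lift. -/
theorem exists_algHom_lift
    (f₀ : (IsLocalRing.ResidueField R ⊗[R] B) ≃ₐ[IsLocalRing.ResidueField R]
      (IsLocalRing.ResidueField R ⊗[R] A)) :
    ∃ g : B ≃ₐ[R] A, ∀ b, f₀ ((1 : IsLocalRing.ResidueField R) ⊗ₜ[R] b) =
      (1 : IsLocalRing.ResidueField R) ⊗ₜ[R] g b := by
  set k := IsLocalRing.ResidueField R
  haveI : Module.Free R A := Module.free_of_flat_of_isLocalRing
  haveI : Module.Free R B := Module.free_of_flat_of_isLocalRing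
  haveI : Module.Free R Bᵐᵒᵖ := Module.Free.of_equiv (MulOpposite.opLinearEquiv R : B ≃ₗ[R] Bᵐᵒᵖ)
  haveI : Module.Finite R Bᵐᵒᵖ := Module.Finite.equiv (MulOpposite.opLinearEquiv R : B ≃ₗ[R] Bᵐᵒᵖ)
  have hAB : Module.finrank R B = Module.finrank R A := by
    have := f₀.toLinearEquiv.finrank_eq
    rwa [Module.finrank_baseChange, Module.finrank_baseChange] at this
  -- the action on the special fibre
  let f₁ : B →ₐ[R] (k ⊗[R] A) := (f₀.toAlgHom.restrictScalars R).comp Algebra.TensorProduct.includeRight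
  let LA : A →ₐ[R] Module.End k (k ⊗[R] A) :=
    ((Algebra.lmul k (k ⊗[R] A)).restrictScalars R).comp Algebra.TensorProduct.includeRight
  let RB : Bᵐᵒᵖ →ₐ[R] Module.End k (k ⊗[R] A) :=
    { toFun := fun b => LinearMap.mulRight k (f₁ b.unop)
      map_one' := by ext; simp
      map_mul' := fun x y => LinearMap.ext fun t => by simp [mul_assoc]
      map_zero' := by ext; simp
      map_add' := fun x y => LinearMap.ext fun t => by simp [mul_add]
      commutes' := fun r => LinearMap.ext fun t => by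
        simp [Algebra.algebraMap_eq_smul_one, ← tmul_smul, mul_smul_comm] }
  let Ω : A ⊗[R] Bᵐᵒᵖ →ₐ[R] Module.End k (k ⊗[R] A) :=
    Algebra.TensorProduct.lift LA RB fun a b => LinearMap.ext fun t => by
      simp [LA, RB, mul_assoc]
  have hΩ : ∀ a b t, Ω (a ⊗ₜ b) t = ((1 : k) ⊗ₜ[R] a) * t * f₁ b.unop := fun a b t => by
    show (LA a * RB b) t = _
    simp [LA, RB, mul_assoc]
  let Ωk : k ⊗[R] (A ⊗[R] Bᵐᵒᵖ) →ₐ[k] Module.End k (k ⊗[R] A) :=
    Algebra.TensorProduct.lift (Algebra.ofId _ _) Ω fun c x => Algebra.commutes c (Ω x)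
  have hΩk : ∀ x, Ωk ((1 : k) ⊗ₜ x) = Ω x := fun x => by
    show Algebra.ofId k (Module.End k (k ⊗[R] A)) 1 * Ω x = _
    rw [map_one, one_mul]
  haveI := isAzumaya_baseChange (R := R) k A
  have hbij : Function.Bijective Ωk := by
    have hs : Function.Surjective Ωk := by
      intro F
      obtain ⟨t, rfl⟩ := (IsAzumaya.bij (R := k) (A := k ⊗[R] A)).2 F
      induction t using TensorProduct.induction_on with
      | zero => exact ⟨0, by simp⟩
      | add x y hx hy =>
        obtain ⟨x', hx'⟩ := hx; obtain ⟨y', hy'⟩ := hy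
        exact ⟨x' + y', by rw [map_add, map_add, hx', hy']⟩
      | tmul x y =>
        obtain ⟨a, rfl⟩ := TensorProduct.mk_surjective R A k IsLocalRing.residue_surjective x
        obtain ⟨b, hb⟩ := TensorProduct.mk_surjective R B k IsLocalRing.residue_surjective (f₀.symm y.unop)
        refine ⟨(1 : k) ⊗ₜ (a ⊗ₜ MulOpposite.op b), LinearMap.ext fun t => ?_⟩
        have hy : f₁ b = y.unop := by
          show f₀ (TensorProduct.mk R k B 1 b) = y.unop
          rw [hb, AlgEquiv.apply_symm_apply]
        rw [hΩk, hΩ, AlgHom.mulLeftRight_apply, MulOpposite.unop_op, hy]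
        rfl
    refine ⟨(LinearMap.injective_iff_surjective_of_finrank_eq_finrank (f := Ωk.toLinearMap) ?_).2 hs, hs⟩
    rw [Module.finrank_baseChange, Module.finrank_tensorProduct, Module.finrank_linearMap,
      Module.finrank_baseChange, ← (MulOpposite.opLinearEquiv R : B ≃ₗ[R] Bᵐᵒᵖ).finrank_eq, hAB]
  -- a projection of rank one
  obtain ⟨π, hπ⟩ := exists_retraction k (k ⊗[R] A)
  let pr : Module.End k (k ⊗[R] A) := π.smulRight 1
  have hpr : IsIdempotentElem pr := LinearMap.ext fun t => by simp [pr, hπ]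
  obtain ⟨e, he⟩ := hbij.2 pr
  obtain ⟨E, hE, hEe⟩ := exists_idem_lift R (A ⊗[R] Bᵐᵒᵖ) (e := e)
    (hbij.1 (by rw [map_mul, he, hpr.eq]))
  have hΩE : Ω E = pr := by rw [← hΩk, hEe, he]
  let P := LinearMap.range (LinearMap.mulRight R E)
  have hP : (LinearMap.mulRight R E).rangeRestrict.comp P.subtype = LinearMap.id :=
    LinearMap.ext fun x => Subtype.ext (by
      obtain ⟨y, hy⟩ := x.2
      show (x : A ⊗[R] Bᵐᵒᵖ) * E = x
      rw [← hy, LinearMap.mulRight_apply, mul_assoc, hE.eq])
  haveI : Module.Projective R P :=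
    Module.Projective.of_split P.subtype (LinearMap.mulRight R E).rangeRestrict hP
  haveI : Module.Finite R P := Module.Finite.range _
  let α : A →ₗ[R] P := (LinearMap.mulRight R E).rangeRestrict.comp
    (Algebra.TensorProduct.includeLeft (R := R) (S := R) (A := A) (B := Bᵐᵒᵖ)).toLinearMap
  have hα : ∀ a, (α a : A ⊗[R] Bᵐᵒᵖ) = (a ⊗ₜ 1) * E := fun _ => rfl
  have hαk : ∀ s, Ωk (P.subtype.baseChange k (α.baseChange k s)) = π.smulRight s := fun s => by
    induction s using TensorProduct.induction_on with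
    | zero => simp
    | add x y hx hy =>
      rw [map_add, map_add, map_add, hx, hy]
      ext; simp [smul_add]
    | tmul c a =>
      refine LinearMap.ext fun t => ?_
      rw [LinearMap.baseChange_tmul, LinearMap.baseChange_tmul, Submodule.subtype_apply, hα]
      rw [show c ⊗ₜ[R] ((a ⊗ₜ[R] (1 : Bᵐᵒᵖ)) * E) = c • ((1 : k) ⊗ₜ[R] ((a ⊗ₜ 1) * E)) by
        rw [TensorProduct.smul_tmul', smul_eq_mul, mul_one], map_smul, LinearMap.smul_apply, hΩk,
        map_mul, hΩE, Module.End.mul_apply, hΩ, MulOpposite.unop_one, map_one, mul_one]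
      simp [pr, TensorProduct.smul_tmul', smul_smul, mul_comm c]
  have hαb : Function.Bijective α := bijective_of_forall_maximal (M := A) (N := P) R α fun m hm => by
    obtain rfl := IsLocalRing.eq_maximalIdeal hm
    show Function.Bijective (α.baseChange k)
    refine ⟨fun s t hst => ?_, fun q => ?_⟩
    · have := congr_arg (fun q => Ωk (P.subtype.baseChange k q) 1) hst
      rw [hαk, hαk] at this
      simpa [hπ] using this
    · refine ⟨Ωk (P.subtype.baseChange k q) 1, ?_⟩
      have hinj : Function.Injective (P.subtype.baseChange k) := fun x y hxy => by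
        have := congr_arg ((LinearMap.mulRight R E).rangeRestrict.baseChange k) hxy
        rwa [← LinearMap.comp_apply, ← LinearMap.comp_apply, ← LinearMap.baseChange_comp, hP,
          LinearMap.baseChange_id] at this
      letI : Ring (k ⊗[R] (A ⊗[R] Bᵐᵒᵖ)) := Algebra.TensorProduct.instRing
      have hq : P.subtype.baseChange k q * ((1 : k) ⊗ₜ E) = P.subtype.baseChange k q := by
        induction q using TensorProduct.induction_on with
        | zero => simp
        | add x y hx hy => rw [map_add, add_mul, hx, hy]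
        | tmul c x =>
          rw [LinearMap.baseChange_tmul, Algebra.TensorProduct.tmul_mul_tmul, mul_one]
          congr 1
          exact congr_arg Subtype.val (LinearMap.congr_fun hP x)
      refine hinj (hbij.1 ?_)
      show Ωk (P.subtype.baseChange k (α.baseChange k _)) = _
      rw [hαk]
      conv_rhs => rw [← hq, map_mul, hΩk, hΩE]
      refine LinearMap.ext fun t => ?_
      simp [pr]
  let αe := LinearEquiv.ofBijective α hαb
  let β : B →ₗ[R] P := (LinearMap.mulRight R E).rangeRestrict.comp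
    ((Algebra.TensorProduct.includeRight (R := R) (A := A) (B := Bᵐᵒᵖ)).toLinearMap.comp
      (MulOpposite.opLinearEquiv R : B ≃ₗ[R] Bᵐᵒᵖ).toLinearMap)
  have hβ : ∀ b, (β b : A ⊗[R] Bᵐᵒᵖ) = (1 ⊗ₜ MulOpposite.op b) * E := fun _ => rfl
  let g : B →ₗ[R] A := αe.symm.toLinearMap.comp β
  have hg : ∀ b, (g b ⊗ₜ[R] (1 : Bᵐᵒᵖ)) * E = (1 ⊗ₜ MulOpposite.op b) * E := fun b => by
    rw [← hα, ← hβ]
    exact congr_arg Subtype.val (αe.apply_symm_apply (β b))
  have hinjE : ∀ a a', (a ⊗ₜ[R] (1 : Bᵐᵒᵖ)) * E = (a' ⊗ₜ 1) * E → a = a' := fun a a' h =>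
    hαb.1 (Subtype.ext h)
  let gh : B →ₐ[R] A := AlgHom.ofLinearMap g (hinjE _ _ (by rw [hg]; rfl)) fun b b' => by
    refine hinjE _ _ ?_
    rw [hg, show ((1 : A) ⊗ₜ[R] MulOpposite.op (b * b')) =
        ((1 : A) ⊗ₜ MulOpposite.op b') * ((1 : A) ⊗ₜ MulOpposite.op b) by
      rw [Algebra.TensorProduct.tmul_mul_tmul, one_mul, MulOpposite.op_mul],
      mul_assoc, ← hg b, ← mul_assoc, Algebra.TensorProduct.tmul_mul_tmul, one_mul, mul_one]
    conv_rhs => rw [← mul_one (1 : Bᵐᵒᵖ), ← Algebra.TensorProduct.tmul_mul_tmul, mul_assoc, hg b',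
      ← mul_assoc, Algebra.TensorProduct.tmul_mul_tmul, mul_one, one_mul]
  have hred : ∀ b, f₀ ((1 : k) ⊗ₜ[R] b) = (1 : k) ⊗ₜ[R] g b := fun b => by
    have h := congr_arg (fun x => Ω x 1) (hg b)
    simp only [map_mul, hΩE, Module.End.mul_apply, hΩ] at h
    simp [pr, hπ] at h
    rw [← Algebra.TensorProduct.one_def, one_mul] at h
    exact h.symm
  have hb : Function.Bijective gh := bijective_algHom R gh fun m hm => by
    haveI := hm
    haveI : Nontrivial (R ⧸ m) := Ideal.Quotient.nontrivial_iff.2 hm.ne_top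
    rw [Module.finrank_baseChange, Module.finrank_baseChange, hAB]
  exact ⟨AlgEquiv.ofBijective gh hb, hred⟩

end Groth.Agent.CSA.Azu
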