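import Groth.Agent.CSA.AzumayaEtale
import Groth.Agent.HenselLib.LiftEtaleField

/-!
# Regular sections and maximal étale subalgebras over a local base
-/

namespace Groth.Agent.CSA.Azu

open TensorProduct Module Polynomial

universe u v w

/-- The map out of `R[X]/(F)` given by a root in a possibly noncommutative algebra. -/
theorem exists_rootHom {R : Type u} [CommRing R] {A : Type v} [Ring A] [Algebra R A] (F : R[X])
    (x : A) (h : aeval x F = 0) :
    ∃ u : AdjoinRoot F →ₐ[R] A, ∀ p, u (AdjoinRoot.mk F p) = aeval x p := by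
  refine ⟨Ideal.Quotient.liftₐ (Ideal.span {F}) (aeval x) fun p hp => ?_, fun p => rfl⟩
  obtain ⟨c, rfl⟩ := Ideal.mem_span_singleton'.1 hp
  rw [map_mul, h, mul_zero]

/-- A bijective presentation gives a basis. -/
theorem exists_basis_of_bijective {R : Type u} [CommRing R] {A : Type v} [Ring A] [Algebra R A]
    {E : Type w} [CommRing E] [Algebra R E] (u : E →ₐ[R] A) [Module E A]
    (hmod : ∀ (e : E) (a : A), e • a = a * u e) {r : ℕ} (y : Fin r → A)
    (hy : Function.Bijective fun c : Fin r → E => ∑ j, y j * u (c j)) :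
    Nonempty (Basis (Fin r) E A) := by
  let L : (Fin r → E) →ₗ[E] A :=
    { toFun := fun c => ∑ j, y j * u (c j)
      map_add' := fun c c' => by simp [mul_add, Finset.sum_add_distrib]
      map_smul' := fun e c => by
        rw [RingHom.id_apply, hmod, Finset.sum_mul]
        refine Finset.sum_congr rfl fun j _ => ?_
        rw [Pi.smul_apply, smul_eq_mul, mul_comm, map_mul, mul_assoc] }
  exact ⟨Basis.ofEquivFun (LinearEquiv.ofBijective L hy).symm⟩

/-- The module structure given by right multiplication through a commutative algebra. -/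
@[reducible] def rightModule {R : Type u} [CommRing R] {A : Type v} [Ring A] [Algebra R A]
    {E : Type w} [CommRing E] [Algebra R E] (u : E →ₐ[R] A) : Module E A where
  smul e a := a * u e
  one_smul a := by show a * u 1 = a; rw [map_one, mul_one]
  mul_smul e e' a := by show a * u (e * e') = a * u e' * u e; rw [mul_comm e, map_mul, mul_assoc]
  smul_zero e := zero_mul (u e)
  smul_add e a a' := add_mul a a' (u e)
  add_smul e e' a := by show a * u (e + e') = a * u e + a * u e'; rw [map_add, mul_add]
  zero_smul a := by show a * u 0 = 0; rw [map_zero, mul_zero]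

section Field

variable (k : Type u) [Field k] (B : Type v) [Ring B] [Algebra k B] [FiniteDimensional k B]
  [Algebra.IsCentral k B] [IsSimpleRing B]

/-- The commutant of a regular element consists of polynomials in it. -/
theorem mem_span_pow_of_commute {r : ℕ} (hB : finrank k B = r ^ 2) (x : B)
    (hsep : (minpoly k x).Separable) (hdeg : (minpoly k x).natDegree = r) (z : B)
    (hz : z * x = x * z) : z ∈ Submodule.span k (Set.range fun i : Fin r => x ^ (i : ℕ)) := by
  set g := minpoly k x
  have hx : IsIntegral k x := Algebra.IsIntegral.isIntegral x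
  have hg : g.Monic := minpoly.monic hx
  obtain ⟨u, hu⟩ := exists_rootHom g x (minpoly.aeval k x)
  have hinj : Function.Injective u := (injective_iff_map_eq_zero u).2 fun e he => by
    obtain ⟨p, rfl⟩ := AdjoinRoot.mk_surjective e
    rw [hu] at he
    exact AdjoinRoot.mk_eq_zero.2 (minpoly.dvd k x he)
  have : Module.Finite k (AdjoinRoot g) := hg.finite_adjoinRoot
  have hC : finrank k (AdjoinRoot g) = r := by
    rw [(AdjoinRoot.powerBasis' hg).finrank, AdjoinRoot.powerBasis'_dim, hdeg]
  have : IsReduced (AdjoinRoot g) :=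
    (Ideal.isRadical_iff_quotient_reduced _).1
      (isRadical_iff_span_singleton.1 hsep.squarefree.isRadical)
  obtain ⟨y, hy⟩ := exists_basis_of_reduced k B hB _ hC u hinj
  letI := rightModule u
  obtain ⟨b⟩ := exists_basis_of_bijective u (fun _ _ => rfl) y hy
  have : IsAzumaya k B := (isAzumaya_iff_central_simple k B).2 ⟨inferInstance, inferInstance⟩
  have hr : 0 < r := hdeg ▸ minpoly.natDegree_pos hx
  obtain ⟨e, rfl⟩ := (bijective_act k B hr hB _ u (fun _ _ => rfl) b).2.2 z fun e => by
    obtain ⟨p, rfl⟩ := AdjoinRoot.mk_surjective e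
    rw [hu]
    exact Algebra.commute_of_mem_adjoin_singleton_of_commute
      (aeval_mem_adjoin_singleton k x) hz |>.eq
  obtain ⟨p, rfl⟩ := AdjoinRoot.mk_surjective e
  rw [hu, ← modByMonic_add_div p g, map_add, map_mul, minpoly.aeval, zero_mul, add_zero,
    aeval_eq_sum_range' (n := r) (natDegree_modByMonic_lt p hg (fun h => by
      rw [h, natDegree_one] at hdeg; omega) |>.trans_eq hdeg)]
  exact Submodule.sum_mem _ fun i hi => Submodule.smul_mem _ _
    (Submodule.subset_span ⟨⟨i, Finset.mem_range.1 hi⟩, rfl⟩)

end Field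

variable (R : Type u) [CommRing R] [IsLocalRing R] (A : Type v) [Ring A] [Algebra R A] [IsAzumaya R A]

local notation "k" => IsLocalRing.ResidueField R

theorem finrank_residue : finrank k (k ⊗[R] A) = finrank R A := by
  haveI : Module.Free R A := Module.free_of_flat_of_isLocalRing
  rw [Module.finrank_baseChange]

theorem rank_pos {r : ℕ} (hA : finrank R A = r ^ 2) : 0 < r := by
  have := isAzumaya_baseChange (R := R) k A
  obtain ⟨_, _⟩ := (isAzumaya_iff_central_simple k (k ⊗[R] A)).1 this
  have := Module.finrank_pos (R := k) (M := k ⊗[R] A)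
  rw [finrank_residue, hA] at this
  rcases Nat.eq_zero_or_pos r with rfl | h
  · simp at this
  · exact h

/-- Lifting of regular elements: the powers of a lift are independent and satisfy an equation. -/
theorem regular_lift {r : ℕ} (hA : finrank R A = r ^ 2) (ξ : A)
    (hsep : (minpoly k ((1 : k) ⊗ₜ[R] ξ)).Separable)
    (hdeg : (minpoly k ((1 : k) ⊗ₜ[R] ξ)).natDegree = r) :
    LinearIndependent R (fun i : Fin r => ξ ^ (i : ℕ)) ∧
      ξ ^ r ∈ Submodule.span R (Set.range fun i : Fin r => ξ ^ (i : ℕ)) := by
  haveI : Module.Free R A := Module.free_of_flat_of_isLocalRing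
  set x := (1 : k) ⊗ₜ[R] ξ
  set v := fun i : Fin r => ξ ^ (i : ℕ)
  have hv : ∀ i, (1 : k) ⊗ₜ[R] v i = x ^ (i : ℕ) := fun i => by
    simp only [v, x, Algebra.TensorProduct.tmul_pow, one_pow]
  have hind : LinearIndependent k fun i : Fin r => x ^ (i : ℕ) := by
    have := linearIndependent_pow (K := k) x
    rw [← hdeg]
    exact this
  refine ⟨?_, ?_⟩
  · have h2 : LinearIndependent k (TensorProduct.mk R k A 1 ∘ fun i : ULift.{v} (Fin r) => v i.down) := by
      rw [show (TensorProduct.mk R k A 1 ∘ fun i : ULift.{v} (Fin r) => v i.down) =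
        (fun i : Fin r => x ^ (i : ℕ)) ∘ ULift.down from funext fun i => hv i.down]
      exact hind.comp _ ULift.down_injective
    exact (IsLocalRing.linearIndependent_of_flat _ h2).comp ULift.up ULift.up_injective
  · set S := Submodule.span R (Set.range v)
    let f : A →ₗ[R] A := LinearMap.mulLeft R ξ - LinearMap.mulRight R ξ
    have hS : S ≤ LinearMap.ker f := Submodule.span_le.2 <| by
      rintro _ ⟨i, rfl⟩
      simp [f, v, sub_eq_zero, (Commute.self_pow ξ (i : ℕ)).eq]
    let ψ : A ⧸ S →ₗ[R] A := S.liftQ f hS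
    obtain ⟨l, hl⟩ := (IsLocalRing.split_injective_iff_lTensor_residueField_injective ψ).2 <| by
      refine (injective_iff_map_eq_zero _).2 fun t ht => ?_
      obtain ⟨t, rfl⟩ := LinearMap.lTensor_surjective k (Submodule.mkQ_surjective S) t
      rw [← LinearMap.comp_apply, ← LinearMap.lTensor_comp, Submodule.liftQ_mkQ] at ht
      have hcomm : t * x = x * t := by
        have : f.lTensor k t = x * t - t * x := by
          clear ht
          induction t using TensorProduct.induction_on with
          | zero => simp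
          | add a b ha hb => rw [map_add, ha, hb, mul_add, add_mul]; abel
          | tmul c a =>
            simp only [x, LinearMap.lTensor_tmul, f, LinearMap.sub_apply, LinearMap.mulLeft_apply,
              LinearMap.mulRight_apply, Algebra.TensorProduct.tmul_mul_tmul, one_mul, mul_one, tmul_sub]
        rw [ht] at this
        exact (sub_eq_zero.1 this.symm).symm
      have := isAzumaya_baseChange (R := R) k A
      obtain ⟨_, _⟩ := (isAzumaya_iff_central_simple k (k ⊗[R] A)).1 this
      obtain ⟨c, hc⟩ := (Submodule.mem_span_range_iff_exists_fun k).1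
        (mem_span_pow_of_commute k _ ((finrank_residue R A).trans hA) x hsep hdeg t hcomm)
      rw [← hc, map_sum]
      refine Finset.sum_eq_zero fun i _ => ?_
      rw [← hv, TensorProduct.smul_tmul', LinearMap.lTensor_tmul, Submodule.mkQ_apply,
        (Submodule.Quotient.mk_eq_zero S).2 (Submodule.subset_span ⟨i, rfl⟩), TensorProduct.tmul_zero]
    have h1 : ψ (S.mkQ (ξ ^ r)) = 0 := by
      simp [ψ, f, sub_eq_zero, (Commute.self_pow ξ r).eq]
    have h2 := LinearMap.congr_fun hl (S.mkQ (ξ ^ r))
    rw [LinearMap.comp_apply, h1, map_zero, LinearMap.id_apply] at h2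
    exact (Submodule.Quotient.mk_eq_zero S).1 h2.symm

/-- Regular sections exist. -/
theorem exists_regular_section {r : ℕ} (hA : finrank R A = r ^ 2) :
    ∃ (ξ : A) (F : R[X]), F.Monic ∧ F.natDegree = r ∧ aeval ξ F = 0 ∧
      (F.map (IsLocalRing.residue R)).Separable ∧
      LinearIndependent k fun i : Fin r => ((1 : k) ⊗ₜ[R] ξ) ^ (i : ℕ) := by
  have := isAzumaya_baseChange (R := R) k A
  obtain ⟨_, _⟩ := (isAzumaya_iff_central_simple k (k ⊗[R] A)).1 this
  obtain ⟨x, hsep, hdeg⟩ := exists_regular k (k ⊗[R] A) ((finrank_residue R A).trans hA)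
  obtain ⟨ξ, rfl⟩ := TensorProduct.mk_surjective R A k IsLocalRing.residue_surjective x
  change (minpoly k ((1 : k) ⊗ₜ[R] ξ)).Separable at hsep
  change (minpoly k ((1 : k) ⊗ₜ[R] ξ)).natDegree = r at hdeg
  obtain ⟨c, hc⟩ := (Submodule.mem_span_range_iff_exists_fun R).1 (regular_lift R A hA ξ hsep hdeg).2
  let q : R[X] := ∑ i : Fin r, C (c i) * X ^ (i : ℕ)
  have hq : q.degree < r := degree_sum_fin_lt c
  refine ⟨ξ, X ^ r - q, monic_X_pow_sub hq, ?_, ?_, ?_, ?_⟩
  · refine natDegree_eq_of_degree_eq_some ?_
    rw [degree_sub_eq_left_of_degree_lt (by rwa [degree_X_pow]), degree_X_pow]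
  · simp [q, map_sum, ← Algebra.smul_def, hc]
  · have haev : aeval ξ (X ^ r - q) = 0 := by simp [q, map_sum, ← Algebra.smul_def, hc]
    have hev : aeval ((1 : k) ⊗ₜ[R] ξ) ((X ^ r - q).map (IsLocalRing.residue R)) = 0 := by
      rw [← IsLocalRing.ResidueField.algebraMap_eq, aeval_map_algebraMap,
        ← Algebra.TensorProduct.includeRight_apply, aeval_algHom_apply, haev, map_zero]
    rw [Polynomial.eq_of_monic_of_dvd_of_natDegree_le (minpoly.monic (Algebra.IsIntegral.isIntegral _))
      ((monic_X_pow_sub hq).map _) (minpoly.dvd _ _ hev) ?_]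
    · exact hsep
    · rw [(monic_X_pow_sub hq).natDegree_map, hdeg, natDegree_sub_eq_left_of_natDegree_lt ?_,
        natDegree_X_pow]
      rw [natDegree_X_pow]
      rcases eq_or_ne q 0 with hq0 | hq0
      · rw [hq0, natDegree_zero]; exact rank_pos R A hA
      · exact (natDegree_lt_iff_degree_lt hq0).2 hq
  · rw [← hdeg]
    exact linearIndependent_pow _

/-- A maximal étale subalgebra makes the Azumaya algebra free. -/
theorem exists_basis_local {r : ℕ} (hA : finrank R A = r ^ 2) (E : Type w) [CommRing E] [Algebra R E]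
    [Module.Finite R E] [Module.Free R E] (hE : finrank R E = r) [IsReduced (k ⊗[R] E)]
    (u : E →ₐ[R] A) (hu : Function.Injective (u.toLinearMap.lTensor k)) [Module E A]
    (hmod : ∀ (e : E) (a : A), e • a = a * u e) : Nonempty (Basis (Fin r) E A) := by
  haveI : Module.Free R A := Module.free_of_flat_of_isLocalRing
  have := isAzumaya_baseChange (R := R) k A
  obtain ⟨_, _⟩ := (isAzumaya_iff_central_simple k (k ⊗[R] A)).1 this
  let u' : k ⊗[R] E →ₐ[k] k ⊗[R] A := Algebra.TensorProduct.map (AlgHom.id k k) u
  obtain ⟨y, hy⟩ := exists_basis_of_reduced k (k ⊗[R] A) ((finrank_residue R A).trans hA) (k ⊗[R] E)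
    (by rw [Module.finrank_baseChange, hE]) u' hu
  choose y' hy' using fun j => TensorProduct.mk_surjective R A k IsLocalRing.residue_surjective (y j)
  let L : (Fin r → E) →ₗ[R] A :=
    ∑ j, (LinearMap.mulLeft R (y' j)).comp (u.toLinearMap.comp (LinearMap.proj j))
  have hL : ∀ c, L c = ∑ j, y' j * u (c j) := fun c => by simp [L, LinearMap.sum_apply]
  have hsurj : Function.Surjective L := by
    rw [← LinearMap.range_eq_top, ← IsLocalRing.map_tensorProduct_mk_eq_top, eq_top_iff]
    intro t _
    obtain ⟨c, rfl⟩ := hy.2 t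
    refine Submodule.sum_mem _ fun j _ => ?_
    obtain ⟨e, he⟩ := TensorProduct.mk_surjective R E k IsLocalRing.residue_surjective (c j)
    refine ⟨y' j * u e, ⟨Pi.single j e, ?_⟩, ?_⟩
    · rw [hL, Finset.sum_eq_single j (fun i _ hi => by simp [Pi.single_eq_of_ne hi]) (by simp),
        Pi.single_eq_same]
    · rw [← he, ← hy' j]
      simp [u']
  let ε : (Fin r → E) ≃ₗ[R] A := LinearEquiv.ofFinrankEq _ _ (by
    rw [Module.finrank_pi_fintype, hA, Finset.sum_const, Finset.card_univ, Fintype.card_fin, hE,
      smul_eq_mul, sq])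
  have hinj : Function.Injective L := by
    have := OrzechProperty.injective_of_surjective_endomorphism (L.comp ε.symm.toLinearMap)
      (hsurj.comp ε.symm.surjective)
    intro a b hab
    exact ε.injective (this (by simpa using hab))
  refine exists_basis_of_bijective u hmod y' ?_
  rw [show (fun c : Fin r → E => ∑ j, y' j * u (c j)) = L from funext fun c => (hL c).symm]
  exact ⟨hinj, hsurj⟩

end Groth.Agent.CSA.Azu
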