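import Groth.Agent.CSA.AzumayaSpread
import Mathlib.RingTheory.Etale.StandardEtale
import Mathlib.RingTheory.Etale.Pi
import Mathlib.RingTheory.TensorProduct.Pi
import Mathlib.RingTheory.Spectrum.Prime.FreeLocus
import Mathlib.RingTheory.Flat.FaithfullyFlat.Algebra

/-!
# Global étale faithfully flat splittings of Azumaya algebras of constant rank
-/

namespace Groth.Agent.CSA.Azu

open TensorProduct Module

universe u v

variable (R : Type u) [CommRing R] (A : Type v) [Ring A] [Algebra R A] [IsAzumaya R A]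

theorem exists_etale_splitting (n : ℕ)
    (hrk : ∀ p : PrimeSpectrum R, Module.rankAtStalk (R := R) A p = n ^ 2) :
    ∃ (S : Type u) (_ : CommRing S) (_ : Algebra R S), Algebra.Etale R S ∧ Module.FaithfullyFlat R S ∧
      Nonempty ((S ⊗[R] A) ≃ₐ[S] Matrix (Fin n) (Fin n) S) := by
  classical
  -- local pieces
  have hloc : ∀ p : PrimeSpectrum R, ∃ f : R, f ∉ p.asIdeal ∧ ∃ (R' : Type u) (_ : CommRing R')
      (_ : Algebra R R'), Algebra.Etale R R' ∧ Module.Flat R R' ∧
      (∀ q : PrimeSpectrum R, f ∉ q.asIdeal → q ∈ Set.range (PrimeSpectrum.comap (algebraMap R R'))) ∧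
      Nonempty ((R' ⊗[R] A) ≃ₐ[R'] Matrix (Fin n) (Fin n) R') := by
    intro p
    obtain ⟨f, hf, F, r, hr, hF, hdeg, hcop, ⟨e⟩⟩ := exists_split_near R A p.asIdeal
    let S₀ := Localization.Away f
    let R' := AdjoinRoot F
    haveI : Nontrivial S₀ := by
      refine nontrivial_of_ne (0 : S₀) 1 fun h => hf ?_
      have h0 : algebraMap R S₀ 1 = 0 := by rw [map_one, h]
      obtain ⟨⟨_, m, rfl⟩, hm⟩ := (IsLocalization.map_eq_zero_iff (Submonoid.powers f) S₀ 1).1 h0
      simp only [mul_one] at hm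
      exact p.2.mem_of_pow_mem m (hm ▸ p.asIdeal.zero_mem)
    let pb := AdjoinRoot.powerBasis' hF
    haveI : Module.Free S₀ R' := Module.Free.of_basis pb.basis
    haveI : Nontrivial R' := Module.nontrivial_of_finrank_pos (R := S₀)
      (by rw [pb.finrank, AdjoinRoot.powerBasis'_dim, hdeg]; exact hr)
    haveI : Module.Flat R S₀ := IsLocalization.flat S₀ (Submonoid.powers f)
    haveI : Module.FaithfullyFlat S₀ R' := inferInstance
    let e' : R' ⊗[R] A ≃ₐ[R'] Matrix (Fin r) (Fin r) R' := (AlgEquiv.ofLinearEquiv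
      (TensorProduct.AlgebraTensorModule.cancelBaseChange R S₀ R' R' A).symm
      (by simp [Algebra.TensorProduct.one_def])
      (LinearMap.map_mul_of_map_mul_tmul (fun _ _ _ _ ↦ by simp))).trans e
    obtain ⟨⟨q⟩⟩ : Nonempty (Nonempty (PrimeSpectrum R')) := ⟨inferInstance⟩
    have hrn : r = n := by
      have h := congr_fun (Module.rankAtStalk_eq_of_equiv e'.toLinearEquiv) q
      rw [Module.rankAtStalk_baseChange, hrk, Module.rankAtStalk_eq_finrank_of_free] at h
      simp [Module.finrank_matrix, sq] at h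
      exact (Nat.mul_self_inj.1 h).symm
    obtain ⟨a, b, hab⟩ := hcop
    let P : StandardEtalePair S₀ :=
      { f := F, monic_f := hF, g := 1, cond := ⟨b, a, 1, by rw [pow_one, ← hab]; ring⟩ }
    haveI : IsLocalization.Away (1 : AdjoinRoot F) (Localization.Away (AdjoinRoot.mk P.f P.g)) := by
      have h1 : AdjoinRoot.mk P.f P.g = (1 : AdjoinRoot F) := map_one (AdjoinRoot.mk F)
      rw [← h1]
      infer_instance
    haveI : Algebra.Etale S₀ R' :=
      Algebra.Etale.of_equiv (P.equivAwayAdjoinRoot.trans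
        ((IsLocalization.atOne (AdjoinRoot F) (Localization.Away (AdjoinRoot.mk P.f P.g))).restrictScalars
          S₀).symm)
    subst hrn
    haveI : Algebra.Etale R S₀ := Algebra.Etale.of_isLocalizationAway f
    refine ⟨f, hf, R', inferInstance, inferInstance, Algebra.Etale.comp R S₀ R', Module.Flat.trans R S₀ R', fun q hq => ?_, ⟨e'⟩⟩
    obtain ⟨q₀, hq₀⟩ : q ∈ Set.range (PrimeSpectrum.comap (algebraMap R S₀)) := by
      rw [PrimeSpectrum.localization_away_comap_range S₀ f]
      exact hq
    obtain ⟨q₁, hq₁⟩ := PrimeSpectrum.comap_surjective_of_faithfullyFlat (A := S₀) (B := R') q₀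
    refine ⟨q₁, ?_⟩
    rw [← hq₀, ← hq₁, IsScalarTower.algebraMap_eq R S₀ R', PrimeSpectrum.comap_comp]
    rfl
  choose f hf R' hR₁ hR₂ het hflat hcov hsplit using hloc
  obtain ⟨s, hs⟩ := isCompact_univ.elim_finite_subcover
    (fun p : PrimeSpectrum R => ((PrimeSpectrum.basicOpen (f p) : TopologicalSpace.Opens (PrimeSpectrum R)) : Set (PrimeSpectrum R)))
    (fun p => (PrimeSpectrum.basicOpen (f p)).2) (fun q _ => Set.mem_iUnion.2 ⟨q, hf q⟩)
  let I := {p : PrimeSpectrum R // p ∈ s}
  haveI : ∀ i : I, Module.Flat R (R' i.1) := fun i => hflat i.1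
  have hSflat : Module.Flat R ((i : I) → R' i.1) :=
    Module.Flat.of_linearEquiv (DFinsupp.linearEquivFunOnFintype (R := R) (M := fun i : I => R' i.1)).symm
  have hff : Module.FaithfullyFlat R ((i : I) → R' i.1) := by
    refine Module.FaithfullyFlat.of_comap_surjective fun q => ?_
    obtain ⟨p, hp, hq⟩ := Set.mem_iUnion₂.1 (hs (Set.mem_univ q))
    obtain ⟨q₁, hq₁⟩ := hcov p q hq
    refine ⟨PrimeSpectrum.comap (Pi.evalRingHom (fun i : I => R' i.1) ⟨p, hp⟩) q₁, ?_⟩
    rw [← hq₁]
    rfl
  haveI : ∀ i : I, Algebra.Etale R (R' i.1) := fun i => het i.1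
  refine ⟨((i : I) → R' i.1), inferInstance, inferInstance, inferInstance, hff, ?_⟩
  let φ := fun i : I => (hsplit i.1).some
  let g : A →ₐ[R] Matrix (Fin n) (Fin n) ((i : I) → R' i.1) :=
    { toFun := fun a => Matrix.of fun k l i => φ i (1 ⊗ₜ a) k l
      map_one' := by
        ext k l i
        rw [Matrix.of_apply, ← Algebra.TensorProduct.one_def, map_one]
        by_cases h : k = l <;> simp [h, Matrix.one_apply]
      map_mul' := fun a b => by
        ext k l i
        rw [Matrix.of_apply, ← mul_one (1 : R' i.1), ← Algebra.TensorProduct.tmul_mul_tmul, map_mul,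
          Matrix.mul_apply, Matrix.mul_apply, Finset.sum_apply]
        simp
      map_zero' := by ext k l i; simp
      map_add' := fun a b => by ext k l i; simp [TensorProduct.tmul_add]
      commutes' := fun c => by
        ext k l i
        rw [Matrix.of_apply, ← Algebra.TensorProduct.includeRight_apply, AlgHom.commutes,
          IsScalarTower.algebraMap_apply R (R' i.1) (R' i.1 ⊗[R] A), AlgEquiv.commutes]
        by_cases h : k = l <;> simp [h, Matrix.algebraMap_matrix_apply] }
  let Φ : ((i : I) → R' i.1) ⊗[R] A →ₐ[((i : I) → R' i.1)] Matrix (Fin n) (Fin n) ((i : I) → R' i.1) :=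
    Algebra.TensorProduct.lift (Algebra.ofId _ _) g fun x a => Algebra.commutes x (g a)
  let T : ((i : I) → R' i.1) ⊗[R] A ≃ₗ[R] ((i : I) → Matrix (Fin n) (Fin n) (R' i.1)) :=
    (TensorProduct.comm R ((i : I) → R' i.1) A).trans <| (TensorProduct.piRight R R A fun i : I => R' i.1).trans <|
      LinearEquiv.piCongrRight fun i =>
        (TensorProduct.comm R A (R' i.1)).trans ((φ i).toLinearEquiv.restrictScalars R)
  have hT : ∀ x i k l, Φ x k l i = T x i k l := by
    intro x i k l
    induction x using TensorProduct.induction_on with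
    | zero => simp
    | add a b ha hb => simp [map_add, ha, hb]
    | tmul c a =>
      have h1 : T (c ⊗ₜ a) i = φ i (c i ⊗ₜ a) := by simp [T]
      have h2 : c i ⊗ₜ[R] a = c i • ((1 : R' i.1) ⊗ₜ[R] a) := by
        rw [TensorProduct.smul_tmul', smul_eq_mul, mul_one]
      rw [h1, h2, map_smul]
      show (Algebra.ofId _ (Matrix (Fin n) (Fin n) ((i : I) → R' i.1)) c * g a) k l i = _
      rw [Algebra.ofId_apply, ← Algebra.smul_def]
      simp [g]
  refine ⟨AlgEquiv.ofBijective Φ ⟨fun a b hab => T.injective ?_, fun M => ?_⟩⟩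
  · ext i k l
    rw [← hT, ← hT, hab]
  · refine ⟨T.symm fun i => Matrix.of fun k l => M k l i, ?_⟩
    ext k l i
    rw [hT, LinearEquiv.apply_symm_apply, Matrix.of_apply]

end Groth.Agent.CSA.Azu
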