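import Groth.Agent.CSA.AzumayaLocal
import Mathlib.RingTheory.Localization.Integral
import Mathlib.RingTheory.Localization.BaseChange
import Mathlib.Algebra.Module.FinitePresentation

/-!
# Azumaya algebras are split by étale covers Zariski locally
-/

namespace Groth.Agent.CSA.Azu

open TensorProduct Module Polynomial

universe u v w

/-- A spanning family of the right size gives a basis over a free commutative subalgebra. -/
theorem exists_basis_of_surjective {R : Type u} [CommRing R] {A : Type v} [Ring A] [Algebra R A]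
    [Module.Free R A] [Module.Finite R A] [Nontrivial R] {E : Type w} [CommRing E] [Algebra R E]
    [Module.Free R E] [Module.Finite R E] (u : E →ₐ[R] A) [Module E A]
    (hmod : ∀ (e : E) (a : A), e • a = a * u e) {r : ℕ} (y : Fin r → A)
    (hy : Function.Surjective fun c : Fin r → E => ∑ j, y j * u (c j))
    (hrk : r * finrank R E = finrank R A) : Nonempty (Basis (Fin r) E A) := by
  let L : (Fin r → E) →ₗ[R] A :=
    ∑ j, (LinearMap.mulLeft R (y j)).comp (u.toLinearMap.comp (LinearMap.proj j))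
  have hL : (fun c : Fin r → E => ∑ j, y j * u (c j)) = L := funext fun c => by
    simp [L, LinearMap.sum_apply]
  rw [hL] at hy
  let ε : (Fin r → E) ≃ₗ[R] A := LinearEquiv.ofFinrankEq _ _ (by
    rw [Module.finrank_pi_fintype, Finset.sum_const, Finset.card_univ, Fintype.card_fin, smul_eq_mul,
      hrk])
  refine exists_basis_of_bijective u hmod y ?_
  rw [hL]
  refine ⟨fun a b hab => ε.injective (OrzechProperty.injective_of_surjective_endomorphism
    (L.comp ε.symm.toLinearMap) (hy.comp ε.symm.surjective) (by simpa using hab)), hy⟩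

variable (R : Type u) [CommRing R] (A : Type v) [Ring A] [Algebra R A] [IsAzumaya R A]

set_option maxHeartbeats 1600000 in
/-- An Azumaya algebra is split by a finite étale cover of a neighbourhood of any prime. -/
theorem exists_split_near (p : Ideal R) [p.IsPrime] :
    ∃ f : R, f ∉ p ∧ ∃ (F : (Localization.Away f)[X]) (r : ℕ), 1 ≤ r ∧ F.Monic ∧ F.natDegree = r ∧
      IsCoprime F (derivative F) ∧
      Nonempty (AdjoinRoot F ⊗[Localization.Away f] (Localization.Away f ⊗[R] A)
        ≃ₐ[AdjoinRoot F] Matrix (Fin r) (Fin r) (AdjoinRoot F)) := by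
  classical
  let L := Localization.AtPrime p
  haveI := isAzumaya_baseChange (R := R) L A
  haveI : Module.Free L (L ⊗[R] A) := Module.free_of_flat_of_isLocalRing
  obtain ⟨r, hr⟩ : ∃ r, finrank L (L ⊗[R] A) = r ^ 2 := by
    have := isAzumaya_baseChange (R := L) (IsLocalRing.ResidueField L) (L ⊗[R] A)
    obtain ⟨_, _⟩ := (isAzumaya_iff_central_simple (IsLocalRing.ResidueField L) _).1 this
    obtain ⟨r, hr⟩ := isSquare_finrank (IsLocalRing.ResidueField L)
      (IsLocalRing.ResidueField L ⊗[L] (L ⊗[R] A))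
    rw [finrank_residue] at hr
    exact ⟨r, by rw [hr, sq]⟩
  have hr0 := rank_pos L (L ⊗[R] A) hr
  -- data over the local ring
  obtain ⟨ξ, F₁, hF₁, hdeg, hev, hsep, hind⟩ := exists_regular_section L (L ⊗[R] A) hr
  obtain ⟨a₁, b₁, hab⟩ : IsCoprime F₁ (derivative F₁) :=
    Groth.Agent.S17979.result L F₁ (derivative F₁) hF₁ (by rw [← derivative_map]; exact hsep)
  obtain ⟨u₁, hu₁⟩ := exists_rootHom F₁ ξ hev
  let pb := AdjoinRoot.powerBasis' hF₁
  haveI : Module.Finite L (AdjoinRoot F₁) := hF₁.finite_adjoinRoot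
  haveI : Module.Free L (AdjoinRoot F₁) := Module.Free.of_basis pb.basis
  have hE₁ : finrank L (AdjoinRoot F₁) = r := by rw [pb.finrank, AdjoinRoot.powerBasis'_dim, hdeg]
  letI := rightModule u₁
  obtain ⟨bas⟩ : Nonempty (Basis (Fin r) (AdjoinRoot F₁) (L ⊗[R] A)) := by
    set k := IsLocalRing.ResidueField L
    haveI : Algebra.Etale L (AdjoinRoot F₁) := Groth.Agent.HenselLib.etale_adjoinRoot hF₁ hsep
    have hbc := Algebra.FormallyUnramified.base_change (R := L) (A := AdjoinRoot F₁) k
    haveI : IsReduced (k ⊗[L] AdjoinRoot F₁) :=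
      Algebra.FormallyUnramified.isReduced_of_field k _
    refine exists_basis_local L (L ⊗[R] A) hr _ hE₁ u₁ ?_ fun _ _ => rfl
    let bk := pb.basis.baseChange k
    show Function.Injective (u₁.toLinearMap.baseChange k)
    refine fun a b hab => bk.repr.injective ?_
    have key : LinearIndependent k ((u₁.toLinearMap.baseChange k) ∘ bk) := by
      have he : (u₁.toLinearMap.baseChange k) ∘ bk =
          (fun i : Fin r => ((1 : k) ⊗ₜ[L] ξ) ^ (i : ℕ)) ∘
            Fin.cast (hdeg ▸ AdjoinRoot.powerBasis'_dim hF₁) := by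
        funext i
        simp only [bk, Function.comp_apply, Basis.baseChange_apply, LinearMap.baseChange_tmul,
          PowerBasis.basis_eq_pow, AlgHom.toLinearMap_apply, map_pow, Fin.val_cast,
          Algebra.TensorProduct.tmul_pow, one_pow]
        rw [AdjoinRoot.powerBasis'_gen, AdjoinRoot.root, hu₁, Polynomial.aeval_X]
      rw [he]
      exact hind.comp _ (Fin.cast_injective _)
    rw [LinearIndependent] at key
    apply key
    rw [← LinearMap.map_finsupp_linearCombination, ← LinearMap.map_finsupp_linearCombination,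
      bk.linearCombination_repr, bk.linearCombination_repr]
    exact hab
  -- clearing denominators
  have hunit : ∀ s : p.primeCompl, IsUnit (algebraMap R L s) := IsLocalization.map_units L
  let mk1 := TensorProduct.mk R L A 1
  obtain ⟨⟨a, s⟩, has⟩ := IsLocalizedModule.surj p.primeCompl mk1 ξ
  obtain ⟨⟨y, sy⟩, hy⟩ : ∃ q : (Fin r → A) × p.primeCompl,
      ∀ j, (q.2 : R) • bas j = mk1 (q.1 j) := by
    choose q hq using fun j => IsLocalizedModule.surj p.primeCompl mk1 (bas j)
    refine ⟨⟨fun j => ((∏ i ∈ Finset.univ.erase j, (q i).2) : R) • (q j).1, ∏ i, (q i).2⟩, fun j => ?_⟩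
    rw [map_smul, ← hq j, Submonoid.smul_def, smul_smul, Submonoid.coe_finset_prod,
      Finset.prod_erase_mul _ _ (Finset.mem_univ j)]
  obtain ⟨d, hd⟩ := IsLocalization.integerNormalization_map_to_map p.primeCompl F₁
  obtain ⟨da, hda⟩ := IsLocalization.integerNormalization_map_to_map p.primeCompl a₁
  obtain ⟨db, hdb⟩ := IsLocalization.integerNormalization_map_to_map p.primeCompl b₁
  set G₁ := IsLocalization.integerNormalization p.primeCompl F₁
  set a₀ := IsLocalization.integerNormalization p.primeCompl a₁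
  set b₀ := IsLocalization.integerNormalization p.primeCompl b₁
  let G : R[X] := C (d : R) * X ^ r + ∑ i : Fin r, C (G₁.coeff i) * X ^ (i : ℕ)
  have hG : G.map (algebraMap R L) = C (algebraMap R L d) * F₁ := by
    have hcoe : ∀ i, algebraMap R L (G₁.coeff i) = algebraMap R L d * F₁.coeff i := fun i => by
      rw [← coeff_map, hd, coeff_smul, Algebra.smul_def]
    conv_rhs => rw [hF₁.as_sum, hdeg]
    simp only [G, Polynomial.map_add, Polynomial.map_mul, map_C, Polynomial.map_pow, map_X,
      Polynomial.map_sum, hcoe, mul_add, Finset.mul_sum, ← mul_assoc, ← C_mul,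
      ← Fin.sum_univ_eq_sum_range]
  have haL : algebraMap R L s • ξ = mk1 a := by rw [algebraMap_smul]; exact has
  -- relations over `R` up to killing
  let z₀ : A := (d : R) • a ^ r + ∑ i : Fin r, (G₁.coeff i * (s : R) ^ (r - (i : ℕ))) • a ^ (i : ℕ)
  obtain ⟨t₁, ht₁⟩ : ∃ t : p.primeCompl, (t : R) • z₀ = 0 := by
    have hpow : ∀ i, mk1 (a ^ i) = algebraMap R L s ^ i • ξ ^ i := fun i => by
      rw [← _root_.smul_pow, haL]
      show (1 : L) ⊗ₜ[R] (a ^ i) = ((1 : L) ⊗ₜ[R] a) ^ i
      rw [Algebra.TensorProduct.tmul_pow, one_pow]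
    have : mk1 z₀ = mk1 0 := by
      have h0 : aeval ξ (G.map (algebraMap R L)) = 0 := by rw [hG, map_mul, hev, mul_zero]
      simp only [G, Polynomial.map_add, Polynomial.map_mul, map_C, Polynomial.map_pow, map_X,
        Polynomial.map_sum, map_add, map_sum, map_mul, aeval_C, map_pow, aeval_X,
        ← Algebra.smul_def] at h0
      rw [map_zero, ← smul_zero (algebraMap R L s ^ r), ← h0]
      simp only [z₀, map_add, map_sum, map_smul, hpow, smul_add, Finset.smul_sum, ← algebraMap_smul (R := R) L,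
        smul_smul, map_mul, map_pow]
      congr 1
      · rw [mul_comm]
      · refine Finset.sum_congr rfl fun i _ => ?_
        congr 1
        rw [mul_assoc, ← pow_add, Nat.sub_add_cancel i.is_lt.le, mul_comm]
    obtain ⟨t, ht⟩ := IsLocalizedModule.exists_of_eq (S := p.primeCompl) (f := mk1) this
    exact ⟨t, by simpa [Submonoid.smul_def] using ht⟩
  let W : R[X] := a₀ * C (db : R) * G + b₀ * C (da : R) * derivative G - C ((d : R) * da * db)
  obtain ⟨t₂, ht₂⟩ : ∃ t : p.primeCompl, C (t : R) * W = 0 := by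
    have hW : W.map (algebraMap R L) = 0 := by
      simp only [W, Polynomial.map_sub, Polynomial.map_add, Polynomial.map_mul, map_C, ← derivative_map,
        hG, hda, hdb, derivative_mul, derivative_C, zero_mul, zero_add, map_mul]
      rw [← algebraMap_smul L (da : R) a₁, ← algebraMap_smul L (db : R) b₁, smul_eq_C_mul, smul_eq_C_mul]
      linear_combination (C (algebraMap R L d) * C (algebraMap R L da) * C (algebraMap R L db)) * hab
    have : ∀ n, ∃ t : p.primeCompl, (t : R) * W.coeff n = 0 := fun n =>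
      (IsLocalization.map_eq_zero_iff p.primeCompl L _).1 (by rw [← coeff_map, hW, coeff_zero])
    choose t ht using this
    refine ⟨∏ n ∈ W.support, t n, Polynomial.ext fun n => ?_⟩
    rw [coeff_C_mul, coeff_zero]
    by_cases hn : n ∈ W.support
    · rw [Submonoid.coe_finset_prod, ← Finset.prod_erase_mul _ _ hn, mul_assoc, ht, mul_zero]
    · rw [notMem_support_iff.1 hn, mul_zero]
  -- the basis
  let θ : (Fin r × Fin r → R) →ₗ[R] A :=
    (Pi.basisFun R (Fin r × Fin r)).constr ℕ fun q => y q.1 * a ^ (q.2 : ℕ)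
  have hθL : Function.Bijective (θ.baseChange L) := by
    let e := Fin.cast (hdeg ▸ AdjoinRoot.powerBasis'_dim hF₁ : pb.dim = r)
    let B₀ : Basis (Fin r × Fin r) L (L ⊗[R] A) :=
      haveI : IsScalarTower L (AdjoinRoot F₁) (L ⊗[R] A) := ⟨fun c e x => by
        show x * u₁ (c • e) = c • (x * u₁ e)
        rw [map_smul, mul_smul_comm]⟩
      ((pb.basis.reindex (finCongr (hdeg ▸ AdjoinRoot.powerBasis'_dim hF₁))).smulTower bas).reindex
        (Equiv.prodComm _ _)
    have hB₀ : ∀ q, B₀ q = bas q.1 * ξ ^ (q.2 : ℕ) := fun q => by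
      simp only [B₀, Basis.reindex_apply, Equiv.prodComm_symm, Equiv.prodComm_apply,
        Basis.smulTower_apply, Prod.swap_prod_mk, Prod.fst_swap, Prod.snd_swap, PowerBasis.basis_eq_pow,
        AdjoinRoot.powerBasis'_gen, pb]
      show bas q.1 * u₁ (AdjoinRoot.root F₁ ^ _) = _
      rw [map_pow, AdjoinRoot.root, hu₁, aeval_X]
      simp
    let B₁ := B₀.unitsSMul fun q => (hunit sy).unit * (hunit s).unit ^ (q.2 : ℕ)
    have hB₁ : ∀ q, (θ.baseChange L) ((Pi.basisFun R (Fin r × Fin r)).baseChange L q) = B₁ q := fun q => by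
      rw [Basis.baseChange_apply, LinearMap.baseChange_tmul, Basis.unitsSMul_apply, Units.smul_def,
        Units.val_mul, Units.val_pow_eq_pow_val, IsUnit.unit_spec, IsUnit.unit_spec, hB₀,
        ← smul_mul_smul_comm, ← _root_.smul_pow, algebraMap_smul, hy, haL]
      simp only [θ, Basis.constr_basis, mk1, TensorProduct.mk_apply]
      rw [Algebra.TensorProduct.tmul_pow, one_pow, Algebra.TensorProduct.tmul_mul_tmul, one_mul]
    have he : θ.baseChange L = (((Pi.basisFun R (Fin r × Fin r)).baseChange L).equiv B₁ (Equiv.refl _)).toLinearMap :=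
      ((Pi.basisFun R (Fin r × Fin r)).baseChange L).ext fun q => by
        rw [hB₁, LinearEquiv.coe_toLinearMap, Basis.equiv_apply]; rfl
    rw [he]
    exact LinearEquiv.bijective _
  haveI : Module.FinitePresentation R A := Module.finitePresentation_of_projective R A
  let mk0 := TensorProduct.mk R L (Fin r × Fin r → R) 1
  obtain ⟨f₀, hf₀, hbij⟩ := exists_bijective_map_powers p.primeCompl mk0 mk1 θ (by
    have : IsLocalizedModule.map p.primeCompl mk0 mk1 θ = (θ.baseChange L).restrictScalars R :=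
      IsLocalizedModule.ext p.primeCompl mk0 (IsLocalizedModule.map_units mk1) (LinearMap.ext fun x => by
        rw [LinearMap.comp_apply, IsLocalizedModule.map_apply]; rfl)
    rw [this]
    exact hθL)
  -- the neighbourhood
  let f : R := (d : R) * da * db * s * sy * t₁ * t₂ * f₀
  have hfp : f ∈ p.primeCompl := mul_mem (mul_mem (mul_mem (mul_mem (mul_mem (mul_mem (mul_mem
    d.2 da.2) db.2) s.2) sy.2) t₁.2) t₂.2) hf₀
  refine ⟨f, hfp, ?_⟩
  let S := Localization.Away f
  haveI : Nontrivial S := nontrivial_of_ne (0 : S) 1 fun h => hfp (by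
    have h0 : algebraMap R S 1 = 0 := by rw [map_one, h]
    obtain ⟨⟨_, n, rfl⟩, hn⟩ := (IsLocalization.map_eq_zero_iff (Submonoid.powers f) S 1).1 h0
    simp only [mul_one] at hn
    exact (Ideal.IsPrime.mem_of_pow_mem ‹_› n (hn ▸ p.zero_mem)))
  have hdvd : ∀ c : R, c ∣ f → IsUnit (algebraMap R S c) := fun c hc =>
    isUnit_of_dvd_unit (map_dvd _ hc) (IsLocalization.Away.algebraMap_isUnit f)
  haveI := isAzumaya_baseChange (R := R) S A
  obtain ⟨ud, hud⟩ := hdvd d (by simp [f, Dvd.intro, mul_assoc])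
  obtain ⟨us, hus⟩ := hdvd s ⟨(d : R) * da * db * sy * t₁ * t₂ * f₀, by simp only [f]; ring⟩
  obtain ⟨ua, hua⟩ := hdvd da ⟨(d : R) * db * s * sy * t₁ * t₂ * f₀, by simp only [f]; ring⟩
  obtain ⟨ub, hub⟩ := hdvd db ⟨(d : R) * da * s * sy * t₁ * t₂ * f₀, by simp only [f]; ring⟩
  obtain ⟨ut₁, hut₁⟩ := hdvd t₁ ⟨(d : R) * da * db * s * sy * t₂ * f₀, by simp only [f]; ring⟩
  obtain ⟨ut₂, hut₂⟩ := hdvd t₂ ⟨(d : R) * da * db * s * sy * t₁ * f₀, by simp only [f]; ring⟩
  let F : S[X] := X ^ r + ∑ i : Fin r, C ((ud⁻¹ : Sˣ) * algebraMap R S (G₁.coeff i)) * X ^ (i : ℕ)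
  have hFdeg : (∑ i : Fin r, C ((ud⁻¹ : Sˣ) * algebraMap R S (G₁.coeff i)) * X ^ (i : ℕ)).degree < (r : WithBot ℕ) :=
    degree_sum_fin_lt _
  have hF : F.Monic := monic_X_pow_add hFdeg
  have hFnat : F.natDegree = r := natDegree_eq_of_degree_eq_some (by
    rw [degree_add_eq_left_of_degree_lt (by rwa [degree_X_pow]), degree_X_pow])
  have hGF : G.map (algebraMap R S) = C (ud : S) * F := by
    simp only [G, F, Polynomial.map_add, Polynomial.map_mul, map_C, Polynomial.map_pow, map_X,
      Polynomial.map_sum, ← hud, mul_add, Finset.mul_sum, ← mul_assoc, ← C_mul, Units.mul_inv, one_mul]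
  have hcop : IsCoprime F (derivative F) := by
    have h0 : W.map (algebraMap R S) = 0 := by
      have := congr_arg (Polynomial.map (algebraMap R S)) ht₂
      rw [Polynomial.map_mul, map_C, ← hut₂, Polynomial.map_zero] at this
      exact ((isUnit_C.2 ut₂.isUnit).mul_right_eq_zero).1 this
    simp only [W, Polynomial.map_sub, Polynomial.map_add, Polynomial.map_mul, map_C, ← derivative_map,
      hGF, derivative_mul, derivative_C, zero_mul, zero_add, map_mul, ← hud, ← hua, ← hub] at h0
    have hc : IsUnit (C (ud : S) * C (ua : S) * C (ub : S)) :=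
      ((isUnit_C.2 ud.isUnit).mul (isUnit_C.2 ua.isUnit)).mul (isUnit_C.2 ub.isUnit)
    obtain ⟨w, hw⟩ := hc
    refine ⟨(↑w⁻¹ : S[X]) * (a₀.map (algebraMap R S) * C (ub : S) * C (ud : S)),
      (↑w⁻¹ : S[X]) * (b₀.map (algebraMap R S) * C (ua : S) * C (ud : S)), ?_⟩
    rw [← Units.inv_mul w, hw]
    linear_combination (↑w⁻¹ : S[X]) * h0
  -- the root and the basis over the neighbourhood
  let η : S ⊗[R] A := (us⁻¹ : Sˣ).val ⊗ₜ[R] a
  have hη : ∀ i : ℕ, η ^ i = (((us⁻¹ : Sˣ).val ^ i : S)) • ((1 : S) ⊗ₜ[R] (a ^ i)) := fun i => by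
    rw [TensorProduct.smul_tmul', smul_eq_mul, mul_one, Algebra.TensorProduct.tmul_pow]
  have hroot : aeval η F = 0 := by
    have hz : (1 : S) ⊗ₜ[R] z₀ = 0 := by
      have : (ut₁ : S) • ((1 : S) ⊗ₜ[R] z₀) = 0 := by
        rw [hut₁, algebraMap_smul, ← TensorProduct.tmul_smul, ht₁, TensorProduct.tmul_zero]
      exact (ut₁.isUnit.smul_eq_zero).1 this
    suffices h : aeval η F = ((ud⁻¹ : Sˣ).val * (us⁻¹ : Sˣ).val ^ r) • ((1 : S) ⊗ₜ[R] z₀) by
      rw [h, hz, smul_zero]
    simp only [F, z₀, map_add, map_sum, map_mul, map_pow, aeval_X, aeval_C, ← Algebra.smul_def, hη,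
      TensorProduct.tmul_add, TensorProduct.tmul_sum, TensorProduct.tmul_smul, smul_add,
      Finset.smul_sum, ← algebraMap_smul (R := R) S, smul_smul]
    congr 1
    · congr 1
      rw [← hud]
      linear_combination (-(us⁻¹ : Sˣ).val ^ r) * ud.inv_mul
    · refine Finset.sum_congr rfl fun i _ => ?_
      simp only [← hus, map_mul, map_pow, smul_mul_assoc, ← Algebra.smul_def, smul_smul, smul_eq_mul]
      congr 1
      simp only [Algebra.smul_def]
      have hsplit : (us⁻¹ : Sˣ).val ^ r = (us⁻¹ : Sˣ).val ^ (i : ℕ) * (us⁻¹ : Sˣ).val ^ (r - (i : ℕ)) := by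
        rw [← pow_add, Nat.add_sub_cancel' i.is_lt.le]
      have hone : (us⁻¹ : Sˣ).val ^ (r - (i : ℕ)) * (us : S) ^ (r - (i : ℕ)) = 1 := by
        rw [← mul_pow, us.inv_mul, one_pow]
      rw [hsplit]
      linear_combination (-(ud⁻¹ : Sˣ).val * algebraMap R S (G₁.coeff i) * (us⁻¹ : Sˣ).val ^ (i : ℕ)) * hone
  obtain ⟨u, hu⟩ := exists_rootHom F η hroot
  let pbS := AdjoinRoot.powerBasis' hF
  haveI : Module.Finite S (AdjoinRoot F) := hF.finite_adjoinRoot
  haveI : Module.Free S (AdjoinRoot F) := Module.Free.of_basis pbS.basis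
  have hθS : Function.Bijective (θ.baseChange S) := by
    have h1 := hbij f (Dvd.intro_left _ rfl)
    rw [← IsLocalizedModule.map_bijective_iff_localizedModuleMap_bijective
      (TensorProduct.mk R S (Fin r × Fin r → R) 1) (TensorProduct.mk R S A 1)] at h1
    have : IsLocalizedModule.map (Submonoid.powers f) (TensorProduct.mk R S (Fin r × Fin r → R) 1)
        (TensorProduct.mk R S A 1) θ = (θ.baseChange S).restrictScalars R :=
      IsLocalizedModule.ext (Submonoid.powers f) (TensorProduct.mk R S (Fin r × Fin r → R) 1)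
        (IsLocalizedModule.map_units (TensorProduct.mk R S A 1)) (LinearMap.ext fun x => by
          rw [LinearMap.comp_apply, IsLocalizedModule.map_apply]; rfl)
    rwa [this] at h1
  let BS := ((Pi.basisFun R (Fin r × Fin r)).baseChange S).map (LinearEquiv.ofBijective _ hθS)
  haveI : Module.Free S (S ⊗[R] A) := Module.Free.of_basis BS
  have hAS : finrank S (S ⊗[R] A) = r ^ 2 := by
    rw [Module.finrank_eq_card_basis BS, Fintype.card_prod, Fintype.card_fin, sq]
  letI := rightModule u
  obtain ⟨b⟩ : Nonempty (Basis (Fin r) (AdjoinRoot F) (S ⊗[R] A)) := by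
    refine exists_basis_of_surjective u (fun _ _ => rfl) (fun j => (1 : S) ⊗ₜ[R] y j) (fun t => ?_)
      (by rw [pbS.finrank, AdjoinRoot.powerBasis'_dim, hFnat, hAS, sq])
    refine ⟨fun j => ∑ i, (BS.repr t (j, i) * (us : S) ^ (i : ℕ)) • AdjoinRoot.root F ^ (i : ℕ), ?_⟩
    have hBS : ∀ q, BS q = (1 : S) ⊗ₜ[R] (y q.1 * a ^ (q.2 : ℕ)) := fun q => by
      simp [BS, θ]
    conv_rhs => rw [← BS.sum_repr t, Fintype.sum_prod_type]
    refine Finset.sum_congr rfl fun j _ => ?_
    simp only [map_sum, map_smul, map_pow, Finset.mul_sum]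
    refine Finset.sum_congr rfl fun i _ => ?_
    rw [AdjoinRoot.root, hu, aeval_X, hη, smul_smul, mul_assoc, ← mul_pow, us.mul_inv, one_pow,
      mul_one, mul_smul_comm, Algebra.TensorProduct.tmul_mul_tmul, one_mul, hBS]
  exact ⟨F, r, hr0, hF, hFnat, hcop,
    (bijective_act S (S ⊗[R] A) hr0 hAS (AdjoinRoot F) u (fun _ _ => rfl) b).2.1⟩

end Groth.Agent.CSA.Azu
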