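import Groth.Agent.CSA.AzumayaSplit
import Groth.Agent.CSA.AzumayaCharpoly
import Mathlib.RingTheory.PiTensorProduct
import Mathlib.LinearAlgebra.Matrix.Determinant.Basic
import Mathlib.LinearAlgebra.Matrix.Adjugate

/-!
# The tensor power of an Azumaya algebra of degree `n` is trivial
-/

namespace Groth.Agent.CSA.Azu

open scoped TensorProduct
open PiTensorProduct

universe u v

section Mat

variable {S : Type u} [CommRing S] {n : ℕ}

/-- Multi-indices. -/
abbrev MI (n : ℕ) := Fin n → Fin n

/-- Tensor product of matrices on multi-indices. -/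
def piM (M : Fin n → Matrix (Fin n) (Fin n) S) : Matrix (MI n) (MI n) S :=
  Matrix.of fun I J => ∏ t, M t (I t) (J t)

theorem piM_mul (M N : Fin n → Matrix (Fin n) (Fin n) S) : piM M * piM N = piM (M * N) := by
  ext I J
  simp only [piM, Matrix.mul_apply, Matrix.of_apply, Pi.mul_apply]
  rw [Fintype.prod_sum]
  exact Finset.sum_congr rfl fun L _ => Finset.prod_mul_distrib.symm

theorem piM_one : piM (1 : Fin n → Matrix (Fin n) (Fin n) S) = 1 := by
  ext I J
  simp only [piM, Matrix.of_apply, Pi.one_apply, Matrix.one_apply]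
  rw [Fintype.prod_boole]
  by_cases h : I = J
  · subst h; simp
  · rw [if_neg h, if_neg fun h' => h (funext h')]

/-- The vector of signs. -/
def sgnVec (S : Type u) [CommRing S] (n : ℕ) : MI n → S := fun I =>
  ∑ π : Equiv.Perm (Fin n), if I = ⇑π then ((Equiv.Perm.sign π : ℤ) : S) else 0

theorem sgnVec_perm (π : Equiv.Perm (Fin n)) : sgnVec S n ⇑π = ((Equiv.Perm.sign π : ℤ) : S) := by
  rw [sgnVec, Finset.sum_eq_single π (fun σ _ hσ => if_neg fun h => hσ (Equiv.ext fun t =>
    (congr_fun h t).symm)) (by simp), if_pos rfl]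

theorem sgnVec_id : sgnVec S n id = 1 := by
  have := sgnVec_perm (S := S) (1 : Equiv.Perm (Fin n))
  simpa using this

/-- The antisymmetriser. -/
def asymM (S : Type u) [CommRing S] (n : ℕ) : Matrix (MI n) (MI n) S :=
  Matrix.vecMulVec (sgnVec S n) (sgnVec S n)

theorem asymM_map {T : Type u} [CommRing T] (f : S →+* T) : (asymM S n).map f = asymM T n := by
  ext I J
  simp only [asymM, Matrix.map_apply, Matrix.vecMulVec_apply, map_mul, sgnVec, map_sum]
  congr 1 <;> refine Finset.sum_congr rfl fun π _ => ?_ <;> split_ifs <;> simp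

theorem sum_prod_sgnVec (a : Matrix (Fin n) (Fin n) S) (I : MI n) :
    ∑ J, (∏ t, a (I t) (J t)) * sgnVec S n J = a.det * sgnVec S n I := by
  have h1 : ∑ J, (∏ t, a (I t) (J t)) * sgnVec S n J = (a.submatrix I id).det := by
    simp only [sgnVec, Finset.mul_sum, mul_ite, mul_zero]
    rw [Finset.sum_comm, ← Matrix.det_transpose, Matrix.det_apply']
    refine Finset.sum_congr rfl fun π _ => ?_
    rw [Finset.sum_ite_eq' Finset.univ ⇑π, if_pos (Finset.mem_univ _), mul_comm]
    rfl
  rw [h1]
  by_cases hI : Function.Injective I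
  · let π := Equiv.ofBijective I (Finite.injective_iff_bijective.1 hI)
    rw [show I = ⇑π from rfl, Matrix.det_permute, sgnVec_perm, mul_comm]
  · obtain ⟨i, j, hij, hne⟩ : ∃ i j, I i = I j ∧ i ≠ j := by
      simpa [Function.Injective] using hI
    rw [Matrix.det_zero_of_row_eq hne (funext fun l => by simp [hij]), sgnVec,
      Finset.sum_eq_zero (fun π _ => if_neg fun h => hI (by rw [h]; exact π.injective)), mul_zero]

theorem piM_const_commute (a : Matrix (Fin n) (Fin n) S) :
    piM (fun _ => a) * asymM S n = asymM S n * piM (fun _ => a) := by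
  have h1 : Matrix.mulVec (piM fun _ => a) (sgnVec S n) = a.det • sgnVec S n := funext fun I => by
    simpa [Matrix.mulVec, dotProduct, piM] using sum_prod_sgnVec a I
  have h2 : Matrix.vecMul (sgnVec S n) (piM fun _ => a) = a.det • sgnVec S n := funext fun J => by
    have := sum_prod_sgnVec a.transpose J
    simpa [Matrix.vecMul, dotProduct, piM, mul_comm] using this
  rw [asymM, Matrix.mul_vecMulVec, h1, Matrix.vecMulVec_mul, h2, Matrix.smul_vecMulVec,
    Matrix.vecMulVec_smul]

variable {R : Type v} [CommRing R] [Algebra R S] {A : Type v} [Ring A] [Algebra R A]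

/-- The multilinear map to matrices on multi-indices. -/
noncomputable def piMultilinear (f : A →ₐ[R] Matrix (Fin n) (Fin n) S) :
    MultilinearMap R (fun _ : Fin n => A) (Matrix (MI n) (MI n) S) :=
  (Matrix.ofLinearEquiv R).toLinearMap.compMultilinearMap
    (MultilinearMap.pi fun I => MultilinearMap.pi fun J =>
      (MultilinearMap.mkPiAlgebra R (Fin n) S).compLinearMap fun t =>
        (Matrix.entryLinearMap R S (I t) (J t)).comp f.toLinearMap)

theorem piMultilinear_apply (f : A →ₐ[R] Matrix (Fin n) (Fin n) S) (a : Fin n → A) :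
    piMultilinear f a = piM fun t => f (a t) := by
  ext I J
  simp [piMultilinear, piM]

/-- The induced map on the tensor power. -/
noncomputable def piHom (f : A →ₐ[R] Matrix (Fin n) (Fin n) S) :
    (⨂[R] _ : Fin n, A) →ₐ[R] Matrix (MI n) (MI n) S :=
  PiTensorProduct.liftAlgHom (piMultilinear f)
    (by rw [piMultilinear_apply]; simp only [Pi.one_apply, map_one]; exact piM_one)
    (fun x y => by
      rw [piMultilinear_apply, piMultilinear_apply, piMultilinear_apply, piM_mul]
      congr 1
      funext t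
      simp)

theorem piHom_tprod (f : A →ₐ[R] Matrix (Fin n) (Fin n) S) (a : Fin n → A) :
    piHom f (PiTensorProduct.tprod R a) = piM fun t => f (a t) := by
  simp [piHom, piMultilinear_apply]

/-- The map from the base change of the tensor power. -/
noncomputable def piHomS (f : A →ₐ[R] Matrix (Fin n) (Fin n) S) :
    S ⊗[R] (⨂[R] _ : Fin n, A) →ₐ[S] Matrix (MI n) (MI n) S :=
  Algebra.TensorProduct.lift (Algebra.ofId _ _) (piHom f) fun x y => Algebra.commutes x (piHom f y)

theorem piHomS_tmul (f : A →ₐ[R] Matrix (Fin n) (Fin n) S) (c : S) (y : ⨂[R] _ : Fin n, A) :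
    piHomS f (c ⊗ₜ y) = c • piHom f y := by
  rw [Algebra.smul_def]
  rfl

theorem piHomS_surjective (φ : (S ⊗[R] A) ≃ₐ[S] Matrix (Fin n) (Fin n) S)
    (f : A →ₐ[R] Matrix (Fin n) (Fin n) S) (hf : ∀ a, f a = φ (1 ⊗ₜ a)) :
    Function.Surjective (piHomS f) := by
  classical
  have hpos : ∀ t X, piM (Pi.mulSingle t X) ∈ (piHomS f).range := by
    intro t X
    obtain ⟨x, rfl⟩ := φ.surjective X
    refine ⟨(singleAlgHom (R := R) (A := fun _ : Fin n => A) t).toLinearMap.lTensor S x, ?_⟩
    induction x using TensorProduct.induction_on with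
    | zero =>
      rw [map_zero, map_zero]
      ext I J
      simp only [piM, Matrix.of_apply, Matrix.zero_apply]
      exact (Finset.prod_eq_zero (Finset.mem_univ t) (by simp)).symm
    | tmul c a =>
      rw [LinearMap.lTensor_tmul]
      show piHomS f _ = _
      rw [piHomS_tmul, AlgHom.toLinearMap_apply]
      have h1 : φ (c ⊗ₜ a) = c • f a := by
        rw [hf, ← map_smul, TensorProduct.smul_tmul', smul_eq_mul, mul_one]
      rw [show singleAlgHom (R := R) (A := fun _ : Fin n => A) t a = PiTensorProduct.tprod R (Pi.mulSingle t a) from rfl,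
        piHom_tprod, h1]
      ext I J
      simp only [piM, Matrix.smul_apply, Matrix.of_apply, smul_eq_mul]
      rw [← Finset.mul_prod_erase _ _ (Finset.mem_univ t),
        ← Finset.mul_prod_erase _ _ (Finset.mem_univ t), Pi.mulSingle_eq_same, Pi.mulSingle_eq_same,
        Matrix.smul_apply, smul_eq_mul, mul_assoc]
      congr 2
      refine Finset.prod_congr rfl fun s hs => ?_
      rw [Pi.mulSingle_eq_of_ne (Finset.ne_of_mem_erase hs), Pi.mulSingle_eq_of_ne (Finset.ne_of_mem_erase hs),
        map_one]
    | add x y hx hy =>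
      simp only [map_add, RingHom.coe_coe] at hx hy ⊢
      rw [hx, hy]
      ext I J
      simp only [piM, Matrix.add_apply, Matrix.of_apply]
      rw [← Finset.mul_prod_erase _ _ (Finset.mem_univ t), ← Finset.mul_prod_erase _ _ (Finset.mem_univ t),
        ← Finset.mul_prod_erase _ _ (Finset.mem_univ t)]
      simp only [Pi.mulSingle_eq_same, Matrix.add_apply, add_mul]
      congr 1 <;> congr 1 <;> refine Finset.prod_congr rfl fun s hs => ?_ <;>
        rw [Pi.mulSingle_eq_of_ne (Finset.ne_of_mem_erase hs), Pi.mulSingle_eq_of_ne (Finset.ne_of_mem_erase hs)]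
  have hall : ∀ (X : Fin n → Matrix (Fin n) (Fin n) S) (s : Finset (Fin n)),
      piM (fun t => if t ∈ s then X t else 1) ∈ (piHomS f).range := by
    intro X s
    induction s using Finset.induction with
    | empty =>
      simp only [Finset.notMem_empty, if_false]
      rw [show (fun _ : Fin n => (1 : Matrix (Fin n) (Fin n) S)) = 1 from rfl, piM_one]
      exact one_mem _
    | insert t s ht ih =>
      have : piM (fun r => if r ∈ insert t s then X r else 1) =
          piM (Pi.mulSingle t (X t)) * piM (fun r => if r ∈ s then X r else 1) := by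
        rw [piM_mul]
        congr 1
        funext r
        rcases eq_or_ne r t with rfl | hr
        · simp [ht]
        · simp [hr]
      rw [this]
      exact mul_mem (hpos t _) ih
  intro M
  change M ∈ (piHomS f).range
  rw [Matrix.matrix_eq_sum_single M]
  refine Subalgebra.sum_mem _ fun I _ => Subalgebra.sum_mem _ fun J _ => ?_
  rw [show Matrix.single I J (M I J) = M I J • piM (fun t => Matrix.single (I t) (J t) (1 : S)) from ?_]
  · exact Subalgebra.smul_mem _ (by simpa using hall (fun t => Matrix.single (I t) (J t) (1 : S)) Finset.univ) _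
  ext I' J'
  simp only [piM, Matrix.smul_apply, Matrix.of_apply, Matrix.single_apply, smul_eq_mul]
  rw [Fintype.prod_boole]
  by_cases h : I = I' ∧ J = J'
  · obtain ⟨rfl, rfl⟩ := h
    simp
  · rw [if_neg h, if_neg fun h' => h ⟨funext fun t => (h' t).1, funext fun t => (h' t).2⟩, mul_zero]

end Mat

variable {R : Type u} [CommRing R]

theorem isAzumaya_piTensorProduct (A : Type u) [Ring A] [Algebra R A] [IsAzumaya R A] (n : ℕ) :
    IsAzumaya R (⨂[R] _ : Fin n, A) := by
  induction n with
  | zero =>
    have hb : Function.Bijective (Algebra.ofId R (⨂[R] _ : Fin 0, A)) := by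
      have : ⇑(Algebra.ofId R (⨂[R] _ : Fin 0, A)) =
          (isEmptyEquiv (R := R) (s := fun _ : Fin 0 => A) (Fin 0)).symm := funext fun r => by
        rw [Algebra.ofId_apply, Algebra.algebraMap_eq_smul_one, PiTensorProduct.isEmptyEquiv]
        show r • (1 : ⨂[R] _ : Fin 0, A) = r • PiTensorProduct.tprod R isEmptyElim
        rw [PiTensorProduct.one_def]
        congr 2
        exact Subsingleton.elim _ _
      rw [this]
      exact LinearEquiv.bijective _
    exact IsAzumaya.of_AlgEquiv _ _ _ (AlgEquiv.ofBijective _ hb)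
  | succ n ih =>
    let su : (⨂[R] _ : Fin n, A) →ₐ[R] ⨂[R] _ : Fin (n + 1), A :=
      PiTensorProduct.liftAlgHom ((PiTensorProduct.tprod R (s := fun _ : Fin (n + 1) => A)).curryLeft 1)
        (by
          show PiTensorProduct.tprod R (Fin.cons (α := fun _ : Fin (n + 1) => A) 1 (1 : Fin n → A)) = 1
          rw [PiTensorProduct.one_def]
          congr 1
          funext i; refine Fin.cases ?_ (fun j => ?_) i <;> simp)
        (fun x y => by
          show PiTensorProduct.tprod R (Fin.cons (α := fun _ : Fin (n + 1) => A) 1 (x * y)) = PiTensorProduct.tprod R (Fin.cons (α := fun _ : Fin (n + 1) => A) 1 x) * PiTensorProduct.tprod R (Fin.cons (α := fun _ : Fin (n + 1) => A) 1 y)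
          rw [PiTensorProduct.tprod_mul_tprod]
          congr 1
          funext i; refine Fin.cases ?_ (fun j => ?_) i <;> simp)
    have hsu : ∀ x, su (PiTensorProduct.tprod R x) = PiTensorProduct.tprod R (Fin.cons (α := fun _ : Fin (n + 1) => A) 1 x) := fun x => by simp [su]
    have hcomm : ∀ a (z : ⨂[R] _ : Fin n, A),
        Commute (singleAlgHom (R := R) (A := fun _ : Fin (n + 1) => A) 0 a) (su z) := fun a z => by
      induction z using PiTensorProduct.induction_on with
      | smul_tprod r x =>
        rw [map_smul, hsu]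
        refine Commute.smul_right ?_ r
        refine Commute.tprod (funext fun i => ?_)
        refine Fin.cases ?_ (fun j => ?_) i <;> simp
      | add x y hx hy => rw [map_add]; exact hx.add_right hy
    let F : A ⊗[R] (⨂[R] _ : Fin n, A) →ₐ[R] ⨂[R] _ : Fin (n + 1), A :=
      Algebra.TensorProduct.lift (singleAlgHom (R := R) (A := fun _ : Fin (n + 1) => A) 0) su hcomm
    let mG : MultilinearMap R (fun _ : Fin (n + 1) => A) (A ⊗[R] (⨂[R] _ : Fin n, A)) :=
      LinearMap.uncurryLeft
        { toFun := fun a => (TensorProduct.mk R A _ a).compMultilinearMap (PiTensorProduct.tprod R (s := fun _ : Fin n => A))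
          map_add' := fun a b => MultilinearMap.ext fun x => by simp [TensorProduct.add_tmul]
          map_smul' := fun r a => MultilinearMap.ext fun x => by simp [TensorProduct.smul_tmul'] }
    have hG : ∀ x, mG x = x 0 ⊗ₜ PiTensorProduct.tprod R (Fin.tail x) := fun x => rfl
    let G : (⨂[R] _ : Fin (n + 1), A) →ₐ[R] A ⊗[R] (⨂[R] _ : Fin n, A) :=
      PiTensorProduct.liftAlgHom mG (by rw [hG, Algebra.TensorProduct.one_def, PiTensorProduct.one_def]; rfl)
        (fun x y => by
          rw [hG, hG, hG, Algebra.TensorProduct.tmul_mul_tmul, PiTensorProduct.tprod_mul_tprod]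
          rfl)
    have hGt : ∀ x, G (PiTensorProduct.tprod R x) = x 0 ⊗ₜ PiTensorProduct.tprod R (Fin.tail x) := fun x => by simp [G, hG]
    have hFt : ∀ a x, F (a ⊗ₜ PiTensorProduct.tprod R x) = PiTensorProduct.tprod R (Fin.cons (α := fun _ : Fin (n + 1) => A) a x) := fun a x => by
      show singleAlgHom (R := R) (A := fun _ : Fin (n + 1) => A) 0 a * su (PiTensorProduct.tprod R x) = _
      rw [hsu]
      show PiTensorProduct.tprod R (Pi.mulSingle (M := fun _ : Fin (n + 1) => A) 0 a) * PiTensorProduct.tprod R (Fin.cons (α := fun _ : Fin (n + 1) => A) 1 x) = _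
      rw [PiTensorProduct.tprod_mul_tprod]
      congr 1
      funext i; refine Fin.cases ?_ (fun j => ?_) i <;> simp
    have h1 : F.comp G = AlgHom.id R _ := AlgHom.toLinearMap_injective <| PiTensorProduct.ext <|
      MultilinearMap.ext fun x => by
        show F (G (PiTensorProduct.tprod R x)) = PiTensorProduct.tprod R x
        rw [hGt, hFt, Fin.cons_self_tail]
    have h2 : G.comp F = AlgHom.id R _ := AlgHom.toLinearMap_injective <| TensorProduct.ext <|
      LinearMap.ext fun a => PiTensorProduct.ext <| MultilinearMap.ext fun x => by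
        show G (F (a ⊗ₜ PiTensorProduct.tprod R x)) = a ⊗ₜ PiTensorProduct.tprod R x
        rw [hFt, hGt, Fin.cons_zero, Fin.tail_cons]
    haveI := ih
    haveI := isAzumaya_tensor (R := R) A (⨂[R] _ : Fin n, A)
    exact IsAzumaya.of_AlgEquiv _ _ _ (AlgEquiv.ofAlgHom F G h1 h2)

/-- The image of the antisymmetriser does not depend on the splitting. -/
theorem piHomS_asym_indep {T : Type u} [CommRing T] [Algebra R T] {A : Type u} [Ring A] [Algebra R A]
    {n : ℕ} (hn : 0 < n) (Φ₁ Φ₂ : (T ⊗[R] A) ≃ₐ[T] Matrix (Fin n) (Fin n) T)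
    (f₁ f₂ : A →ₐ[R] Matrix (Fin n) (Fin n) T) (h₁ : ∀ a, f₁ a = Φ₁ (1 ⊗ₜ a))
    (h₂ : ∀ a, f₂ a = Φ₂ (1 ⊗ₜ a)) (x : T ⊗[R] (⨂[R] _ : Fin n, A))
    (hx : piHomS f₁ x = asymM T n) : piHomS f₂ x = asymM T n := by
  haveI : Nonempty (Fin n) := ⟨⟨0, hn⟩⟩
  haveI : IsAzumaya T (Matrix (Fin n) (Fin n) T) := IsAzumaya.matrix T (Fin n)
  let σ := Φ₁.symm.trans Φ₂
  have hσ : ∀ a, σ (f₁ a) = f₂ a := fun a => by simp [σ, h₁, h₂]
  refine Matrix.ext fun I J => eq_of_sub_eq_zero ?_
  by_contra hne
  obtain ⟨p, hp, hle⟩ : ∃ p : Ideal T, p.IsMaximal ∧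
      (Submodule.span T {(piHomS f₂ x I J - asymM T n I J)}).annihilator ≤ p :=
    Ideal.exists_le_maximal _ fun h => hne (by
      rw [Submodule.annihilator_eq_top_iff, Submodule.span_singleton_eq_bot] at h
      exact h)
  obtain ⟨a, ha, g, hg, b, c, hb, hc⟩ := exists_semicentral T (Matrix (Fin n) (Fin n) T) σ p hp.ne_top
  have key : ∀ z, piHomS f₂ z * piM (fun _ => a) = piM (fun _ => a) * piHomS f₁ z := fun z => by
    induction z using TensorProduct.induction_on with
    | zero => simp
    | add z w hz hw => simp only [map_add, add_mul, mul_add, hz, hw]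
    | tmul c z =>
      rw [piHomS_tmul, piHomS_tmul, smul_mul_assoc, mul_smul_comm]
      congr 1
      induction z using PiTensorProduct.induction_on with
      | smul_tprod r y =>
        simp only [map_smul, piHom_tprod, smul_mul_assoc, mul_smul_comm, piM_mul]
        congr 2
        funext t
        simp only [Pi.mul_apply, ← hσ, ha]
      | add z w hz hw => simp only [map_add, add_mul, mul_add, hz, hw]
  have h0 : (piHomS f₂ x - asymM T n) * piM (fun _ => a) = 0 := by
    rw [sub_mul, key, hx, piM_const_commute, sub_self]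
  have h1 := congr_arg (· * piM (fun _ => c)) h0
  simp only [zero_mul, mul_assoc, piM_mul] at h1
  have h2 : piM ((fun _ : Fin n => a) * fun _ => c) = g ^ n • (1 : Matrix (MI n) (MI n) T) := by
    rw [← piM_one]
    ext K L
    simp [piM, hc, Matrix.algebraMap_matrix_apply, Matrix.one_apply, Finset.prod_ite_zero, funext_iff]
  rw [h2, mul_smul_comm, mul_one] at h1
  refine hg (hp.isPrime.mem_of_pow_mem n (hle (Submodule.mem_annihilator_span_singleton _ _ |>.2 ?_)))
  simpa [smul_sub] using congr_fun (congr_fun h1 I) J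

theorem injective_piHomS (S : Type u) [CommRing S] [Algebra R S] (A : Type u) [Ring A] [Algebra R A]
    [IsAzumaya R A] {n : ℕ} (f : A →ₐ[R] Matrix (Fin n) (Fin n) S) :
    Function.Injective (piHomS f) := by
  haveI := isAzumaya_piTensorProduct (R := R) A n
  haveI := isAzumaya_baseChange (R := R) S (⨂[R] _ : Fin n, A)
  let I := TwoSidedIdeal.ker (piHomS f)
  have hI := twoSided_eq_map S (S ⊗[R] (⨂[R] _ : Fin n, A)) I
  have hJ : (TwoSidedIdeal.asIdeal I).comap (algebraMap S _) = ⊥ := eq_bot_iff.2 fun s hs => by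
    rw [Ideal.mem_comap, TwoSidedIdeal.mem_asIdeal, TwoSidedIdeal.mem_ker, AlgHom.commutes] at hs
    simpa [Matrix.algebraMap_matrix_apply] using congr_fun (congr_fun hs id) id
  refine (injective_iff_map_eq_zero _).2 fun x hx => ?_
  have : x ∈ TwoSidedIdeal.asIdeal I := by rw [TwoSidedIdeal.mem_asIdeal, TwoSidedIdeal.mem_ker]; exact hx
  rw [hI, hJ, Ideal.map_bot, Ideal.mem_bot] at this
  exact this

/-- The antisymmetriser descends. -/
theorem exists_asym (A : Type u) [Ring A] [Algebra R A] [IsAzumaya R A] {n : ℕ} (hn : 0 < n)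
    (S : Type u) [CommRing S] [Algebra R S] [Module.FaithfullyFlat R S]
    (φ : (S ⊗[R] A) ≃ₐ[S] Matrix (Fin n) (Fin n) S) (f : A →ₐ[R] Matrix (Fin n) (Fin n) S)
    (hf : ∀ a, f a = φ (1 ⊗ₜ a)) :
    ∃ z : ⨂[R] _ : Fin n, A, piHom f z = asymM S n := by
  haveI := isAzumaya_piTensorProduct (R := R) A n
  obtain ⟨x, hx⟩ := piHomS_surjective φ f hf (asymM S n)
  let gl : S →ₐ[R] S ⊗[R] S := Algebra.TensorProduct.includeLeft
  let gr : S →ₐ[R] S ⊗[R] S := Algebra.TensorProduct.includeRight
  have hpush : ∀ g : S →ₐ[R] S ⊗[R] S, piHomS (g.mapMatrix.comp f)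
      (g.toLinearMap.rTensor _ x) = asymM (S ⊗[R] S) n := fun g => by
    rw [← asymM_map g.toRingHom, ← hx]
    clear hx
    induction x using TensorProduct.induction_on with
    | zero => simp
    | add a b ha hb => rw [map_add, map_add, ha, hb, map_add, Matrix.map_add _ (map_add _)]
    | tmul c z =>
      rw [LinearMap.rTensor_tmul, piHomS_tmul, piHomS_tmul]
      induction z using PiTensorProduct.induction_on with
      | smul_tprod r y =>
        rw [map_smul, map_smul, piHom_tprod, piHom_tprod]
        ext I J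
        simp [piM, map_prod, Matrix.smul_apply]
      | add a b ha hb =>
        rw [map_add, map_add, smul_add, smul_add, ha, hb, Matrix.map_add _ (map_add _)]
  obtain ⟨Φl, hl⟩ := exists_splitting_baseChange R A S φ (S ⊗[R] S) gl
  obtain ⟨Φr, hr⟩ := exists_splitting_baseChange R A S φ (S ⊗[R] S) gr
  have hfl : ∀ a, gl.mapMatrix.comp f a = Φl (1 ⊗ₜ a) := fun a => by rw [hl, ← hf]; rfl
  have hfr : ∀ a, gr.mapMatrix.comp f a = Φr (1 ⊗ₜ a) := fun a => by rw [hr, ← hf]; rfl
  have heq : gl.toLinearMap.rTensor _ x = gr.toLinearMap.rTensor _ x := by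
    refine injective_piHomS (S ⊗[R] S) A (gr.mapMatrix.comp f) ?_
    rw [hpush gr]
    exact piHomS_asym_indep hn Φl Φr _ _ hfl hfr _ (hpush gl)
  have hex := Module.Flat.rTensor_exact (⨂[R] _ : Fin n, A)
    (Algebra.IsEffective.of_faithfullyFlat R S)
  obtain ⟨w, hw⟩ := (hex x).1 (by
    rw [Algebra.TensorProduct.includeLeftSubRight, LinearMap.rTensor_sub, LinearMap.sub_apply,
      sub_eq_zero]
    exact heq)
  refine ⟨TensorProduct.lid R _ w, ?_⟩
  rw [← hx, ← hw]
  clear hw
  induction w using TensorProduct.induction_on with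
  | zero => simp
  | add a b ha hb => simp [map_add, ha, hb]
  | tmul c z => simp [piHomS_tmul, Algebra.algebraMap_eq_smul_one]

end Groth.Agent.CSA.Azu
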