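import Groth.Agent.CSA.Uniq

/-!
# Brauer equivalence calculus for central simple algebras
-/

namespace Groth.Agent.CSA

open scoped TensorProduct

/-- Brauer equivalence: matrix algebras of positive sizes over `A` and `B` are isomorphic. -/
def BrEq (k : Type*) [CommSemiring k] (A B : Type*) [Semiring A] [Algebra k A] [Semiring B]
    [Algebra k B] : Prop :=
  ∃ n m : ℕ, n ≠ 0 ∧ m ≠ 0 ∧ Nonempty (Matrix (Fin n) (Fin n) A ≃ₐ[k] Matrix (Fin m) (Fin m) B)

variable {k : Type*} [Field k]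

/-- Nested matrices flatten, over `Fin`. -/
noncomputable def compFin (A : Type*) [Ring A] [Algebra k A] (p n : ℕ) :
    Matrix (Fin p) (Fin p) (Matrix (Fin n) (Fin n) A) ≃ₐ[k] Matrix (Fin (p * n)) (Fin (p * n)) A :=
  (Matrix.compAlgEquiv (Fin p) (Fin n) A k).trans (Matrix.reindexAlgEquiv k A finProdFinEquiv)

/-- Matrices over a tensor product. -/
noncomputable def matrixTensorRight (A C : Type*) [Ring A] [Algebra k A] [Ring C] [Algebra k C]
    (n : ℕ) : Matrix (Fin n) (Fin n) (A ⊗[k] C) ≃ₐ[k] Matrix (Fin n) (Fin n) A ⊗[k] C :=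
  (matrixEquivTensor (Fin n) k (A ⊗[k] C)).trans <|
    (Algebra.TensorProduct.assoc k k k A C (Matrix (Fin n) (Fin n) k)).trans <|
      (Algebra.TensorProduct.congr AlgEquiv.refl
        (Algebra.TensorProduct.comm k C (Matrix (Fin n) (Fin n) k))).trans <|
        (Algebra.TensorProduct.assoc k k k A (Matrix (Fin n) (Fin n) k) C).symm.trans <|
          Algebra.TensorProduct.congr (matrixEquivTensor (Fin n) k A).symm AlgEquiv.refl

namespace BrEq

variable {A B C : Type*} [Ring A] [Algebra k A] [Ring B] [Algebra k B] [Ring C] [Algebra k C]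

theorem of_algEquiv (e : A ≃ₐ[k] B) : BrEq k A B :=
  ⟨1, 1, one_ne_zero, one_ne_zero, ⟨e.mapMatrix⟩⟩

theorem symm (h : BrEq k A B) : BrEq k B A :=
  let ⟨n, m, hn, hm, ⟨e⟩⟩ := h
  ⟨m, n, hm, hn, ⟨e.symm⟩⟩

theorem trans (h : BrEq k A B) (h' : BrEq k B C) : BrEq k A C := by
  obtain ⟨n, m, hn, hm, ⟨e⟩⟩ := h
  obtain ⟨p, q, hp, hq, ⟨f⟩⟩ := h'
  refine ⟨p * n, m * q, mul_ne_zero hp hn, mul_ne_zero hm hq, ⟨?_⟩⟩
  exact (compFin A p n).symm.trans (e.mapMatrix.trans ((compFin B p m).trans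
    ((Matrix.reindexAlgEquiv k B (finCongr (mul_comm p m))).trans
      ((compFin B m p).symm.trans (f.mapMatrix.trans (compFin C m q))))))

theorem tensor_right (h : BrEq k A B) (T : Type*) [Ring T] [Algebra k T] :
    BrEq k (A ⊗[k] T) (B ⊗[k] T) := by
  obtain ⟨n, m, hn, hm, ⟨e⟩⟩ := h
  exact ⟨n, m, hn, hm, ⟨(matrixTensorRight A T n).trans <|
    (Algebra.TensorProduct.congr e AlgEquiv.refl).trans (matrixTensorRight B T m).symm⟩⟩

theorem tensor_left (h : BrEq k A B) (T : Type*) [Ring T] [Algebra k T] :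
    BrEq k (T ⊗[k] A) (T ⊗[k] B) :=
  (BrEq.of_algEquiv (Algebra.TensorProduct.comm k T A)).trans
    ((h.tensor_right T).trans (BrEq.of_algEquiv (Algebra.TensorProduct.comm k B T)))

end BrEq

/-- A representation of `T ⊗ Uᵒᵖ` of the right dimension gives Brauer equivalence of `T` and `U`. -/
theorem brEq_of_rep {T U : Type*} [Ring T] [Algebra k T] [Algebra.IsCentral k T] [IsSimpleRing T]
    [FiniteDimensional k T] [Ring U] [Algebra k U] [Algebra.IsCentral k U] [IsSimpleRing U]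
    [FiniteDimensional k U] {V : Type*} [AddCommGroup V] [Module k V] [FiniteDimensional k V]
    (f : T ⊗[k] Uᵐᵒᵖ →ₐ[k] Module.End k V)
    (h : Module.finrank k T * Module.finrank k U = Module.finrank k V * Module.finrank k V) :
    BrEq k T U ∧
      Nonempty (Matrix (Fin (Module.finrank k U)) (Fin (Module.finrank k U)) T ≃ₐ[k]
        Matrix (Fin (Module.finrank k V)) (Fin (Module.finrank k V)) U) := by
  have : Nontrivial V := by
    rw [← Module.finrank_pos_iff (R := k)]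
    have : 0 < Module.finrank k T * Module.finrank k U := Nat.mul_pos Module.finrank_pos Module.finrank_pos
    rw [h] at this
    exact Nat.pos_of_mul_pos_left this
  have := isSimpleRing_tensor k T Uᵐᵒᵖ
  have hf := bijective_of_isSimpleRing f (by
    rw [Module.finrank_tensorProduct, Module.finrank_linearMap,
      ← LinearEquiv.finrank_eq (MulOpposite.opLinearEquiv k : U ≃ₗ[k] Uᵐᵒᵖ), h])
  let u := Module.finrank k U
  let N := Module.finrank k V
  let eU : Matrix (Fin u) (Fin u) k ≃ₐ[k] U ⊗[k] Uᵐᵒᵖ :=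
    (algEquivMatrix (Module.finBasis k U)).symm.trans
      (AlgEquiv.ofBijective _ (mulLeftRight_bijective k U)).symm
  let eV : T ⊗[k] Uᵐᵒᵖ ≃ₐ[k] Matrix (Fin N) (Fin N) k :=
    (AlgEquiv.ofBijective f hf).trans (algEquivMatrix (Module.finBasis k V))
  let e : Matrix (Fin u) (Fin u) T ≃ₐ[k] Matrix (Fin N) (Fin N) U :=
    (matrixEquivTensor (Fin u) k T).trans <|
      (Algebra.TensorProduct.congr AlgEquiv.refl
        (eU.trans (Algebra.TensorProduct.comm k U Uᵐᵒᵖ))).trans <|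
        (Algebra.TensorProduct.assoc k k k T Uᵐᵒᵖ U).symm.trans <|
          (Algebra.TensorProduct.congr eV AlgEquiv.refl).trans <|
            (Algebra.TensorProduct.comm k _ U).trans (matrixEquivTensor (Fin N) k U).symm
  exact ⟨⟨u, N, Module.finrank_pos.ne', Module.finrank_pos.ne', ⟨e⟩⟩, ⟨e⟩⟩

theorem isSplit_self_iff {A : Type*} [Ring A] [Algebra k A] :
    IsSplit k A k ↔ ∃ n : ℕ, n ≠ 0 ∧ Nonempty (A ≃ₐ[k] Matrix (Fin n) (Fin n) k) := by
  constructor <;> rintro ⟨n, hn, ⟨e⟩⟩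
  · exact ⟨n, hn, ⟨(Algebra.TensorProduct.lid k A).symm.trans e⟩⟩
  · exact ⟨n, hn, ⟨(Algebra.TensorProduct.lid k A).trans e⟩⟩

/-- Being split is invariant under Brauer equivalence. -/
theorem isSplit_of_brEq {A B : Type*} [Ring A] [Algebra k A] [Ring B] [Algebra k B]
    [Algebra.IsCentral k B] [IsSimpleRing B] [FiniteDimensional k B]
    (h : BrEq k A B) (hA : IsSplit k A k) : IsSplit k B k := by
  obtain ⟨n, m, hn, hm, ⟨e⟩⟩ := h
  obtain ⟨r, hr, ⟨f⟩⟩ := isSplit_self_iff.1 hA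
  have := IsArtinianRing.of_finite k B
  obtain ⟨s, hs, D, _, _, _, ⟨g⟩⟩ := IsSimpleRing.exists_algEquiv_matrix_divisionRing_finite k B
  have := isCentral_of_algEquiv_matrix k D g
  obtain ⟨d⟩ := divisionRing_unique k k D (n * r) (m * s) (mul_ne_zero hn hr)
    (mul_ne_zero hm (NeZero.ne s))
    ((compFin k n r).symm.trans (f.symm.mapMatrix.trans (e.trans (g.mapMatrix.trans (compFin D m s)))))
  exact isSplit_self_iff.2 ⟨s, NeZero.ne s, ⟨g.trans d.symm.mapMatrix⟩⟩

theorem isSplit_iff_of_brEq {A B : Type*} [Ring A] [Algebra k A] [Algebra.IsCentral k A]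
    [IsSimpleRing A] [FiniteDimensional k A] [Ring B] [Algebra k B]
    [Algebra.IsCentral k B] [IsSimpleRing B] [FiniteDimensional k B]
    (h : BrEq k A B) : IsSplit k A k ↔ IsSplit k B k :=
  ⟨isSplit_of_brEq h, isSplit_of_brEq h.symm⟩

end Groth.Agent.CSA
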