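import Groth.Agent.CSA.Basic

/-!
# Modules over simple algebras, Skolem–Noether, double centraliser
-/

namespace Groth.Agent.CSA

open scoped TensorProduct

section Modules

variable (k : Type*) [Field k] (R : Type*) [Ring R] [Algebra k R] [IsSimpleRing R]
  [FiniteDimensional k R]

include k in
/-- Two simple modules over a simple finite algebra are isomorphic. -/
theorem nonempty_linearEquiv_of_isSimpleModule (S T : Type*) [AddCommGroup S] [Module R S]
    [AddCommGroup T] [Module R T] [IsSimpleModule R S] [IsSimpleModule R T] :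
    Nonempty (S ≃ₗ[R] T) := by
  have := IsArtinianRing.of_finite k R
  obtain ⟨I, ⟨e⟩⟩ := IsSemisimpleRing.exists_linearEquiv_ideal_of_isSimpleModule R S
  obtain ⟨J, ⟨e'⟩⟩ := IsSemisimpleRing.exists_linearEquiv_ideal_of_isSimpleModule R T
  have := IsSimpleModule.congr e.symm
  have := IsSimpleModule.congr e'.symm
  obtain ⟨f⟩ := IsSimpleRing.isIsotypic R R I J
  exact ⟨e.trans (f.symm.trans e'.symm)⟩

variable (M N : Type*) [AddCommGroup M] [Module k M] [Module R M] [IsScalarTower k R M]
  [FiniteDimensional k M] [AddCommGroup N] [Module k N] [Module R N] [IsScalarTower k R N]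
  [FiniteDimensional k N]

include k in
theorem exists_linearEquiv_pi [Nontrivial M] :
    ∃ (n : ℕ) (_ : NeZero n) (S : Submodule R M), IsSimpleModule R S ∧
      Nonempty (M ≃ₗ[R] (Fin n → S)) := by
  have := IsArtinianRing.of_finite k R
  have : Module.Finite R M := Module.Finite.of_restrictScalars_finite k R M
  exact (IsSimpleRing.isIsotypic R M).linearEquiv_fun

/-- Modules of the same finite dimension over a simple finite algebra are isomorphic. -/
theorem nonempty_linearEquiv_of_finrank_eq (h : Module.finrank k M = Module.finrank k N) :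
    Nonempty (M ≃ₗ[R] N) := by
  rcases subsingleton_or_nontrivial M with hM | hM
  · have : Subsingleton N := by
      rw [← Module.finrank_zero_iff (R := k), ← h]
      exact Module.finrank_zero_of_subsingleton
    exact ⟨0, 0, fun _ => Subsingleton.elim _ _, fun _ => Subsingleton.elim _ _⟩
  have : Nontrivial N := by
    rw [← Module.finrank_pos_iff (R := k), ← h]
    exact Module.finrank_pos
  obtain ⟨m, hm, S, hS, ⟨e⟩⟩ := exists_linearEquiv_pi k R M
  obtain ⟨n, hn, T, hT, ⟨e'⟩⟩ := exists_linearEquiv_pi k R N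
  obtain ⟨f⟩ := nonempty_linearEquiv_of_isSimpleModule k R S T
  have : FiniteDimensional k S := FiniteDimensional.of_injective (S.subtype.restrictScalars k)
    Subtype.val_injective
  have : FiniteDimensional k T := FiniteDimensional.of_injective (T.subtype.restrictScalars k)
    Subtype.val_injective
  have hmn : m = n := by
    have h1 := (e.restrictScalars k).finrank_eq
    have h2 := (e'.restrictScalars k).finrank_eq
    rw [Module.finrank_pi_fintype, Finset.sum_const, Finset.card_univ, Fintype.card_fin,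
      smul_eq_mul] at h1 h2
    rw [← (f.restrictScalars k).finrank_eq] at h2
    have : Nontrivial S := IsSimpleModule.nontrivial R S
    have hS0 : 0 < Module.finrank k S := Module.finrank_pos
    exact Nat.eq_of_mul_eq_mul_right hS0 (by rw [← h1, ← h2, h])
  subst hmn
  exact ⟨e.trans ((LinearEquiv.piCongrRight fun _ => f).trans e'.symm)⟩

/-- The endomorphism ring of a nonzero finite module over a simple finite algebra is simple, and
`dim End_R M * dim R = (dim M) ^ 2`. -/
theorem isSimpleRing_end [Nontrivial M] :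
    IsSimpleRing (Module.End R M) ∧
      Module.finrank k (Module.End R M) * Module.finrank k R = Module.finrank k M ^ 2 := by
  classical
  obtain ⟨n, hn, S, hS, ⟨e⟩⟩ := exists_linearEquiv_pi k R M
  have : Nontrivial R := inferInstance
  obtain ⟨r, hr, I, hI, ⟨e'⟩⟩ := exists_linearEquiv_pi k R R
  obtain ⟨f⟩ := nonempty_linearEquiv_of_isSimpleModule k R I S
  have g : R ≃ₗ[R] (Fin r → S) := e'.trans (LinearEquiv.piCongrRight fun _ => f)
  have E : Module.End R M ≃ₐ[k] Matrix (Fin n) (Fin n) (Module.End R S) :=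
    (e.conjAlgEquiv k).trans (endVecAlgEquivMatrixEnd ..)
  have G : Rᵐᵒᵖ ≃ₐ[k] Matrix (Fin r) (Fin r) (Module.End R S) :=
    (AlgEquiv.moduleEndSelf k).trans ((g.conjAlgEquiv k).trans (endVecAlgEquivMatrixEnd ..))
  refine ⟨IsSimpleRing.of_ringEquiv E.symm.toRingEquiv inferInstance, ?_⟩
  have h1 := E.toLinearEquiv.finrank_eq
  have h2 := G.toLinearEquiv.finrank_eq
  have h3 := (e.restrictScalars k).finrank_eq
  have h4 := (g.restrictScalars k).finrank_eq
  have : FiniteDimensional k S := FiniteDimensional.of_injective (S.subtype.restrictScalars k)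
    Subtype.val_injective
  rw [← (MulOpposite.opLinearEquiv k : R ≃ₗ[k] Rᵐᵒᵖ).finrank_eq] at h2
  rw [Module.finrank_matrix, Fintype.card_fin] at h1 h2
  rw [Module.finrank_pi_fintype, Finset.sum_const, Finset.card_univ, Fintype.card_fin,
      smul_eq_mul] at h3 h4
  rw [h1, h3]
  have h5 : r * (r * Module.finrank k (Module.End R S)) = r * Module.finrank k S := by
    rw [← h4, ← mul_assoc, ← h2]
  have h6 := Nat.eq_of_mul_eq_mul_left (Nat.pos_of_ne_zero (NeZero.ne r)) h5
  rw [h2, ← h6]
  ring

end Modules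

variable {k : Type*} [Field k] {A : Type*} [Ring A] [Algebra k A]
  [Algebra.IsCentral k A] [IsSimpleRing A] [FiniteDimensional k A]

/-- The action of `B ⊗ Aᵒᵖ` on `A` by `(b ⊗ a) • x = f b * x * a`. -/
noncomputable def bimodHom {B : Type*} [Ring B] [Algebra k B] (f : B →ₐ[k] A) :
    B ⊗[k] Aᵐᵒᵖ →ₐ[k] Module.End k A :=
  (AlgHom.mulLeftRight k A).comp (Algebra.TensorProduct.map f (AlgHom.id k _))

omit [Algebra.IsCentral k A] [IsSimpleRing A] [FiniteDimensional k A] in
theorem bimodHom_apply {B : Type*} [Ring B] [Algebra k B] (f : B →ₐ[k] A) (b : B) (a : Aᵐᵒᵖ)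
    (x : A) : bimodHom f (b ⊗ₜ a) x = f b * x * a.unop := by
  simp [bimodHom]

/-- Skolem–Noether. -/
theorem skolemNoether {B : Type*} [Ring B] [Algebra k B] [IsSimpleRing B] (f g : B →ₐ[k] A) :
    ∃ x : Aˣ, ∀ b : B, f b = (x : A) * g b * (x⁻¹ : Aˣ) := by
  have : FiniteDimensional k B := FiniteDimensional.of_injective f.toLinearMap f.toRingHom.injective
  have := isSimpleRing_tensor k B Aᵐᵒᵖ
  have key : ∀ (V W : Type _) [AddCommGroup V] [Module k V] [FiniteDimensional k V]
      [AddCommGroup W] [Module k W] [FiniteDimensional k W]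
      (ρ : B ⊗[k] Aᵐᵒᵖ →ₐ[k] Module.End k V) (σ : B ⊗[k] Aᵐᵒᵖ →ₐ[k] Module.End k W),
      Module.finrank k V = Module.finrank k W →
      ∃ e : V ≃ₗ[k] W, ∀ r v, e (ρ r v) = σ r (e v) := by
    intro V W _ _ _ _ _ _ ρ σ h
    let : Module (B ⊗[k] Aᵐᵒᵖ) V := Module.compHom V ρ.toRingHom
    let : Module (B ⊗[k] Aᵐᵒᵖ) W := Module.compHom W σ.toRingHom
    have : IsScalarTower k (B ⊗[k] Aᵐᵒᵖ) V := ⟨fun c r v => by
      change ρ (c • r) v = c • ρ r v
      rw [map_smul, LinearMap.smul_apply]⟩
    have : IsScalarTower k (B ⊗[k] Aᵐᵒᵖ) W := ⟨fun c r v => by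
      change σ (c • r) v = c • σ r v
      rw [map_smul, LinearMap.smul_apply]⟩
    obtain ⟨e⟩ := nonempty_linearEquiv_of_finrank_eq k (B ⊗[k] Aᵐᵒᵖ) V W h
    exact ⟨e.restrictScalars k, fun r v => e.map_smul r v⟩
  obtain ⟨e, he⟩ := key A A (bimodHom g) (bimodHom f) rfl
  have h1 : ∀ a, e a = e 1 * a := fun a => by
    simpa [bimodHom_apply] using he ((1 : B) ⊗ₜ MulOpposite.op a) 1
  obtain ⟨v, hv⟩ := e.surjective 1
  have huv : e 1 * v = 1 := by rw [← h1, hv]
  have hvu : v * e 1 = 1 := by
    apply e.injective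
    rw [h1, ← mul_assoc, huv, one_mul]
  refine ⟨⟨e 1, v, huv, hvu⟩, fun b => ?_⟩
  change f b = e 1 * g b * v
  have h2 : e 1 * g b = f b * e 1 := by
    have := he (b ⊗ₜ (1 : Aᵐᵒᵖ)) 1
    simp only [bimodHom_apply, MulOpposite.unop_one, mul_one] at this
    rwa [h1 (g b)] at this
  rw [h2, mul_assoc, huv, mul_one]

/-- The centraliser of a simple subalgebra is simple, and its dimension times that of the
subalgebra is the dimension of the whole algebra. -/
theorem centralizer_isSimpleRing_finrank (B : Subalgebra k A) [IsSimpleRing B] :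
    IsSimpleRing (Subalgebra.centralizer k (B : Set A)) ∧
      Module.finrank k A =
        Module.finrank k B * Module.finrank k (Subalgebra.centralizer k (B : Set A)) := by
  have := isSimpleRing_tensor k B Aᵐᵒᵖ
  let : Module (B ⊗[k] Aᵐᵒᵖ) A := Module.compHom A (bimodHom B.val).toRingHom
  have hsmul : ∀ (r : B ⊗[k] Aᵐᵒᵖ) (x : A), r • x = bimodHom B.val r x := fun _ _ => rfl
  have : IsScalarTower k (B ⊗[k] Aᵐᵒᵖ) A := ⟨fun c r x => by
    rw [hsmul, hsmul, map_smul, LinearMap.smul_apply]⟩
  obtain ⟨h1, h2⟩ := isSimpleRing_end k (B ⊗[k] Aᵐᵒᵖ) A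
  let C := Subalgebra.centralizer k (B : Set A)
  have hL : ∀ (c : C) (r : B ⊗[k] Aᵐᵒᵖ) (x : A), (c : A) * (r • x) = r • ((c : A) * x) := by
    intro c r x
    simp only [hsmul]
    induction r using TensorProduct.induction_on with
    | zero => simp
    | add y z hy hz => simp [mul_add, hy, hz]
    | tmul b a =>
      simp only [bimodHom_apply, ← mul_assoc]
      rw [show (c : A) * B.val b = B.val b * c from
        ((Subalgebra.mem_centralizer_iff k).1 c.2 (b : A) b.2).symm]
  let φ : C →ₐ[k] Module.End (B ⊗[k] Aᵐᵒᵖ) A :=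
    AlgHom.ofLinearMap
      { toFun := fun c =>
          { toFun := fun x => (c : A) * x
            map_add' := fun x y => mul_add _ _ _
            map_smul' := fun r x => hL c r x }
        map_add' := fun c d => LinearMap.ext fun x => add_mul (c : A) d x
        map_smul' := fun s c => LinearMap.ext fun x => smul_mul_assoc s (c : A) x }
      (LinearMap.ext fun x => one_mul x) (fun c d => LinearMap.ext fun x => mul_assoc (c : A) d x)
  have hφ : Function.Bijective φ := by
    refine ⟨fun c d h => Subtype.ext ?_, fun T => ?_⟩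
    · simpa [φ] using LinearMap.congr_fun h (1 : A)
    · have hT : ∀ a, T a = T 1 * a := fun a => by
        have := T.map_smul ((1 : B) ⊗ₜ[k] MulOpposite.op a) 1
        simpa [hsmul, bimodHom_apply] using this
      have hc : T 1 ∈ C := by
        rw [Subalgebra.mem_centralizer_iff]
        intro b hb
        have := T.map_smul ((⟨b, hb⟩ : B) ⊗ₜ[k] (1 : Aᵐᵒᵖ)) 1
        simp [hsmul, bimodHom_apply] at this
        rw [← this, hT b]
      exact ⟨⟨_, hc⟩, LinearMap.ext fun a => (hT a).symm⟩
  let e := AlgEquiv.ofBijective φ hφ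
  refine ⟨IsSimpleRing.of_ringEquiv e.symm.toRingEquiv h1, ?_⟩
  rw [← e.toLinearEquiv.finrank_eq, Module.finrank_tensorProduct,
    ← (MulOpposite.opLinearEquiv k : A ≃ₗ[k] Aᵐᵒᵖ).finrank_eq, sq, ← mul_assoc] at h2
  have hA : 0 < Module.finrank k A := Module.finrank_pos
  rw [mul_comm]
  exact (Nat.eq_of_mul_eq_mul_right hA h2).symm

/-- Double centraliser theorem. -/
theorem centralizer_centralizer (B : Subalgebra k A) [IsSimpleRing B] :
    Subalgebra.centralizer k (Subalgebra.centralizer k (B : Set A) : Set A) = B := by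
  obtain ⟨hC, h⟩ := centralizer_isSimpleRing_finrank B
  obtain ⟨-, h'⟩ := centralizer_isSimpleRing_finrank (Subalgebra.centralizer k (B : Set A))
  have hC0 : 0 < Module.finrank k (Subalgebra.centralizer k (B : Set A)) := Module.finrank_pos
  refine (Subalgebra.eq_of_le_of_finrank_eq ?_ ?_).symm
  · intro b hb
    rw [Subalgebra.mem_centralizer_iff]
    exact fun c hc => ((Subalgebra.mem_centralizer_iff k).1 hc b hb).symm
  · rw [h, mul_comm] at h'
    exact Nat.eq_of_mul_eq_mul_left hC0 h'

/-- A central simple subalgebra and its centraliser decompose the algebra as a tensor product. -/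
theorem lift_centralizer_bijective (B : Subalgebra k A) [IsSimpleRing B] [Algebra.IsCentral k B] :
    Function.Bijective (Algebra.TensorProduct.lift B.val
      (Subalgebra.centralizer k (B : Set A)).val (fun x y => y.2 x.1 x.2)) := by
  obtain ⟨hC, h⟩ := centralizer_isSimpleRing_finrank B
  have := isSimpleRing_tensor' k (Subalgebra.centralizer k (B : Set A)) B
  exact bijective_of_isSimpleRing _ (by rw [Module.finrank_tensorProduct, h])

end Groth.Agent.CSA
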