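import Groth.Agent.CSA.Brauer
import Groth.Prelude.Def_GSzCSA

/-!
# Cyclic algebras
-/

namespace Groth.Agent.CSA

open scoped TensorProduct

/-- A `k`-algebra map `ι : K → A` and an element `y` satisfying the relations of `(K, σ, b)`. -/
structure CycData (k K : Type*) [Field k] [Field K] [Algebra k K] (σ : K ≃ₐ[k] K) (b : k)
    (A : Type*) [Ring A] [Algebra k A] where
  ι : K →ₐ[k] A
  y : A
  pow_y : y ^ Module.finrank k K = algebraMap k A b
  rel : ∀ x : K, ι x * y = y * ι (σ x)

/-- The automorphism is a generator of the Galois group. -/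
structure IsGen {k K : Type*} [Field k] [Field K] [Algebra k K] (σ : K ≃ₐ[k] K) : Prop where
  galois : IsGalois k K
  finite : FiniteDimensional k K
  gen : ∀ τ : K ≃ₐ[k] K, τ ∈ Subgroup.zpowers σ

namespace IsGen

variable {k K : Type*} [Field k] [Field K] [Algebra k K] {σ : K ≃ₐ[k] K}

theorem orderOf_eq (h : IsGen σ) : orderOf σ = Module.finrank k K := by
  have := h.finite
  have := h.galois
  rw [orderOf_eq_card_of_forall_mem_zpowers h.gen, IsGalois.card_aut_eq_finrank]

theorem pow_finrank (h : IsGen σ) : σ ^ Module.finrank k K = 1 :=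
  h.orderOf_eq ▸ pow_orderOf_eq_one σ

theorem pow_injective (h : IsGen σ) (i j : Fin (Module.finrank k K))
    (hij : σ ^ i.val = σ ^ j.val) : i = j :=
  Fin.ext (pow_injOn_Iio_orderOf (by rw [Set.mem_Iio, h.orderOf_eq]; exact i.2)
    (by rw [Set.mem_Iio, h.orderOf_eq]; exact j.2) hij)

theorem mem_range_of_fixed (h : IsGen σ) {x : K} (hx : σ x = x) :
    ∃ a : k, algebraMap k K a = x := by
  have := h.finite
  have := h.galois
  refine IntermediateField.mem_bot.1 ((IsGalois.mem_bot_iff_fixed x).2 fun τ => ?_)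
  obtain ⟨n, rfl⟩ := Subgroup.mem_zpowers_iff.1 (h.gen τ)
  have hs : σ ∈ MulAction.stabilizer (K ≃ₐ[k] K) x := hx
  exact zpow_mem hs n

end IsGen

namespace CycData

variable {k K : Type*} [Field k] [Field K] [Algebra k K] {σ : K ≃ₐ[k] K} {b : k}
  {A : Type*} [Ring A] [Algebra k A] (d : CycData k K σ b A)

theorem rel_pow (x : K) (i : ℕ) : d.ι x * d.y ^ i = d.y ^ i * d.ι ((σ ^ i) x) := by
  induction i generalizing x with
  | zero => simp
  | succ i ih =>
    rw [pow_succ', ← mul_assoc, d.rel, mul_assoc, ih, ← mul_assoc, pow_succ σ i]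
    rfl

theorem isUnit_y (hb : b ≠ 0) (hm : Module.finrank k K ≠ 0) : IsUnit d.y := by
  rw [← isUnit_pow_iff hm, d.pow_y]
  exact (IsUnit.mk0 b hb).map _

/-- `f ↦ ∑ y ^ i * ι (f i)`. -/
noncomputable def phi : (Fin (Module.finrank k K) → K) →ₗ[k] A :=
  ∑ i : Fin (Module.finrank k K),
    (LinearMap.mulLeft k (d.y ^ i.val)).comp (d.ι.toLinearMap.comp (LinearMap.proj i))

theorem phi_apply (f : Fin (Module.finrank k K) → K) :
    d.phi f = ∑ i : Fin (Module.finrank k K), d.y ^ i.val * d.ι (f i) := by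
  simp [phi]

theorem ι_mul_phi (a : K) (f : Fin (Module.finrank k K) → K) :
    d.ι a * d.phi f = d.phi fun i => (σ ^ i.val) a * f i := by
  simp only [phi_apply, Finset.mul_sum]
  refine Finset.sum_congr rfl fun i _ => ?_
  rw [← mul_assoc, d.rel_pow, mul_assoc, map_mul]

theorem phi_mul_ι (c : K) (f : Fin (Module.finrank k K) → K) :
    d.phi f * d.ι c = d.phi fun i => f i * c := by
  simp only [phi_apply, Finset.sum_mul]
  refine Finset.sum_congr rfl fun i _ => ?_
  rw [mul_assoc, map_mul]

theorem phi_single (i : Fin (Module.finrank k K)) (c : K) :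
    d.phi (Pi.single i c) = d.y ^ i.val * d.ι c := by
  rw [phi_apply, Finset.sum_eq_single i] <;> simp +contextual

/-- The minimal support argument. -/
theorem one_mem_or (h : IsGen σ) (hb : b ≠ 0) (I : TwoSidedIdeal A)
    (f : Fin (Module.finrank k K) → K) (hf : d.phi f ∈ I) : 1 ∈ I ∨ f = 0 := by
  classical
  suffices H : ∀ (S : Finset (Fin (Module.finrank k K))) (f : Fin (Module.finrank k K) → K),
      (∀ i, i ∉ S → f i = 0) → d.phi f ∈ I → 1 ∈ I ∨ f = 0 from
    H Finset.univ f (by simp) hf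
  intro S
  induction S using Finset.induction_on with
  | empty => exact fun f hf _ => Or.inr (funext fun i => hf i (by simp))
  | insert i0 S hi0 ih =>
    intro f hf hI
    by_cases h1 : (1 : A) ∈ I
    · exact Or.inl h1
    have hz : ∀ i, i ≠ i0 → f i = 0 := by
      intro i hi
      obtain ⟨a, ha⟩ : ∃ a, (σ ^ i.val) a ≠ (σ ^ i0.val) a := by
        by_contra hcon
        push Not at hcon
        exact hi (h.pow_injective i i0 (AlgEquiv.ext hcon))
      have hg := (ih (fun j => ((σ ^ j.val) a - (σ ^ i0.val) a) * f j) (fun j hj => ?_) ?_).resolve_left h1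
      · exact (mul_eq_zero.1 (congr_fun hg i)).resolve_left (sub_ne_zero.2 ha)
      · by_cases hj0 : j = i0
        · simp [hj0]
        · simp [hf j (by simp [hj, hj0])]
      · have : (fun j => ((σ ^ j.val) a - (σ ^ i0.val) a) * f j) =
            (fun j => (σ ^ j.val) a * f j) - fun j => f j * (σ ^ i0.val) a := by
          funext j; simp only [Pi.sub_apply]; ring
        rw [this, map_sub, ← d.ι_mul_phi, ← d.phi_mul_ι]
        exact I.sub_mem (I.mul_mem_left _ _ hI) (I.mul_mem_right _ _ hI)
    refine Or.inr (funext fun i => ?_)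
    by_cases hi : i = i0
    · subst hi
      by_contra hne
      apply h1
      have hf' : f = Pi.single i (f i) := by
        funext j
        by_cases hj : j = i
        · subst hj; simp
        · simp [hz j hj, hj]
      rw [hf', phi_single] at hI
      have hu : IsUnit (d.y ^ i.val * d.ι (f i)) :=
        ((d.isUnit_y hb (by have := i.2; omega)).pow _).mul ((IsUnit.mk0 _ hne).map d.ι)
      simpa using I.mul_mem_left (↑hu.unit⁻¹) _ hI
    · exact hz i hi

theorem phi_injective (h : IsGen σ) (hb : b ≠ 0) [Nontrivial A] : Function.Injective d.phi := by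
  rw [← LinearMap.ker_eq_bot, LinearMap.ker_eq_bot']
  intro f hf
  refine (d.one_mem_or h hb ⊥ f ((TwoSidedIdeal.mem_bot A).2 hf)).resolve_left fun h1 => ?_
  exact one_ne_zero ((TwoSidedIdeal.mem_bot A).1 h1)

variable (hA : Module.finrank k A = Module.finrank k K ^ 2)

include hA in
theorem nontrivial_of_finrank (h : IsGen σ) : Nontrivial A := by
  have := h.finite
  exact Module.nontrivial_of_finrank_pos (R := k) (by
    rw [hA]; exact pow_pos Module.finrank_pos 2)

include hA in
theorem finite_of_finrank (h : IsGen σ) : FiniteDimensional k A := by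
  have := h.finite
  exact Module.finite_of_finrank_pos (by rw [hA]; exact pow_pos Module.finrank_pos 2)

include hA in
theorem phi_bijective (h : IsGen σ) (hb : b ≠ 0) : Function.Bijective d.phi := by
  have := h.finite
  have := nontrivial_of_finrank hA h
  have := finite_of_finrank hA h
  refine ⟨d.phi_injective h hb, (LinearMap.injective_iff_surjective_of_finrank_eq_finrank ?_).1
    (d.phi_injective h hb)⟩
  rw [Module.finrank_pi_fintype, Finset.sum_const, Finset.card_univ, Fintype.card_fin, hA,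
    smul_eq_mul, sq]

include hA in
theorem adjoin_eq_top (h : IsGen σ) (hb : b ≠ 0) :
    Algebra.adjoin k (Set.range d.ι ∪ {d.y}) = ⊤ := by
  refine eq_top_iff.2 fun z _ => ?_
  obtain ⟨f, rfl⟩ := (d.phi_bijective hA h hb).2 z
  rw [phi_apply]
  exact sum_mem fun i _ => mul_mem (pow_mem (Algebra.subset_adjoin (Set.mem_union_right _ (Set.mem_singleton _))) _)
    (Algebra.subset_adjoin (Set.mem_union_left _ (Set.mem_range_self _)))

include d hA in
theorem isSimpleRing (h : IsGen σ) (hb : b ≠ 0) : IsSimpleRing A := by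
  have := nontrivial_of_finrank hA h
  refine IsSimpleRing.of_eq_bot_or_eq_top fun I => ?_
  by_cases h1 : (1 : A) ∈ I
  · exact Or.inr (TwoSidedIdeal.ext fun y => ⟨fun _ => trivial,
      fun _ => by simpa using I.mul_mem_left y 1 h1⟩)
  refine Or.inl (TwoSidedIdeal.ext fun z => ⟨fun hz => ?_, fun hz => ?_⟩)
  · obtain ⟨f, rfl⟩ := (d.phi_bijective hA h hb).2 z
    rw [(d.one_mem_or h hb I f hz).resolve_left h1, map_zero]
    exact zero_mem _
  · rw [(TwoSidedIdeal.mem_bot A).1 hz]; exact I.zero_mem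

include d hA in
theorem isCentral (h : IsGen σ) (hb : b ≠ 0) : Algebra.IsCentral k A := by
  have := nontrivial_of_finrank hA h
  refine ⟨fun z hz => ?_⟩
  rw [Subalgebra.mem_center_iff] at hz
  obtain ⟨f, rfl⟩ := (d.phi_bijective hA h hb).2 z
  have := h.finite
  have hm : 0 < Module.finrank k K := Module.finrank_pos
  let i0 : Fin (Module.finrank k K) := ⟨0, hm⟩
  have hinj := (d.phi_bijective hA h hb).1
  have hzero : ∀ i, i ≠ i0 → f i = 0 := by
    intro i hi
    obtain ⟨a, ha⟩ : ∃ a, (σ ^ i.val) a ≠ (σ ^ i0.val) a := by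
      by_contra hcon
      push Not at hcon
      exact hi (h.pow_injective i i0 (AlgEquiv.ext hcon))
    have := congr_fun (hinj ((d.ι_mul_phi a f).symm.trans ((hz (d.ι a)).trans (d.phi_mul_ι a f)))) i
    rw [mul_comm (f i), ← sub_eq_zero, ← sub_mul] at this
    exact (mul_eq_zero.1 this).resolve_left (sub_ne_zero.2 (by simpa [i0] using ha))
  have hf : d.phi f = d.ι (f i0) := by
    rw [phi_apply, Finset.sum_eq_single i0 (fun j _ hj => by simp [hzero j hj]) (by simp)]
    simp [i0]
  rw [hf] at hz ⊢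
  have hy := hz d.y
  rw [d.rel] at hy
  have hfix := d.ι.toRingHom.injective ((d.isUnit_y hb hm.ne').mul_left_cancel hy)
  obtain ⟨a, ha⟩ := h.mem_range_of_fixed hfix.symm
  exact Algebra.mem_bot.2 ⟨a, by rw [← ha, AlgHom.commutes]⟩

include d hA in
theorem isSplit (h : IsGen σ) (hb : b ≠ 0) : IsSplit k A K := by
  have := h.finite
  have := nontrivial_of_finrank hA h
  have := finite_of_finrank hA h
  have := d.isSimpleRing hA h hb
  have := d.isCentral hA h hb
  have hop : Module.finrank k Aᵐᵒᵖ = Module.finrank k A :=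
    (MulOpposite.opLinearEquiv k : A ≃ₗ[k] Aᵐᵒᵖ).finrank_eq.symm
  obtain ⟨n, hn, g, -⟩ := exists_algHom_of_isSplit k (isSplit_op k
    (d.ι.toOpposite fun x y => ((Commute.all x y).map d.ι)) (by rw [hop, hA, sq]))
  refine isSplit_of_algHom k (g.comp (AlgEquiv.opOp k A).toAlgHom) ?_
  rw [Fintype.card_fin, hn]
  exact (AlgEquiv.opOp k A).toLinearEquiv.finrank_eq.symm

theorem pow_reduce (n : ℕ) :
    d.y ^ n = algebraMap k A (b ^ (n / Module.finrank k K)) * d.y ^ (n % Module.finrank k K) := by
  rw [map_pow, ← d.pow_y, ← pow_mul, ← pow_add, Nat.div_add_mod]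

variable {T : Type*} [Ring T] [Algebra k T] (d' : CycData k K σ b T)

include hA in
/-- Universal property. -/
theorem exists_algHom (h : IsGen σ) (hb : b ≠ 0) :
    ∃ g : A →ₐ[k] T, (∀ x, g (d.ι x) = d'.ι x) ∧ g d.y = d'.y := by
  classical
  have := h.finite
  have hm : 0 < Module.finrank k K := Module.finrank_pos
  let e := LinearEquiv.ofBijective d.phi (d.phi_bijective hA h hb)
  let ψ : A →ₗ[k] T := d'.phi.comp e.symm.toLinearMap
  have hψ : ∀ f, ψ (d.phi f) = d'.phi f := fun f => by
    change d'.phi (e.symm (e f)) = _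
    rw [e.symm_apply_apply]
  have hmon : ∀ (n : ℕ) (c : K), ψ (d.y ^ n * d.ι c) = d'.y ^ n * d'.ι c := by
    intro n c
    rw [d.pow_reduce, d'.pow_reduce, ← Algebra.smul_def, smul_mul_assoc, map_smul,
      ← d.phi_single ⟨n % _, Nat.mod_lt n hm⟩ c, hψ, d'.phi_single, ← Algebra.smul_def,
      smul_mul_assoc]
  have hmul : ∀ f g, ψ (d.phi f * d.phi g) = d'.phi f * d'.phi g := by
    intro f g
    simp only [phi_apply, Finset.sum_mul, Finset.mul_sum, map_sum]
    refine Finset.sum_congr rfl fun j _ => Finset.sum_congr rfl fun i _ => ?_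
    have key : ∀ {X : Type _} [Ring X] [Algebra k X] (D : CycData k K σ b X),
        D.y ^ i.val * D.ι (f i) * (D.y ^ j.val * D.ι (g j)) =
          D.y ^ (i.val + j.val) * D.ι ((σ ^ j.val) (f i) * g j) := by
      intro X _ _ D
      rw [mul_assoc, ← mul_assoc (D.ι (f i)), D.rel_pow, map_mul, pow_add]
      simp only [mul_assoc]
    rw [key d, hmon]
    rw [mul_assoc, ← mul_assoc (d'.ι (f i)), d'.rel_pow, map_mul, pow_add]
    simp only [mul_assoc]
  refine ⟨AlgHom.ofLinearMap ψ ?_ ?_, fun x => ?_, ?_⟩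
  · simpa using hmon 0 1
  · intro x z
    obtain ⟨f, rfl⟩ := e.surjective x
    obtain ⟨g, rfl⟩ := e.surjective z
    simp only [e, LinearEquiv.ofBijective_apply]
    rw [hmul, hψ, hψ]
  · simpa using hmon 0 x
  · simpa using hmon 1 1

end CycData

theorem isCyclicAlg_iff {k K : Type*} [Field k] [Field K] [Algebra k K] {σ : K ≃ₐ[k] K}
    (h : IsGen σ) (b : kˣ) (A : Type*) [Ring A] [Algebra k A] :
    CSAGal.IsCyclicAlg k K σ b A ↔
      Nonempty (CycData k K σ (b : k) A) ∧ Module.finrank k A = Module.finrank k K ^ 2 := by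
  constructor
  · rintro ⟨ι, y, h1, h2, -, -, h3⟩
    exact ⟨⟨⟨ι, y, h1, h2⟩⟩, h3⟩
  · rintro ⟨⟨d⟩, hA⟩
    have := h.finite
    exact ⟨d.ι, d.y, d.pow_y, d.rel, d.adjoin_eq_top hA h b.ne_zero, Module.finrank_pos, hA⟩

/-- A central simple algebra of degree `[K : k]` containing `K` is cyclic. -/
theorem exists_cycData {k K : Type*} [Field k] [Field K] [Algebra k K] {σ : K ≃ₐ[k] K}
    (h : IsGen σ) {A : Type*} [Ring A] [Algebra k A] [Algebra.IsCentral k A] [IsSimpleRing A]
    [FiniteDimensional k A] (hA : Module.finrank k A = Module.finrank k K ^ 2) (ι : K →ₐ[k] A) :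
    ∃ b : kˣ, ∃ d : CycData k K σ (b : k) A, d.ι = ι := by
  have := h.finite
  obtain ⟨y, hy⟩ := skolemNoether ι (ι.comp σ.toAlgHom)
  have hrel : ∀ x, ι x * (y : A) = (y : A) * ι (σ x) := fun x => by
    rw [hy x, mul_assoc, Units.inv_mul, mul_one]; rfl
  have hrelp : ∀ (n : ℕ) x, ι x * (y : A) ^ n = (y : A) ^ n * ι ((σ ^ n) x) := by
    intro n
    induction n with
    | zero => simp
    | succ n ih =>
      intro x
      rw [pow_succ', ← mul_assoc, hrel, mul_assoc, ih, ← mul_assoc, pow_succ σ n]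
      rfl
  set z := (y : A) ^ Module.finrank k K
  let L := ι.range
  have : IsSimpleRing L :=
    IsSimpleRing.of_ringEquiv (AlgEquiv.ofInjective ι ι.toRingHom.injective).toRingEquiv inferInstance
  have hL : Subalgebra.centralizer k (L : Set A) = L := by
    have hd := (centralizer_isSimpleRing_finrank L).2
    have hLd : Module.finrank k L = Module.finrank k K :=
      (AlgEquiv.ofInjective ι ι.toRingHom.injective).toLinearEquiv.finrank_eq.symm
    refine (Subalgebra.eq_of_le_of_finrank_eq ?_ ?_).symm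
    · rintro _ ⟨x, rfl⟩
      rw [Subalgebra.mem_centralizer_iff]
      rintro _ ⟨x', rfl⟩
      exact ((Commute.all x' x).map ι).eq
    · rw [hA, hLd, sq] at hd
      rw [hLd]
      exact Nat.eq_of_mul_eq_mul_left Module.finrank_pos hd
  obtain ⟨c, hc⟩ : z ∈ L := by
    rw [← hL, Subalgebra.mem_centralizer_iff]
    rintro _ ⟨x, rfl⟩
    have := hrelp (Module.finrank k K) x
    rwa [h.pow_finrank, AlgEquiv.one_apply] at this
  replace hc : ι c = z := hc
  have hzy : z * y = (y : A) * z := ((Commute.refl (y : A)).pow_left _).eq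
  rw [← hc, hrel] at hzy
  have hfix : σ c = c := ι.toRingHom.injective (y.isUnit.mul_left_cancel hzy)
  obtain ⟨a, ha⟩ := h.mem_range_of_fixed hfix
  have hz : z = algebraMap k A a := by rw [← hc, ← ha, AlgHom.commutes]
  have ha0 : a ≠ 0 := by
    rintro rfl
    rw [map_zero] at hz
    exact (y.isUnit.pow (Module.finrank k K)).ne_zero hz
  exact ⟨Units.mk0 a ha0, ⟨ι, y, hz, hrel⟩, rfl⟩

end Groth.Agent.CSA
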