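import Groth.Agent.CSA.CyclicMatrix

/-!
# Brauer classes of cyclic algebras
-/

namespace Groth.Agent.CSA

open scoped TensorProduct

variable {k K : Type*} [Field k] [Field K] [Algebra k K]

/-- A simple algebra structure theorem: the centraliser partner of a split algebra. -/
theorem exists_brEq_containing {A : Type*} [Ring A] [Algebra k A] [Algebra.IsCentral k A]
    [IsSimpleRing A] [FiniteDimensional k A] [FiniteDimensional k K] (hA : IsSplit k A K) :
    ∃ (N : ℕ) (B : Subalgebra k (Matrix (Fin N) (Fin N) A)) (_ : K →ₐ[k] B),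
      Algebra.IsCentral k B ∧ IsSimpleRing B ∧ Module.finrank k B = Module.finrank k K ^ 2 ∧
      BrEq k A B ∧ (Module.finrank k A = Module.finrank k K ^ 2 → Nonempty (B ≃ₐ[k] A)) := by
  obtain ⟨p, hp, g, hp0⟩ := exists_algHom_of_isSplit k hA
  have : NeZero p := ⟨hp0⟩
  have hK : 0 < Module.finrank k K := Module.finrank_pos
  let gop : Aᵐᵒᵖ →ₐ[k] Matrix (Fin p) (Fin p) K :=
    ((Matrix.transposeAlgEquiv (Fin p) k K).symm.toAlgHom).comp (AlgHom.op g)
  let h : Aᵐᵒᵖ →ₐ[k] Module.End k (Fin p → K) := (colAction k K p).comp gop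
  have hV : Module.finrank k (Fin p → K) = p * Module.finrank k K := by
    rw [Module.finrank_pi_fintype, Finset.sum_const, Finset.card_univ, Fintype.card_fin, smul_eq_mul]
  have : IsSimpleRing (Module.End k (Fin p → K)) := by
    have : NeZero (Module.finrank k (Fin p → K)) := ⟨by rw [hV]; exact mul_ne_zero hp0 hK.ne'⟩
    exact IsSimpleRing.of_ringEquiv
      (algEquivMatrix (Module.finBasis k (Fin p → K))).symm.toRingEquiv inferInstance
  let eR := AlgEquiv.ofInjective h h.toRingHom.injective
  have : IsSimpleRing h.range := IsSimpleRing.of_ringEquiv eR.toRingEquiv inferInstance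
  have : Algebra.IsCentral k h.range := isCentral_congr eR
  obtain ⟨hCs, hCd⟩ := centralizer_isSimpleRing_finrank h.range
  have hCC := centralizer_centralizer h.range
  let C := Subalgebra.centralizer k (h.range : Set (Module.End k (Fin p → K)))
  have hRd : Module.finrank k h.range = p * p := by
    rw [← eR.toLinearEquiv.finrank_eq, ← (MulOpposite.opLinearEquiv k : A ≃ₗ[k] Aᵐᵒᵖ).finrank_eq, hp]
  have hCd' : Module.finrank k C = Module.finrank k K ^ 2 := by
    rw [Module.finrank_linearMap, hV, hRd] at hCd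
    exact (Nat.eq_of_mul_eq_mul_left (Nat.mul_pos (Nat.pos_of_ne_zero hp0) (Nat.pos_of_ne_zero hp0))
      (by rw [← hCd]; ring)).symm
  have hCc : Algebra.IsCentral k C := by
    refine ⟨fun z hz => ?_⟩
    rw [Subalgebra.mem_center_iff] at hz
    have hzR : (z : Module.End k (Fin p → K)) ∈ h.range := by
      rw [← hCC, Subalgebra.mem_centralizer_iff]
      exact fun c hc => congr_arg Subtype.val (hz ⟨c, hc⟩)
    have hzc : (⟨_, hzR⟩ : h.range) ∈ Subalgebra.center k h.range := by
      rw [Subalgebra.mem_center_iff]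
      exact fun r => Subtype.ext (((Subalgebra.mem_centralizer_iff k).1 z.2) r.1 r.2)
    obtain ⟨c, hc⟩ := Algebra.mem_bot.1 (Algebra.IsCentral.out (K := k) hzc)
    exact Algebra.mem_bot.2 ⟨c, Subtype.ext (show algebraMap k (Module.End k (Fin p → K)) c = z from
      (congr_arg Subtype.val hc))⟩
  let ιC : K →ₐ[k] C := ((Algebra.lsmul k k (Fin p → K) : K →ₐ[k] _)).codRestrict C (fun x => by
    rw [Subalgebra.mem_centralizer_iff]
    rintro _ ⟨a, rfl⟩
    refine LinearMap.ext fun v => ?_
    exact Matrix.mulVec_smul (gop a) x v)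
  let f : C ⊗[k] Aᵐᵒᵖ →ₐ[k] Module.End k (Fin p → K) :=
    Algebra.TensorProduct.lift C.val h fun c a =>
      ((Subalgebra.mem_centralizer_iff k).1 c.2 (h a) ⟨a, rfl⟩).symm
  obtain ⟨hbr, ⟨e⟩⟩ := brEq_of_rep (T := C) (U := A) f (by rw [hV, hCd', ← hp]; ring)
  let N := Module.finrank k (Fin p → K)
  let ψ : C →ₐ[k] Matrix (Fin N) (Fin N) A :=
    e.toAlgHom.comp (Matrix.scalarAlgHom (Fin (Module.finrank k A)) k)
  have : NeZero (Module.finrank k A) := ⟨Module.finrank_pos.ne'⟩
  have hψ : Function.Injective ψ := fun x y hxy => Matrix.scalar_inj.1 (e.injective hxy)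
  let eB := AlgEquiv.ofInjective ψ hψ
  refine ⟨N, ψ.range, eB.toAlgHom.comp ιC, isCentral_congr eB,
    IsSimpleRing.of_ringEquiv eB.toRingEquiv hCs, eB.toLinearEquiv.finrank_eq.symm.trans hCd',
    hbr.symm.trans (BrEq.of_algEquiv eB), fun hAd => ?_⟩
  have hpK : p = Module.finrank k K := by
    rw [← hp, sq] at hAd
    nlinarith [mul_self_nonneg p, hAd]
  have hN : N = Module.finrank k A := by
    change Module.finrank k (Fin p → K) = _
    rw [hV, hAd, hpK, sq]
  obtain ⟨d⟩ := matrix_cancel k C A (Module.finrank k A) Module.finrank_pos.ne'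
    (e.trans (Matrix.reindexAlgEquiv k A (finCongr hN)))
  exact ⟨eB.symm.trans d⟩

/-- Transport cyclic data along an algebra map. -/
def CycData.map {σ : K ≃ₐ[k] K} {b : k} {A B : Type*} [Ring A] [Algebra k A] [Ring B] [Algebra k B]
    (d : CycData k K σ b A) (e : A →ₐ[k] B) : CycData k K σ b B where
  ι := e.comp d.ι
  y := e d.y
  pow_y := by rw [← map_pow, d.pow_y, AlgHom.commutes]
  rel x := by simp only [AlgHom.comp_apply]; rw [← map_mul, d.rel, map_mul]

variable {σ : K ≃ₐ[k] K}

theorem exists_brEq_cyclic (h : IsGen σ) {A : Type*} [Ring A] [Algebra k A] [Algebra.IsCentral k A]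
    [IsSimpleRing A] [FiniteDimensional k A] (hA : IsSplit k A K) :
    (∃ (N : ℕ) (B : Subalgebra k (Matrix (Fin N) (Fin N) A)) (b : kˣ),
      CSAGal.IsCyclicAlg k K σ b B ∧ BrEq k A B) ∧
    (Module.finrank k A = Module.finrank k K ^ 2 → ∃ b : kˣ, CSAGal.IsCyclicAlg k K σ b A) := by
  have := h.finite
  obtain ⟨N, B, ι, _, _, hd, hbr, hiso⟩ := exists_brEq_containing hA
  obtain ⟨b, d, -⟩ := exists_cycData h hd ι
  refine ⟨⟨N, B, b, (isCyclicAlg_iff h b B).2 ⟨⟨d⟩, hd⟩, hbr⟩, fun hAd => ?_⟩
  obtain ⟨e⟩ := hiso hAd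
  exact ⟨b, (isCyclicAlg_iff h b A).2 ⟨⟨d.map e.toAlgHom⟩, hAd⟩⟩

section Product

/-- The semilinear operator `X ↦ F σ(X) F'ᵀ`. -/
noncomputable def twistOp (σ : K ≃ₐ[k] K) (b b' : k) :
    Module.End k (Matrix (Fin (Module.finrank k K)) (Fin (Module.finrank k K)) K) where
  toFun X := cycMatrix (K := K) b * X.map σ * (cycMatrix (K := K) b').transpose
  map_add' X Y := by rw [Matrix.map_add σ (map_add σ), mul_add, add_mul]
  map_smul' c X := by
    rw [Matrix.map_smul σ c (fun a => map_smul σ c a), Matrix.mul_smul, Matrix.smul_mul]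
    rfl

theorem twistOp_pow_apply (σ : K ≃ₐ[k] K) (b b' : k) (n : ℕ)
    (X : Matrix (Fin (Module.finrank k K)) (Fin (Module.finrank k K)) K) :
    (twistOp σ b b' ^ n) X =
      cycMatrix (K := K) b ^ n * X.map (σ ^ n : K ≃ₐ[k] K) * (cycMatrix (K := K) b' ^ n).transpose := by
  induction n with
  | zero => simp; rfl
  | succ n ih =>
    rw [pow_succ', Module.End.mul_apply, ih]
    have hF : ∀ (c : k) (m : ℕ), (cycMatrix (K := K) c ^ m).map σ = cycMatrix (K := K) c ^ m := by
      intro c m
      have := map_pow σ.toAlgHom.mapMatrix (cycMatrix (K := K) c) m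
      rw [AlgHom.mapMatrix_apply, AlgHom.mapMatrix_apply] at this
      rw [show (cycMatrix (K := K) c).map σ.toAlgHom = cycMatrix (K := K) c from cycMatrix_map σ c] at this
      exact this
    change cycMatrix (K := K) b * _ * _ = _
    rw [Matrix.map_mul, Matrix.map_mul, hF, Matrix.transpose_map, hF, pow_succ' (cycMatrix b),
      pow_succ' (cycMatrix b'), Matrix.transpose_mul,
      show X.map (σ ^ (n + 1) : K ≃ₐ[k] K) = (X.map (σ ^ n : K ≃ₐ[k] K)).map σ by
        rw [pow_succ', Matrix.map_map]; rfl]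
    simp only [mul_assoc]

theorem brEq_tensor_cyclic (h : IsGen σ) {b b' : kˣ} {A A' A'' : Type*} [Ring A] [Algebra k A]
    [Ring A'] [Algebra k A'] [Ring A''] [Algebra k A'']
    (hA : CSAGal.IsCyclicAlg k K σ b A) (hA' : CSAGal.IsCyclicAlg k K σ b' A')
    (hA'' : CSAGal.IsCyclicAlg k K σ (b * b') A'') : BrEq k (A ⊗[k] A') A'' := by
  obtain ⟨⟨d⟩, hd⟩ := (isCyclicAlg_iff h b A).1 hA
  obtain ⟨⟨d'⟩, hd'⟩ := (isCyclicAlg_iff h b' A').1 hA'
  obtain ⟨⟨d''⟩, hd''⟩ := (isCyclicAlg_iff h (b * b') A'').1 hA''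
  have := h.finite
  have := CycData.finite_of_finrank hd h
  have := CycData.finite_of_finrank hd' h
  have := CycData.finite_of_finrank hd'' h
  have := d.isSimpleRing hd h b.ne_zero
  have := d.isCentral hd h b.ne_zero
  have := d'.isSimpleRing hd' h b'.ne_zero
  have := d'.isCentral hd' h b'.ne_zero
  have := d''.isSimpleRing hd'' h (b * b').ne_zero
  have := d''.isCentral hd'' h (b * b').ne_zero
  have := isSimpleRing_tensor k A A'
  have := isCentral_tensor k A A'
  let m := Module.finrank k K
  obtain ⟨g, -, -⟩ := d.exists_algHom hd (cycData h (b : k)) h b.ne_zero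
  obtain ⟨g', -, -⟩ := d'.exists_algHom hd' (cycData h (b' : k)) h b'.ne_zero
  let V := Matrix (Fin m) (Fin m) K
  let L : A →ₐ[k] Module.End k V := (Algebra.lmul k V).comp ((cycSubalgebra σ (b : k)).val.comp g)
  let R : A' →ₐ[k] Module.End k V :=
    AlgHom.ofLinearMap
      { toFun := fun a => LinearMap.mulRight k ((g' a : V).transpose)
        map_add' := fun a c => LinearMap.ext fun X => by
          change X * ((g' (a + c) : V)).transpose = X * _ + X * _
          rw [map_add, Subalgebra.coe_add, Matrix.transpose_add, mul_add]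
        map_smul' := fun s a => LinearMap.ext fun X => by
          change X * ((g' (s • a) : V)).transpose = s • (X * _)
          rw [map_smul, Subalgebra.coe_smul, Matrix.transpose_smul, mul_smul_comm] }
      (LinearMap.ext fun X => by
        change X * ((g' 1 : V)).transpose = X
        rw [map_one, OneMemClass.coe_one, Matrix.transpose_one, mul_one])
      (fun a c => LinearMap.ext fun X => by
        change X * ((g' (a * c) : V)).transpose = X * _ * _
        rw [map_mul, Subalgebra.coe_mul, Matrix.transpose_mul, mul_assoc])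
  have hLR : ∀ a a', Commute (L a) (R a') := fun a a' => LinearMap.ext fun X => by
    change (g a : V) * (X * _) = (g a : V) * X * _
    rw [mul_assoc]
  let T : A ⊗[k] A' →ₐ[k] Module.End k V := Algebra.TensorProduct.lift L R hLR
  let S : K →ₐ[k] (Module.End k V)ᵐᵒᵖ :=
    (Algebra.lsmul k k V : K →ₐ[k] _).toOpposite fun x y => (Commute.all x y).map _
  let Y := twistOp σ (b : k) (b' : k)
  let dV : CycData k K σ ((b * b' : kˣ) : k) (Module.End k V)ᵐᵒᵖ :=
    { ι := S
      y := MulOpposite.op Y
      pow_y := by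
        rw [← MulOpposite.op_pow]
        refine congr_arg MulOpposite.op (LinearMap.ext fun X => ?_)
        rw [twistOp_pow_apply, cycMatrix_pow_finrank, cycMatrix_pow_finrank, h.pow_finrank,
          Module.algebraMap_end_apply, Units.val_mul]
        ext i j
        simp only [Matrix.algebraMap_eq_diagonal, Matrix.diagonal_transpose, Matrix.diagonal_mul,
          Matrix.mul_diagonal, Matrix.map_apply, AlgEquiv.one_apply, Pi.algebraMap_apply]
        change _ = ((b : k) * (b' : k)) • X i j
        rw [Algebra.smul_def, map_mul]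
        ring
      rel := fun x => MulOpposite.unop_injective <| LinearMap.ext fun X => by
        change cycMatrix (K := K) (b : k) * (x • X).map σ * _ = σ x • (cycMatrix (K := K) (b : k) * X.map σ * _)
        rw [Matrix.map_smul' σ x X (map_mul σ), Matrix.mul_smul, Matrix.smul_mul] }
  obtain ⟨U, hUι, hUy⟩ := d''.exists_algHom hd'' dV h (b * b').ne_zero
  let U' : A''ᵐᵒᵖ →ₐ[k] Module.End k V := (AlgEquiv.opOp k _).symm.toAlgHom.comp (AlgHom.op U)
  have hY : ∀ (a : A) (a' : A'), Commute Y (L a) ∧ Commute Y (R a') := by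
    intro a a'
    refine ⟨LinearMap.ext fun X => ?_, LinearMap.ext fun X => ?_⟩
    · change cycMatrix (K := K) (b : k) * ((g a : V) * X).map σ * _ = (g a : V) * (cycMatrix (K := K) (b : k) * X.map σ * _)
      rw [Matrix.map_mul, ← mul_assoc (cycMatrix (K := K) (b : k)), mem_cycSubalgebra.1 (g a).2]
      simp only [mul_assoc]
    · change cycMatrix (K := K) (b : k) * (X * (g' a' : V).transpose).map σ * _ =
        cycMatrix (K := K) (b : k) * X.map σ * _ * (g' a' : V).transpose
      rw [Matrix.map_mul, Matrix.transpose_map]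
      simp only [mul_assoc]
      rw [← Matrix.transpose_mul, mem_cycSubalgebra.1 (g' a').2, Matrix.transpose_mul]
  let gens : Set (Module.End k V) := Set.range (Algebra.lsmul k k V : K →ₐ[k] _) ∪ {Y}
  have hT : ∀ t, T t ∈ Subalgebra.centralizer k gens := by
    intro t
    induction t using TensorProduct.induction_on with
    | zero => rw [map_zero]; exact zero_mem _
    | add x y hx hy => rw [map_add]; exact add_mem hx hy
    | tmul a a' =>
      rw [Algebra.TensorProduct.lift_tmul]
      refine mul_mem ?_ ?_ <;>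
      · rw [Subalgebra.mem_centralizer_iff]
        rintro _ (⟨x, rfl⟩ | rfl)
        · refine LinearMap.ext fun X => ?_
          first
            | exact (Matrix.mul_smul _ x X).symm
            | exact (Matrix.smul_mul x X _).symm
        · first
            | exact (hY a a').1.eq
            | exact (hY a a').2.eq
  have hcomm : ∀ (t : A ⊗[k] A') (u : A''ᵐᵒᵖ), Commute (T t) (U' u) := by
    intro t u
    obtain ⟨f, hf⟩ := (d''.phi_bijective hd'' h (b * b').ne_zero).2 u.unop
    rw [← MulOpposite.op_unop u, ← hf, d''.phi_apply, Finset.op_sum, map_sum]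
    refine Commute.sum_right _ _ _ fun i _ => ?_
    rw [MulOpposite.op_mul, map_mul, MulOpposite.op_pow, map_pow]
    have ht := (Subalgebra.mem_centralizer_iff k).1 (hT t)
    refine Commute.mul_right ?_ (Commute.pow_right ?_ _)
    · change Commute (T t) (MulOpposite.unop (U (d''.ι (f i))))
      rw [hUι]
      exact (ht _ (Or.inl ⟨f i, rfl⟩)).symm
    · change Commute (T t) (MulOpposite.unop (U d''.y))
      rw [hUy]
      exact (ht _ (Or.inr rfl)).symm
  refine (brEq_of_rep (Algebra.TensorProduct.lift T U' hcomm) ?_).1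
  rw [Module.finrank_tensorProduct, hd, hd', hd'', Module.finrank_matrix, Fintype.card_fin]
  ring

end Product

end Groth.Agent.CSA
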