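import Groth.Agent.CSA.Cyclic

/-!
# The matrix model of a cyclic algebra
-/

namespace Groth.Agent.CSA

open scoped TensorProduct

variable {k K : Type*} [Field k] [Field K] [Algebra k K]

/-- The companion matrix: `1` below the diagonal and `b` in the upper right corner. -/
noncomputable def cycMatrix (b : k) :
    Matrix (Fin (Module.finrank k K)) (Fin (Module.finrank k K)) K :=
  Matrix.of fun i j => if j.val + 1 = i.val then (1 : K)
    else if i.val = 0 ∧ j.val + 1 = Module.finrank k K then algebraMap k K b else 0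

theorem cycMatrix_map (σ : K ≃ₐ[k] K) (b : k) :
    (cycMatrix (K := K) b).map σ = cycMatrix (K := K) b := by
  ext i j
  simp only [cycMatrix, Matrix.map_apply, Matrix.of_apply]
  split_ifs <;> simp

theorem cycMatrix_mul_apply (b : k)
    (M : Matrix (Fin (Module.finrank k K)) (Fin (Module.finrank k K)) K) (i j) :
    (cycMatrix (K := K) b * M) i j =
      if i.val = 0 then algebraMap k K b * M ⟨Module.finrank k K - 1, by have := i.2; omega⟩ j
      else M ⟨i.val - 1, by have := i.2; omega⟩ j := by
  have hi := i.2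
  rw [Matrix.mul_apply]
  by_cases h : i.val = 0
  · rw [if_pos h, Finset.sum_eq_single ⟨Module.finrank k K - 1, by omega⟩]
    · simp only [cycMatrix, Matrix.of_apply]
      rw [if_neg (by omega), if_pos ⟨h, by omega⟩]
    · intro l _ hl
      simp only [cycMatrix, Matrix.of_apply]
      have : l.val ≠ Module.finrank k K - 1 := fun e => hl (Fin.ext e)
      rw [if_neg (by omega), if_neg (by omega), zero_mul]
    · simp
  · rw [if_neg h, Finset.sum_eq_single ⟨i.val - 1, by omega⟩]
    · simp only [cycMatrix, Matrix.of_apply]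
      rw [if_pos (by omega), one_mul]
    · intro l _ hl
      simp only [cycMatrix, Matrix.of_apply]
      have : l.val ≠ i.val - 1 := fun e => hl (Fin.ext e)
      rw [if_neg (by omega), if_neg (by omega), zero_mul]
    · simp

theorem cycMatrix_pow_apply (b : k) (n : ℕ) (hn : n ≤ Module.finrank k K) (i j) :
    ((cycMatrix (K := K) b : Matrix (Fin (Module.finrank k K)) (Fin (Module.finrank k K)) K) ^ n) i j =
      if j.val + n = i.val then 1
      else if j.val + n = i.val + Module.finrank k K then algebraMap k K b else 0 := by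
  induction n generalizing i with
  | zero =>
    rw [pow_zero, Matrix.one_apply]
    simp only [Nat.add_zero]
    by_cases h : i = j
    · subst h; simp
    · have : j.val ≠ i.val := fun e => h (Fin.ext e.symm)
      rw [if_neg h, if_neg this, if_neg (by omega)]
  | succ n ih =>
    rw [pow_succ', cycMatrix_mul_apply]
    have hi := i.2
    have hj := j.2
    by_cases h : i.val = 0
    · rw [if_pos h, ih (by omega)]
      simp only
      split_ifs <;> (first | omega | simp)
    · rw [if_neg h, ih (by omega)]
      simp only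
      split_ifs <;> (first | omega | rfl)

theorem cycMatrix_pow_finrank (b : k) :
    (cycMatrix (K := K) b : Matrix (Fin (Module.finrank k K)) (Fin (Module.finrank k K)) K) ^
      Module.finrank k K = algebraMap k _ b := by
  ext i j
  rw [cycMatrix_pow_apply b _ le_rfl, Matrix.algebraMap_matrix_apply]
  have hi := i.2
  by_cases h : i = j
  · subst h; rw [if_neg (by omega), if_pos rfl, if_pos rfl]
  · have : j.val ≠ i.val := fun e => h (Fin.ext e.symm)
    rw [if_neg (by omega), if_neg (by omega), if_neg h]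

/-- The twisted fixed algebra `{M | F σ(M) = M F}`. -/
noncomputable def cycSubalgebra (σ : K ≃ₐ[k] K) (b : k) :
    Subalgebra k (Matrix (Fin (Module.finrank k K)) (Fin (Module.finrank k K)) K) :=
  { carrier := {M | cycMatrix (K := K) b * M.map σ = M * cycMatrix (K := K) b}
    mul_mem' := fun {M N} hM hN => by
      rw [Set.mem_setOf_eq] at hM hN ⊢
      rw [Matrix.map_mul, ← mul_assoc, hM, mul_assoc, hN, ← mul_assoc]
    one_mem' := by simp
    add_mem' := fun {M N} hM hN => by
      rw [Set.mem_setOf_eq] at hM hN ⊢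
      rw [Matrix.map_add σ (map_add σ), mul_add, add_mul, hM, hN]
    zero_mem' := by simp
    algebraMap_mem' := fun c => by
      rw [Set.mem_setOf_eq]
      have : (algebraMap k (Matrix (Fin (Module.finrank k K)) (Fin (Module.finrank k K)) K) c).map σ
          = algebraMap k _ c := (σ.toAlgHom.mapMatrix).commutes c
      rw [this, Algebra.commutes] }

theorem mem_cycSubalgebra {σ : K ≃ₐ[k] K} {b : k}
    {M : Matrix (Fin (Module.finrank k K)) (Fin (Module.finrank k K)) K} :
    M ∈ cycSubalgebra σ b ↔ cycMatrix (K := K) b * M.map σ = M * cycMatrix (K := K) b :=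
  Iff.rfl

theorem cycMatrix_mem (σ : K ≃ₐ[k] K) (b : k) : cycMatrix (K := K) b ∈ cycSubalgebra (K := K) σ b := by
  rw [mem_cycSubalgebra, cycMatrix_map]

/-- The diagonal map `x ↦ diag (x, σ x, σ² x, …)`. -/
noncomputable def cycDiag (σ : K ≃ₐ[k] K) :
    K →ₐ[k] Matrix (Fin (Module.finrank k K)) (Fin (Module.finrank k K)) K :=
  (Matrix.diagonalAlgHom k).comp (Pi.algHom k _ fun i => ((σ ^ i.val : K ≃ₐ[k] K)).toAlgHom)

theorem cycDiag_apply (σ : K ≃ₐ[k] K) (x : K) :
    cycDiag σ x = Matrix.diagonal fun i => (σ ^ i.val) x := rfl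

theorem cycDiag_rel (σ : K ≃ₐ[k] K) (hσ : σ ^ Module.finrank k K = 1) (b : k) (x : K) :
    cycDiag σ x * cycMatrix (K := K) b = cycMatrix (K := K) b * cycDiag σ (σ x) := by
  ext i j
  rw [cycDiag_apply, cycDiag_apply, Matrix.diagonal_mul, Matrix.mul_diagonal]
  simp only [cycMatrix, Matrix.of_apply]
  split_ifs with h1 h2
  · rw [← h1, pow_succ σ, mul_one, one_mul]; rfl
  · rw [h2.1, pow_zero, mul_comm, show (σ ^ j.val) (σ x) = (σ ^ (j.val + 1)) x by rw [pow_succ]; rfl,
      h2.2, hσ]
  · simp

theorem cycDiag_mem (σ : K ≃ₐ[k] K) (hσ : σ ^ Module.finrank k K = 1) (b : k) (x : K) :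
    cycDiag σ x ∈ cycSubalgebra σ b := by
  rw [mem_cycSubalgebra, cycDiag_rel σ hσ]
  congr 1
  rw [cycDiag_apply, cycDiag_apply, Matrix.diagonal_map (map_zero σ)]
  congr 1
  funext i
  change σ ((σ ^ i.val) x) = (σ ^ i.val) (σ x)
  rw [← AlgEquiv.mul_apply, ← AlgEquiv.mul_apply, ← pow_succ, ← pow_succ']

/-- The matrix cyclic data. -/
noncomputable def cycData {σ : K ≃ₐ[k] K} (h : IsGen σ) (b : k) :
    CycData k K σ b (cycSubalgebra σ b) where
  ι := (cycDiag σ).codRestrict _ (cycDiag_mem σ h.pow_finrank b)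
  y := ⟨cycMatrix (K := K) b, cycMatrix_mem σ b⟩
  pow_y := Subtype.ext (cycMatrix_pow_finrank b)
  rel x := Subtype.ext (cycDiag_rel σ h.pow_finrank b x)

theorem cycSubalgebra_ext (σ : K ≃ₐ[k] K) (b : k) (hm : 0 < Module.finrank k K)
    {M : Matrix (Fin (Module.finrank k K)) (Fin (Module.finrank k K)) K}
    (hM : M ∈ cycSubalgebra σ b) (h0 : ∀ i, M i ⟨0, hm⟩ = 0) : M = 0 := by
  rw [mem_cycSubalgebra] at hM
  suffices H : ∀ (n : ℕ) (hn : n < Module.finrank k K) i, M i ⟨n, hn⟩ = 0 by
    ext i j
    exact H j.val j.2 i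
  intro n
  induction n with
  | zero => exact fun hn i => h0 i
  | succ n ih =>
    intro hn i
    have := congr_fun (congr_fun hM i) ⟨n, by omega⟩
    rw [cycMatrix_mul_apply, Matrix.mul_apply, Finset.sum_eq_single ⟨n + 1, hn⟩] at this
    · simp only [cycMatrix, Matrix.of_apply] at this
      rw [if_true, mul_one] at this
      rw [← this]
      split_ifs <;> simp [Matrix.map_apply, ih]
    · intro l _ hl
      simp only [cycMatrix, Matrix.of_apply]
      have : l.val ≠ n + 1 := fun e => hl (Fin.ext e)
      rw [if_neg (by omega), if_neg (by omega), mul_zero]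
    · simp

theorem finrank_cycSubalgebra {σ : K ≃ₐ[k] K} (h : IsGen σ) {b : k} (hb : b ≠ 0) :
    Module.finrank k (cycSubalgebra σ b) = Module.finrank k K ^ 2 := by
  have := h.finite
  have hm : 0 < Module.finrank k K := Module.finrank_pos
  have : Nonempty (Fin (Module.finrank k K)) := ⟨⟨0, hm⟩⟩
  have hpi : Module.finrank k (Fin (Module.finrank k K) → K) = Module.finrank k K ^ 2 := by
    rw [Module.finrank_pi_fintype, Finset.sum_const, Finset.card_univ, Fintype.card_fin,
      smul_eq_mul, sq]
  let col : cycSubalgebra σ b →ₗ[k] (Fin (Module.finrank k K) → K) :=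
    { toFun := fun M i => M.1 i ⟨0, hm⟩
      map_add' := fun _ _ => rfl
      map_smul' := fun _ _ => rfl }
  have hcol : Function.Injective col := by
    rw [← LinearMap.ker_eq_bot, LinearMap.ker_eq_bot']
    exact fun M hM => Subtype.ext (cycSubalgebra_ext σ b hm M.2 (congr_fun hM))
  refine le_antisymm (hpi ▸ LinearMap.finrank_le_finrank_of_injective hcol) (hpi ▸ ?_)
  exact LinearMap.finrank_le_finrank_of_injective ((cycData h b).phi_injective h hb)

end Groth.Agent.CSA
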