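import Groth.Agent.CSA.CyclicBrauer

/-!
# Splitting and period of cyclic algebras
-/

namespace Groth.Agent.CSA

open scoped TensorProduct

variable {k K : Type*} [Field k] [Field K] [Algebra k K] {σ : K ≃ₐ[k] K}

theorem IsGen.inv (h : IsGen σ) : IsGen σ⁻¹ :=
  ⟨h.galois, h.finite, fun τ => by rw [Subgroup.zpowers_inv]; exact h.gen τ⟩

theorem IsGen.algebraMap_norm (h : IsGen σ) (x : K) :
    algebraMap k K (Algebra.norm k x) = ∏ i ∈ Finset.range (Module.finrank k K), (σ ^ i) x := by
  classical
  have := h.finite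
  have := h.galois
  rw [Algebra.norm_eq_prod_automorphisms, ← Fin.prod_univ_eq_prod_range fun i => (σ ^ i) x]
  refine (Fintype.prod_bijective (fun i : Fin (Module.finrank k K) => σ ^ i.val) ?_ _ _
    fun i => rfl).symm
  rw [Fintype.bijective_iff_injective_and_card]
  refine ⟨fun i j hij => h.pow_injective i j hij, ?_⟩
  rw [Fintype.card_fin, ← Nat.card_eq_fintype_card, IsGalois.card_aut_eq_finrank]

/-- `(K, σ, b)` is split iff `b` is a norm. -/
theorem isSplit_cyclic_iff (h : IsGen σ) {b : k} (hb : b ≠ 0) {A : Type*} [Ring A] [Algebra k A]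
    (d : CycData k K σ b A) (hA : Module.finrank k A = Module.finrank k K ^ 2) :
    IsSplit k A k ↔ ∃ x : K, Algebra.norm k x = b := by
  have := h.finite
  have := CycData.finite_of_finrank hA h
  have := d.isSimpleRing hA h hb
  have hm : 0 < Module.finrank k K := Module.finrank_pos
  constructor
  · intro hs
    obtain ⟨n, hn, ⟨e⟩⟩ := isSplit_self_iff.1 hs
    have hnm : n = Module.finrank k K := by
      have := e.toLinearEquiv.finrank_eq
      rw [hA, Module.finrank_matrix, Fintype.card_fin, Module.finrank_self, mul_one, ← sq] at this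
      exact Nat.pow_left_injective two_ne_zero this.symm
    have : NeZero n := ⟨hn⟩
    let ρ : A →ₐ[k] Module.End k (Fin n → k) := (colAction k k n).comp e.toAlgHom
    let : Module K (Fin n → k) := Module.compHom _ (ρ.comp d.ι).toRingHom
    have hsmul : ∀ (c : K) (v : Fin n → k), c • v = ρ (d.ι c) v := fun _ _ => rfl
    have : IsScalarTower k K (Fin n → k) := ⟨fun r c v => by
      rw [hsmul, hsmul, map_smul, map_smul, LinearMap.smul_apply]⟩
    have : FiniteDimensional K (Fin n → k) := Module.Finite.of_restrictScalars_finite k K _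
    have h1 : Module.finrank K (Fin n → k) = 1 := by
      have := Module.finrank_mul_finrank k K (Fin n → k)
      rw [Module.finrank_pi, Fintype.card_fin] at this
      exact Nat.eq_of_mul_eq_mul_left hm (by omega)
    obtain ⟨v, hv⟩ := exists_ne (0 : Fin n → k)
    have hspan := (finrank_eq_one_iff_of_nonzero' v hv).1 h1
    obtain ⟨x, hx⟩ := hspan (ρ d.y v)
    have hyc : ∀ c : K, ρ d.y (c • v) = ((σ⁻¹ : K ≃ₐ[k] K) c) • ρ d.y v := fun c => by
      have := d.rel ((σ⁻¹ : K ≃ₐ[k] K) c)
      rw [show σ ((σ⁻¹ : K ≃ₐ[k] K) c) = c from σ.apply_symm_apply c] at this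
      rw [hsmul, hsmul, ← Module.End.mul_apply, ← map_mul, ← this, map_mul, Module.End.mul_apply]
    have hpow : ∀ j : ℕ, ρ (d.y ^ j) v = (∏ i ∈ Finset.range j, ((σ⁻¹ : K ≃ₐ[k] K) ^ i) x) • v := by
      intro j
      induction j with
      | zero => simp
      | succ j ih =>
        rw [pow_succ', map_mul, Module.End.mul_apply, ih, hyc, ← hx, smul_smul,
          Finset.prod_range_succ', pow_zero, AlgEquiv.one_apply, map_prod]
        simp only [← AlgEquiv.mul_apply, ← pow_succ']
    have hb' := hpow (Module.finrank k K)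
    rw [d.pow_y, ← h.inv.algebraMap_norm, AlgHom.commutes, Module.algebraMap_end_apply,
      ← algebraMap_smul K b v] at hb'
    exact ⟨x, ((algebraMap k K).injective (smul_left_injective K hv hb')).symm⟩
  · rintro ⟨x, hx⟩
    let τ : K ≃ₐ[k] K := σ⁻¹
    let Y : Module.End k K := (LinearMap.mulLeft k x).comp τ.toLinearMap
    have hY : ∀ (n : ℕ) (v : K), (Y ^ n) v = (∏ i ∈ Finset.range n, (τ ^ i) x) * (τ ^ n) v := by
      intro n
      induction n with
      | zero => simp
      | succ n ih =>
        intro v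
        rw [pow_succ', Module.End.mul_apply, ih]
        change x * τ _ = _
        rw [map_mul, map_prod, Finset.prod_range_succ', pow_zero, AlgEquiv.one_apply]
        simp only [← AlgEquiv.mul_apply, ← pow_succ']
        ring
    let D : CycData k K σ b (Module.End k K) :=
      { ι := Algebra.lmul k K
        y := Y
        pow_y := LinearMap.ext fun v => by
          rw [hY, ← h.inv.algebraMap_norm, hx, Module.algebraMap_end_apply, h.inv.pow_finrank,
            AlgEquiv.one_apply, Algebra.smul_def]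
        rel := fun a => LinearMap.ext fun v => by
          change a * (x * τ v) = x * τ (σ a * v)
          rw [map_mul, show τ (σ a) = a from σ.symm_apply_apply a]
          ring }
    obtain ⟨g, -, -⟩ := d.exists_algHom hA D h hb
    have : Nontrivial (Module.End k K) := ⟨⟨0, 1, fun e => one_ne_zero (LinearMap.congr_fun e.symm (1 : K))⟩⟩
    have hg := bijective_of_isSimpleRing g (by rw [hA, Module.finrank_linearMap, sq])
    exact isSplit_self_iff.2 ⟨_, hm.ne',
      ⟨(AlgEquiv.ofBijective g hg).trans (algEquivMatrix (Module.finBasis k K))⟩⟩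

section TPow

variable (k) (A : Type*) [Ring A] [Algebra k A] [FiniteDimensional k A]

theorem finrank_tpow (e : ℕ) :
    Module.finrank k (CSAGal.tpow k A e) = Module.finrank k A ^ e := by
  rw [Module.finrank_eq_card_basis (Basis.piTensorProduct fun _ : Fin e => Module.finBasis k A),
    Fintype.card_fun, Fintype.card_fin, Fintype.card_fin]

theorem tpow_zero_equiv : Nonempty (k ≃ₐ[k] CSAGal.tpow k A 0) := by
  have h1 := finrank_tpow k A 0
  rw [pow_zero] at h1
  have : Nontrivial (CSAGal.tpow k A 0) := Module.nontrivial_of_finrank_pos (R := k) (by rw [h1]; exact one_pos)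
  exact ⟨AlgEquiv.ofBijective (Algebra.ofId k _) (bijective_of_isSimpleRing _ (by
    rw [Module.finrank_self, h1]))⟩

/-- `A^{⊗ (e+1)} ≅ A ⊗ A^{⊗ e}`. -/
theorem tpow_succ_equiv (e : ℕ) :
    Nonempty (CSAGal.tpow k A (e + 1) ≃ₐ[k] A ⊗[k] CSAGal.tpow k A e) := by
  let c : A →ₗ[k] MultilinearMap k (fun _ : Fin e => A) (A ⊗[k] CSAGal.tpow k A e) :=
    { toFun := fun a => ((TensorProduct.mk k A (CSAGal.tpow k A e)) a).compMultilinearMap
        (PiTensorProduct.tprod k)
      map_add' := fun a a' => by ext z; simp [TensorProduct.add_tmul]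
      map_smul' := fun r a => by ext z; simp [TensorProduct.smul_tmul'] }
  let f : MultilinearMap k (fun _ : Fin (e + 1) => A) (A ⊗[k] CSAGal.tpow k A e) :=
    LinearMap.uncurryLeft c
  have hf : ∀ x, f x = x 0 ⊗ₜ[k] PiTensorProduct.tprod k (Fin.tail x) := fun x => rfl
  let g : CSAGal.tpow k A (e + 1) →ₐ[k] A ⊗[k] CSAGal.tpow k A e :=
    PiTensorProduct.liftAlgHom f (by rw [hf]; rfl) (fun x y => by
      rw [hf, hf, hf, Algebra.TensorProduct.tmul_mul_tmul, PiTensorProduct.tprod_mul_tprod]; rfl)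
  have hg : ∀ x, g (PiTensorProduct.tprod k x) = f x := fun x => PiTensorProduct.lift.tprod x
  have hs : Function.Surjective g := by
    intro t
    induction t using TensorProduct.induction_on with
    | zero => exact ⟨0, map_zero g⟩
    | add t t' ht ht' =>
      obtain ⟨p, rfl⟩ := ht
      obtain ⟨q, rfl⟩ := ht'
      exact ⟨p + q, map_add g p q⟩
    | tmul a z =>
      induction z using PiTensorProduct.induction_on with
      | smul_tprod r w =>
        refine ⟨r • PiTensorProduct.tprod k (Fin.cons a w), ?_⟩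
        rw [map_smul, hg, hf, Fin.cons_zero, Fin.tail_cons, TensorProduct.tmul_smul]
      | add z z' hz hz' =>
        obtain ⟨p, hp⟩ := hz
        obtain ⟨q, hq⟩ := hz'
        exact ⟨p + q, by rw [map_add, hp, hq, TensorProduct.tmul_add]⟩
  refine ⟨AlgEquiv.ofBijective g ⟨?_, hs⟩⟩
  have hd : Module.finrank k (CSAGal.tpow k A (e + 1)) =
      Module.finrank k (A ⊗[k] CSAGal.tpow k A e) := by
    rw [Module.finrank_tensorProduct, finrank_tpow, finrank_tpow, pow_succ']
  exact (LinearMap.injective_iff_surjective_of_finrank_eq_finrank (f := g.toLinearMap) hd).2 hs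

end TPow

theorem tpow_cyclic (h : IsGen σ) (b : kˣ) {A : Type*} [Ring A] [Algebra k A]
    (hA : CSAGal.IsCyclicAlg k K σ b A) (e : ℕ) :
    Algebra.IsCentral k (CSAGal.tpow k A e) ∧ IsSimpleRing (CSAGal.tpow k A e) ∧
      BrEq k (CSAGal.tpow k A e) (cycSubalgebra σ ((b ^ e : kˣ) : k)) := by
  have := h.finite
  obtain ⟨⟨d⟩, hd⟩ := (isCyclicAlg_iff h b A).1 hA
  have := CycData.finite_of_finrank hd h
  have := d.isSimpleRing hd h b.ne_zero
  have := d.isCentral hd h b.ne_zero
  induction e with
  | zero =>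
    obtain ⟨e₀⟩ := tpow_zero_equiv k A
    refine ⟨isCentral_congr e₀, IsSimpleRing.of_ringEquiv e₀.toRingEquiv inferInstance, ?_⟩
    have hB := finrank_cycSubalgebra h (b := ((b ^ 0 : kˣ) : k)) (b ^ 0).ne_zero
    obtain ⟨n, hn, ⟨f⟩⟩ := isSplit_self_iff.1
      ((isSplit_cyclic_iff h (b ^ 0).ne_zero (cycData h _) hB).2 ⟨1, by simp⟩)
    refine (BrEq.of_algEquiv e₀.symm).trans ⟨n, 1, hn, one_ne_zero, ⟨?_⟩⟩
    exact ((Matrix.reindexAlgEquiv k k (finCongr (one_mul n).symm)).trans
      (compFin k 1 n).symm).trans f.symm.mapMatrix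
  | succ e ih =>
    obtain ⟨hc, hs, hbr⟩ := ih
    obtain ⟨g⟩ := tpow_succ_equiv k A e
    have := isSimpleRing_tensor k A (CSAGal.tpow k A e)
    have := isCentral_tensor k A (CSAGal.tpow k A e)
    refine ⟨isCentral_congr g.symm, IsSimpleRing.of_ringEquiv g.symm.toRingEquiv inferInstance,
      (BrEq.of_algEquiv g).trans ((hbr.tensor_left A).trans ?_)⟩
    refine brEq_tensor_cyclic h (b := b) (b' := b ^ e) hA
      ((isCyclicAlg_iff h _ _).2 ⟨⟨cycData h _⟩, finrank_cycSubalgebra h (b ^ e).ne_zero⟩)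
      ((isCyclicAlg_iff h _ _).2 ⟨?_, finrank_cycSubalgebra h (b ^ (e + 1)).ne_zero⟩)
    rw [← pow_succ']
    exact ⟨cycData h _⟩

theorem isSplit_tpow_cyclic_iff (h : IsGen σ) (b : kˣ) {A : Type*} [Ring A] [Algebra k A]
    (hA : CSAGal.IsCyclicAlg k K σ b A) (e : ℕ) :
    IsSplit k (CSAGal.tpow k A e) k ↔ ∃ x : K, Algebra.norm k x = (b : k) ^ e := by
  have := h.finite
  obtain ⟨⟨d⟩, hd⟩ := (isCyclicAlg_iff h b A).1 hA
  have := CycData.finite_of_finrank hd h
  obtain ⟨_, _, hbr⟩ := tpow_cyclic h b hA e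
  have hB := finrank_cycSubalgebra h (b := ((b ^ e : kˣ) : k)) (b ^ e).ne_zero
  have := CycData.finite_of_finrank hB h
  have := (cycData h _).isSimpleRing hB h (b ^ e).ne_zero
  have := (cycData h _).isCentral hB h (b ^ e).ne_zero
  rw [isSplit_iff_of_brEq hbr, isSplit_cyclic_iff h (b ^ e).ne_zero (cycData h _) hB,
    Units.val_pow_eq_pow_val]

end Groth.Agent.CSA
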