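import Groth.Agent.CSA.CyclicBrauer

/-!
# Index calculus
-/

namespace Groth.Agent.CSA

open scoped TensorProduct

universe u v

section BaseChange

variable {k : Type*} [Field k] (K : Type*) [Field K] [Algebra k K]

/-- `K ⊗ M_n(A) ≅ M_n(K ⊗ A)`. -/
theorem matrix_baseChange_equiv (A : Type*) [Ring A] [Algebra k A] [Algebra.IsCentral k A]
    [IsSimpleRing A] [FiniteDimensional k A] (n : ℕ) [NeZero n] :
    Nonempty (K ⊗[k] Matrix (Fin n) (Fin n) A ≃ₐ[K] Matrix (Fin n) (Fin n) (K ⊗[k] A)) := by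
  let f : K ⊗[k] Matrix (Fin n) (Fin n) A →ₐ[K] Matrix (Fin n) (Fin n) (K ⊗[k] A) :=
    Algebra.TensorProduct.lift (Algebra.ofId K _)
      ((Algebra.TensorProduct.includeRight : A →ₐ[k] K ⊗[k] A).mapMatrix)
      (fun x y => Algebra.commutes x _)
  have := isSimpleRing_tensor k K (Matrix (Fin n) (Fin n) A)
  have : Nontrivial (K ⊗[k] A) := (Algebra.TensorProduct.includeRight_injective (A := K) (B := A)
    (algebraMap k K).injective).nontrivial
  exact ⟨AlgEquiv.ofBijective f (bijective_of_isSimpleRing f (by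
    rw [Module.finrank_baseChange, Module.finrank_matrix, Module.finrank_matrix,
      Module.finrank_baseChange]))⟩

theorem BrEq.baseChange {A B : Type*} [Ring A] [Algebra k A] [Algebra.IsCentral k A]
    [IsSimpleRing A] [FiniteDimensional k A] [Ring B] [Algebra k B] [Algebra.IsCentral k B]
    [IsSimpleRing B] [FiniteDimensional k B] (h : BrEq k A B) :
    BrEq K (K ⊗[k] A) (K ⊗[k] B) := by
  obtain ⟨n, m, hn, hm, ⟨e⟩⟩ := h
  have : NeZero n := ⟨hn⟩
  have : NeZero m := ⟨hm⟩
  obtain ⟨f⟩ := matrix_baseChange_equiv (k := k) K A n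
  obtain ⟨g⟩ := matrix_baseChange_equiv (k := k) K B m
  exact ⟨n, m, hn, hm, ⟨f.symm.trans ((Algebra.TensorProduct.congr AlgEquiv.refl e).trans g)⟩⟩

theorem isSplit_iff_baseChange (A : Type*) [Ring A] [Algebra k A] :
    IsSplit k A K ↔ IsSplit K (K ⊗[k] A) K := by
  rw [isSplit_self_iff]; rfl

theorem isSplit_field_iff_of_brEq {A B : Type*} [Ring A] [Algebra k A] [Algebra.IsCentral k A]
    [IsSimpleRing A] [FiniteDimensional k A] [Ring B] [Algebra k B] [Algebra.IsCentral k B]
    [IsSimpleRing B] [FiniteDimensional k B] (h : BrEq k A B) :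
    IsSplit k A K ↔ IsSplit k B K := by
  have := isSimpleRing_tensor k K A
  have := isCentral_baseChange k K A
  have := isSimpleRing_tensor k K B
  have := isCentral_baseChange k K B
  rw [isSplit_iff_baseChange (k := k) K A, isSplit_iff_baseChange (k := k) K B,
    isSplit_iff_of_brEq (h.baseChange K)]

end BaseChange

variable {k : Type u} [Field k]

theorem exists_division (A : Type v) [Ring A] [Algebra k A] [Algebra.IsCentral k A]
    [IsSimpleRing A] [FiniteDimensional k A] :
    ∃ (D : Type v) (_ : DivisionRing D) (_ : Algebra k D) (_ : FiniteDimensional k D)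
      (_ : Algebra.IsCentral k D) (n : ℕ), n ≠ 0 ∧ Nonempty (A ≃ₐ[k] Matrix (Fin n) (Fin n) D) := by
  have := IsArtinianRing.of_finite k A
  obtain ⟨n, hn, D, _, _, _, ⟨e⟩⟩ := IsSimpleRing.exists_algEquiv_matrix_divisionRing_finite k A
  exact ⟨D, inferInstance, inferInstance, inferInstance, isCentral_of_algEquiv_matrix k D e, n,
    NeZero.ne n, ⟨e⟩⟩

theorem BrEq.of_matrix {A D : Type*} [Ring A] [Algebra k A] [Ring D] [Algebra k D] {n : ℕ}
    (hn : n ≠ 0) (e : A ≃ₐ[k] Matrix (Fin n) (Fin n) D) : BrEq k A D :=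
  ⟨1, n, one_ne_zero, hn, ⟨e.mapMatrix.trans ((compFin D 1 n).trans
    (Matrix.reindexAlgEquiv k D (finCongr (one_mul n))))⟩⟩

/-- An algebra Brauer equivalent to a division algebra is a matrix algebra over it. -/
theorem exists_matrix_of_brEq {B : Type*} [Ring B] [Algebra k B] [Algebra.IsCentral k B]
    [IsSimpleRing B] [FiniteDimensional k B] {D : Type*} [DivisionRing D] [Algebra k D]
    [FiniteDimensional k D] [Algebra.IsCentral k D] (h : BrEq k B D) :
    ∃ r : ℕ, r ≠ 0 ∧ Nonempty (B ≃ₐ[k] Matrix (Fin r) (Fin r) D) := by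
  obtain ⟨D', _, _, _, _, r, hr, ⟨e⟩⟩ := exists_division (k := k) B
  obtain ⟨n, m, hn, hm, ⟨f⟩⟩ := (BrEq.of_matrix hr e).symm.trans h
  obtain ⟨d⟩ := divisionRing_unique k D' D n m hn hm f
  exact ⟨r, hr, ⟨e.trans d.mapMatrix⟩⟩

/-- A central division algebra of dimension `d²` has a separable splitting field of degree `d`. -/
theorem exists_isSplit_degree (D : Type v) [DivisionRing D] [Algebra k D] [FiniteDimensional k D]
    [Algebra.IsCentral k D] {d : ℕ} (hd : Module.finrank k D = d ^ 2) :
    ∃ K : IntermediateField k (SeparableClosure k),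
      FiniteDimensional k K ∧ Module.finrank k K = d ∧ IsSplit k D K := by
  have hop : Module.finrank k Dᵐᵒᵖ = Module.finrank k D :=
    (MulOpposite.opLinearEquiv k : D ≃ₗ[k] Dᵐᵒᵖ).finrank_eq.symm
  obtain ⟨L, hcomm, hmax, hsep⟩ := exists_separable_maximal k Dᵐᵒᵖ
  have hL := finrank_eq_sq_of_maximal k Dᵐᵒᵖ L hcomm hmax
  let : CommRing L :=
    { (inferInstance : Ring L) with mul_comm := fun a b => Subtype.ext (hcomm a a.2 b b.2) }
  let : Field L := fieldOfFiniteDimensional k L
  let j : L →ₐ[k] SeparableClosure k := IsSepClosed.lift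
  let eK : L ≃ₐ[k] j.fieldRange := AlgEquiv.ofInjectiveField j
  have h := isSplit_op k (A := Dᵐᵒᵖ) (L.val.comp eK.symm.toAlgHom) (by
    rw [eK.symm.toLinearEquiv.finrank_eq]; exact hL)
  obtain ⟨m, hm, g, -⟩ := exists_algHom_of_isSplit k h
  refine ⟨j.fieldRange, Module.Finite.equiv eK.toLinearEquiv, ?_,
    isSplit_of_algHom k (g.comp (AlgEquiv.opOp k D).toAlgHom) (by
      rw [Fintype.card_fin, hm, (AlgEquiv.opOp k D).toLinearEquiv.finrank_eq])⟩
  rw [← eK.toLinearEquiv.finrank_eq]
  apply Nat.mul_self_inj.1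
  rw [← hL, hop, hd, sq]

/-- The degree of a splitting field is divisible by the index. -/
theorem dvd_finrank_of_isSplit {A : Type*} [Ring A] [Algebra k A] [Algebra.IsCentral k A]
    [IsSimpleRing A] [FiniteDimensional k A] {D : Type*} [DivisionRing D] [Algebra k D]
    [FiniteDimensional k D] [Algebra.IsCentral k D] (hAD : BrEq k A D) {d : ℕ}
    (hd : Module.finrank k D = d ^ 2) {K : Type*} [Field K] [Algebra k K] [FiniteDimensional k K]
    (hs : IsSplit k A K) : d ∣ Module.finrank k K := by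
  obtain ⟨N, B, -, _, _, hBd, hbr, -⟩ := exists_brEq_containing hs
  have : FiniteDimensional k B := Module.finite_of_finrank_pos (by
    rw [hBd]; exact pow_pos Module.finrank_pos 2)
  obtain ⟨r, -, ⟨e⟩⟩ := exists_matrix_of_brEq (hbr.symm.trans hAD)
  have := e.toLinearEquiv.finrank_eq
  rw [hBd, Module.finrank_matrix, Fintype.card_fin, hd] at this
  refine ⟨r, ?_⟩
  exact Nat.pow_left_injective two_ne_zero (by simp only; rw [this]; ring)

/-- Index: dimension of the division algebra part is a square. -/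
theorem exists_isIndex (A : Type v) [Ring A] [Algebra k A] [Algebra.IsCentral k A]
    [IsSimpleRing A] [FiniteDimensional k A] :
    ∃ (D : Type v) (_ : DivisionRing D) (_ : Algebra k D) (_ : FiniteDimensional k D)
      (_ : Algebra.IsCentral k D) (d : ℕ), 0 < d ∧ Module.finrank k D = d ^ 2 ∧ BrEq k A D ∧
      CSAGal.IsIndex k A d := by
  obtain ⟨D, _, _, _, _, n, hn, ⟨e⟩⟩ := exists_division (k := k) A
  obtain ⟨d, hd⟩ := isSquare_finrank k D
  rw [← sq] at hd
  have hd0 : 0 < d := by
    rcases Nat.eq_zero_or_pos d with rfl | h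
    · exact absurd hd (by simp [(Module.finrank_pos (R := k) (M := D)).ne'])
    · exact h
  exact ⟨D, inferInstance, inferInstance, inferInstance, inferInstance, d, hd0, hd,
    BrEq.of_matrix hn e, hd0, n, D, inferInstance, inferInstance, Nat.pos_of_ne_zero hn, hd, ⟨e⟩⟩

/-- Unpack `IsIndex` for a central simple algebra. -/
theorem of_isIndex {A : Type v} [Ring A] [Algebra k A] [Algebra.IsCentral k A]
    {d : ℕ} (h : CSAGal.IsIndex k A d) :
    ∃ (D : Type v) (_ : DivisionRing D) (_ : Algebra k D) (_ : FiniteDimensional k D)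
      (_ : Algebra.IsCentral k D), Module.finrank k D = d ^ 2 ∧ BrEq k A D := by
  obtain ⟨hd0, m, D, _, _, hm, hd, ⟨e⟩⟩ := h
  have : NeZero m := ⟨hm.ne'⟩
  exact ⟨D, inferInstance, inferInstance,
    Module.finite_of_finrank_pos (by rw [hd]; exact pow_pos hd0 2),
    isCentral_of_algEquiv_matrix k D e, hd, BrEq.of_matrix hm.ne' e⟩

/-- The index does not depend on the representation. -/
theorem isIndex_unique {A : Type v} [Ring A] [Algebra k A] [Algebra.IsCentral k A]
    {D : Type*} [DivisionRing D] [Algebra k D] [FiniteDimensional k D] [Algebra.IsCentral k D]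
    (hAD : BrEq k A D) {d d' : ℕ} (hd : Module.finrank k D = d ^ 2)
    (h : CSAGal.IsIndex k A d') : d' = d := by
  obtain ⟨D', _, _, _, _, hd', hAD'⟩ := of_isIndex h
  obtain ⟨n, m, hn, hm, ⟨e⟩⟩ := hAD'.symm.trans hAD
  obtain ⟨f⟩ := divisionRing_unique k D' D n m hn hm e
  exact Nat.pow_left_injective two_ne_zero (show d' ^ 2 = d ^ 2 by
    rw [← hd', ← hd, f.toLinearEquiv.finrank_eq])

/-- The index of `B` divides the index of `A` if every splitting field of `A` splits `B`. -/
theorem index_dvd_of_isSplit {A B : Type*} [Ring A] [Algebra k A] [Algebra.IsCentral k A]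
    [IsSimpleRing A] [FiniteDimensional k A] [Ring B] [Algebra k B] [Algebra.IsCentral k B]
    [IsSimpleRing B] [FiniteDimensional k B]
    (h : ∀ K : IntermediateField k (SeparableClosure k), IsSplit k A K → IsSplit k B K)
    {D : Type*} [DivisionRing D] [Algebra k D] [FiniteDimensional k D] [Algebra.IsCentral k D]
    (hAD : BrEq k A D) {d : ℕ} (hd : Module.finrank k D = d ^ 2)
    {D' : Type*} [DivisionRing D'] [Algebra k D'] [FiniteDimensional k D'] [Algebra.IsCentral k D']
    (hBD : BrEq k B D') {d' : ℕ} (hd' : Module.finrank k D' = d' ^ 2) : d' ∣ d := by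
  obtain ⟨K, hK, hKd, hs⟩ := exists_isSplit_degree D hd
  rw [← hKd]
  exact dvd_finrank_of_isSplit hBD hd' (h K ((isSplit_field_iff_of_brEq K hAD).2 hs))

/-- Splitting transfers up a tower. -/
theorem isSplit_of_baseChange_tower {K : Type*} [Field K] [Algebra k K] {L : Type*} [Field L]
    [Algebra K L] [Algebra k L] [IsScalarTower k K L] (A : Type*) [Ring A] [Algebra k A]
    [Algebra.IsCentral k A] [IsSimpleRing A] [FiniteDimensional k A]
    (h : IsSplit K (K ⊗[k] A) L) : IsSplit k A L := by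
  obtain ⟨n, hn, g, -⟩ := exists_algHom_of_isSplit K h
  refine isSplit_of_algHom k
    ((g.restrictScalars k).comp (Algebra.TensorProduct.includeRight : A →ₐ[k] K ⊗[k] A)) ?_
  rw [Fintype.card_fin, hn, Module.finrank_baseChange]

end Groth.Agent.CSA
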