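import Groth.Agent.CSA.PeriodIndex

/-!
# The index under base change
-/

namespace Groth.Agent.CSA

open scoped TensorProduct

universe u v

theorem dvd_mul_of_isSplit {k : Type u} [Field k] (L : Type v) [Field L] [Algebra k L]
    [FiniteDimensional k L] {A : Type*} [Ring A] [Algebra k A] [Algebra.IsCentral k A]
    [IsSimpleRing A] [FiniteDimensional k A] {D : Type*} [DivisionRing D] [Algebra k D]
    [FiniteDimensional k D] [Algebra.IsCentral k D] (hAD : BrEq k A D) {d : ℕ}
    (hd : Module.finrank k D = d ^ 2) (M : Type*) [Field M] [Algebra L M] [FiniteDimensional L M]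
    [Algebra k M] [IsScalarTower k L M] (hs : IsSplit L (L ⊗[k] A) M) :
    d ∣ Module.finrank k L * Module.finrank L M := by
  have : FiniteDimensional k M := Module.Finite.trans L M
  rw [Module.finrank_mul_finrank k L M]
  exact dvd_finrank_of_isSplit hAD hd (isSplit_of_baseChange_tower A hs)

theorem index_baseChange {k : Type u} [Field k] (L : Type v) [Field L] [Algebra k L]
    [FiniteDimensional k L] {A : Type*} [Ring A] [Algebra k A] [Algebra.IsCentral k A]
    [IsSimpleRing A] [FiniteDimensional k A] {D : Type*} [DivisionRing D] [Algebra k D]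
    [FiniteDimensional k D] [Algebra.IsCentral k D] (hAD : BrEq k A D) {d : ℕ}
    (hd : Module.finrank k D = d ^ 2) {D' : Type*} [DivisionRing D'] [Algebra L D']
    [FiniteDimensional L D'] [Algebra.IsCentral L D'] (hAD' : BrEq L (L ⊗[k] A) D') {d' : ℕ}
    (hd' : Module.finrank L D' = d' ^ 2) : d' ∣ d ∧ d ∣ Module.finrank k L * d' := by
  have := isSimpleRing_tensor k L D
  have := isCentral_baseChange k L D
  have := isSimpleRing_tensor k L A
  have := isCentral_baseChange k L A
  constructor
  · obtain ⟨r, -, ⟨f⟩⟩ := exists_matrix_of_brEq ((hAD.baseChange L).symm.trans hAD')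
    have := f.toLinearEquiv.finrank_eq
    rw [Module.finrank_baseChange, hd, Module.finrank_matrix, Fintype.card_fin, hd'] at this
    exact ⟨r, Nat.pow_left_injective two_ne_zero (show d ^ 2 = (d' * r) ^ 2 by rw [this]; ring)⟩
  · obtain ⟨M, hM, hMd, hs⟩ := exists_isSplit_degree D' hd'
    let : Algebra k M := ((algebraMap L M).comp (algebraMap k L)).toAlgebra
    have : IsScalarTower k L M := IsScalarTower.of_algebraMap_eq fun _ => rfl
    rw [← hMd]
    exact dvd_mul_of_isSplit L hAD hd (↥M) ((isSplit_field_iff_of_brEq M hAD').2 hs)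

end Groth.Agent.CSA
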