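import Groth.Agent.CSA.Centraliser

/-!
# Splitting fields of central simple algebras
-/

namespace Groth.Agent.CSA

open scoped TensorProduct

universe u v w

/-- `K` splits `A` (same body as `Curves.Splits`). -/
def IsSplit (k : Type*) [Field k] (A : Type*) [Ring A] [Algebra k A]
    (K : Type*) [Field K] [Algebra k K] : Prop :=
  ∃ n : ℕ, n ≠ 0 ∧ Nonempty (K ⊗[k] A ≃ₐ[K] Matrix (Fin n) (Fin n) K)

/-- Centrality is invariant under isomorphism (any universes). -/
theorem isCentral_congr {K D D' : Type*} [CommSemiring K] [Semiring D] [Algebra K D]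
    [Semiring D'] [Algebra K D'] [h : Algebra.IsCentral K D] (e : D ≃ₐ[K] D') :
    Algebra.IsCentral K D' := ⟨fun x hx => by
  obtain ⟨c, hc⟩ := Algebra.mem_bot.1 (h.out ((MulEquivClass.apply_mem_center_iff e.symm).mpr hx))
  exact Algebra.mem_bot.2 ⟨c, by rw [← e.commutes, hc, e.apply_symm_apply]⟩⟩

/-- An algebraic field extension generated as an algebra by separable elements is separable. -/
theorem isSeparable_of_adjoin_eq_top {k M : Type*} [Field k] [Field M] [Algebra k M] {s : Set M}
    (hs : Algebra.adjoin k s = ⊤) (h : ∀ z ∈ s, IsSeparable k z) : Algebra.IsSeparable k M :=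
  ⟨fun y => mem_separableClosure_iff.1
    ((Algebra.adjoin_le (S := (separableClosure k M).toSubalgebra)
      fun z hz => mem_separableClosure_iff.2 (h z hz)) (hs.symm ▸ Algebra.mem_top : y ∈ Algebra.adjoin k s))⟩

section

variable (k : Type u) [Field k]

/-- A map to matrices of the right size out of a central simple algebra gives a splitting. -/
theorem isSplit_of_algHom {A : Type v} [Ring A] [Algebra k A] [Algebra.IsCentral k A]
    [IsSimpleRing A] [FiniteDimensional k A] {K : Type w} [Field K] [Algebra k K]
    {ι : Type*} [Fintype ι] [DecidableEq ι] (g : A →ₐ[k] Matrix ι ι K)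
    (hι : Fintype.card ι * Fintype.card ι = Module.finrank k A) : IsSplit k A K := by
  have hpos : 0 < Module.finrank k A := Module.finrank_pos
  have hcard : Fintype.card ι ≠ 0 := by rintro h; rw [h] at hι; omega
  have : Nonempty ι := Fintype.card_pos_iff.1 (Nat.pos_of_ne_zero hcard)
  let φ : K ⊗[k] A →ₐ[K] Matrix ι ι K :=
    Algebra.TensorProduct.lift (Algebra.ofId K _) g (fun x y => Algebra.commutes x (g y))
  have := isSimpleRing_tensor k K A
  have hφ := bijective_of_isSimpleRing φ (by
    rw [Module.finrank_baseChange, Module.finrank_matrix, Module.finrank_self, mul_one, hι])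
  exact ⟨Fintype.card ι, hcard,
    ⟨(AlgEquiv.ofBijective φ hφ).trans (Matrix.reindexAlgEquiv K K (Fintype.equivFin ι))⟩⟩

theorem exists_algHom_of_isSplit {A : Type v} [Ring A] [Algebra k A] [FiniteDimensional k A]
    {K : Type w} [Field K] [Algebra k K] (h : IsSplit k A K) :
    ∃ n : ℕ, n * n = Module.finrank k A ∧ ∃ _ : A →ₐ[k] Matrix (Fin n) (Fin n) K, n ≠ 0 := by
  obtain ⟨n, hn, ⟨e⟩⟩ := h
  refine ⟨n, ?_, (e.toAlgHom.restrictScalars k).comp Algebra.TensorProduct.includeRight, hn⟩
  have := e.toLinearEquiv.finrank_eq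
  simpa [Module.finrank_baseChange, Module.finrank_matrix] using this.symm

/-- Splitting is monotone in the field. -/
theorem isSplit_of_algHom_field {A : Type v} [Ring A] [Algebra k A] [Algebra.IsCentral k A]
    [IsSimpleRing A] [FiniteDimensional k A] {K : Type*} [Field K] [Algebra k K]
    {L : Type*} [Field L] [Algebra k L] (f : K →ₐ[k] L) (h : IsSplit k A K) : IsSplit k A L := by
  obtain ⟨n, hn, g, -⟩ := exists_algHom_of_isSplit k h
  exact isSplit_of_algHom k (f.mapMatrix.comp g) (by rw [Fintype.card_fin, hn])

/-- A field splitting two algebras splits their tensor product. -/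
theorem isSplit_tensor {A : Type*} [Ring A] [Algebra k A] [Algebra.IsCentral k A]
    [IsSimpleRing A] [FiniteDimensional k A] {B : Type*} [Ring B] [Algebra k B]
    [Algebra.IsCentral k B] [IsSimpleRing B] [FiniteDimensional k B] {K : Type*} [Field K]
    [Algebra k K] (hA : IsSplit k A K) (hB : IsSplit k B K) : IsSplit k (A ⊗[k] B) K := by
  obtain ⟨n, hn, f, -⟩ := exists_algHom_of_isSplit k hA
  obtain ⟨m, hm, g, -⟩ := exists_algHom_of_isSplit k hB
  have := isSimpleRing_tensor k A B
  have := isCentral_tensor k A B
  let e := (Matrix.kroneckerTMulAlgEquiv (Fin n) (Fin m) K K K K).trans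
    (Algebra.TensorProduct.lid K K).mapMatrix
  let f' : A →ₐ[k] Matrix (Fin n) (Fin n) K ⊗[K] Matrix (Fin m) (Fin m) K :=
    ((Algebra.TensorProduct.includeLeft (R := K) (S := K) (B := Matrix (Fin m) (Fin m) K)
      ).restrictScalars k).comp f
  let g' : B →ₐ[k] Matrix (Fin n) (Fin n) K ⊗[K] Matrix (Fin m) (Fin m) K :=
    ((Algebra.TensorProduct.includeRight (R := K) (A := Matrix (Fin n) (Fin n) K)
      ).restrictScalars k).comp g
  let φ : A ⊗[k] B →ₐ[k] Matrix (Fin n × Fin m) (Fin n × Fin m) K :=
    (e.toAlgHom.restrictScalars k).comp (Algebra.TensorProduct.lift f' g' (fun a b => by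
      simp [f', g', Commute, SemiconjBy, Algebra.TensorProduct.tmul_mul_tmul]))
  refine isSplit_of_algHom k φ ?_
  rw [Fintype.card_prod, Fintype.card_fin, Fintype.card_fin, Module.finrank_tensorProduct,
    ← hn, ← hm]
  ring

/-- A central simple algebra with a subfield of square-root dimension: the field splits the
opposite algebra. -/
theorem isSplit_op {A : Type v} [Ring A] [Algebra k A] [Algebra.IsCentral k A]
    [IsSimpleRing A] [FiniteDimensional k A] {L : Type*} [Field L] [Algebra k L]
    (ι : L →ₐ[k] A) (h : Module.finrank k A = Module.finrank k L * Module.finrank k L) :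
    IsSplit k Aᵐᵒᵖ L := by
  let : Module L A := Module.compHom A ι.toRingHom
  have hsmul : ∀ (l : L) (x : A), l • x = ι l * x := fun _ _ => rfl
  have : IsScalarTower k L A := ⟨fun c l x => by
    rw [hsmul, hsmul, map_smul, smul_mul_assoc]⟩
  have : FiniteDimensional k L := FiniteDimensional.of_injective ι.toLinearMap ι.toRingHom.injective
  have : FiniteDimensional L A := Module.Finite.of_restrictScalars_finite k L A
  have hd : Module.finrank L A = Module.finrank k L := by
    have := Module.finrank_mul_finrank k L A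
    rw [h] at this
    exact Nat.eq_of_mul_eq_mul_left Module.finrank_pos this
  let b := Module.finBasis L A
  let r : A → (A →ₗ[L] A) := fun a =>
    { toFun := fun x => x * a
      map_add' := fun x y => add_mul x y a
      map_smul' := fun l x => by simp [hsmul, mul_assoc] }
  let g : Aᵐᵒᵖ →ₐ[k] Matrix (Fin (Module.finrank L A)) (Fin (Module.finrank L A)) L :=
    { toFun := fun a => LinearMap.toMatrix b b (r a.unop)
      map_one' := by
        rw [show r (1 : Aᵐᵒᵖ).unop = LinearMap.id from LinearMap.ext fun x => mul_one x,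
          LinearMap.toMatrix_id]
      map_mul' := fun a a' => by
        rw [← LinearMap.toMatrix_comp b b b]
        congr 1
        exact LinearMap.ext fun x => (mul_assoc x a'.unop a.unop).symm
      map_zero' := by
        rw [show r (0 : Aᵐᵒᵖ).unop = 0 from LinearMap.ext fun x => mul_zero x, map_zero]
      map_add' := fun a a' => by
        rw [← map_add]
        congr 1
        exact LinearMap.ext fun x => mul_add x a.unop a'.unop
      commutes' := fun c => by
        rw [show r (algebraMap k Aᵐᵒᵖ c).unop = algebraMap k L c • LinearMap.id from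
          LinearMap.ext fun x => by
            change x * algebraMap k A c = algebraMap k L c • x
            rw [hsmul, AlgHom.commutes, Algebra.commutes],
          map_smul, LinearMap.toMatrix_id]
        rw [Matrix.algebraMap_eq_diagonal]
        ext i j
        simp [Matrix.diagonal, Matrix.one_apply] }
  refine isSplit_of_algHom k g ?_
  rw [Fintype.card_fin, hd, ← h]
  exact (MulOpposite.opLinearEquiv k).finrank_eq

/-- An element commuting-set generates a commutative subalgebra. -/
theorem adjoin_commute {A : Type*} [Ring A] [Algebra k A] {s : Set A}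
    (h : ∀ x ∈ s, ∀ y ∈ s, x * y = y * x) :
    ∀ x ∈ Algebra.adjoin k s, ∀ y ∈ Algebra.adjoin k s, x * y = y * x := by
  have h1 : Algebra.adjoin k s ≤ Subalgebra.centralizer k s :=
    Algebra.adjoin_le fun x hx => (Subalgebra.mem_centralizer_iff k).2 fun y hy => h y hy x hx
  have h2 : Algebra.adjoin k s ≤ Subalgebra.centralizer k (Algebra.adjoin k s : Set A) :=
    Algebra.adjoin_le fun x hx => (Subalgebra.mem_centralizer_iff k).2 fun y hy =>
      ((Subalgebra.mem_centralizer_iff k).1 (h1 hy) x hx).symm
  exact fun x hx y hy => (Subalgebra.mem_centralizer_iff k).1 (h2 hy) x hx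

/-- The centraliser of a maximal commutative subalgebra is itself. -/
theorem centralizer_eq_self_of_maximal {A : Type*} [Ring A] [Algebra k A] (L : Subalgebra k A)
    (hcomm : ∀ x ∈ L, ∀ y ∈ L, x * y = y * x)
    (hmax : ∀ L' : Subalgebra k A, (∀ x ∈ L', ∀ y ∈ L', x * y = y * x) → L ≤ L' → L' = L) :
    Subalgebra.centralizer k (L : Set A) = L := by
  refine le_antisymm (fun x hx => ?_) fun x hx => (Subalgebra.mem_centralizer_iff k).2
    fun y hy => hcomm y hy x hx
  rw [Subalgebra.mem_centralizer_iff] at hx
  have hc : ∀ a ∈ insert x (L : Set A), ∀ b ∈ insert x (L : Set A), a * b = b * a := by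
    rintro a (rfl | ha) b (rfl | hb)
    · rfl
    · exact (hx b hb).symm
    · exact hx a ha
    · exact hcomm a ha b hb
  rw [← hmax (Algebra.adjoin k (insert x (L : Set A))) (adjoin_commute k hc)
    fun y hy => Algebra.subset_adjoin (Set.mem_insert_of_mem _ hy)]
  exact Algebra.subset_adjoin (Set.mem_insert _ _)

variable (D : Type v) [DivisionRing D] [Algebra k D] [FiniteDimensional k D]

/-- A commutative subalgebra of a finite division algebra is simple. -/
theorem isSimpleRing_of_commute (L : Subalgebra k D) (hcomm : ∀ x ∈ L, ∀ y ∈ L, x * y = y * x) :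
    IsSimpleRing L := by
  let : CommRing L :=
    { (inferInstance : Ring L) with mul_comm := fun a b => Subtype.ext (hcomm a a.2 b b.2) }
  let : Field L := fieldOfFiniteDimensional k L
  exact (inferInstance : IsSimpleRing L)

variable [Algebra.IsCentral k D]

theorem finrank_eq_sq_of_maximal (L : Subalgebra k D) (hcomm : ∀ x ∈ L, ∀ y ∈ L, x * y = y * x)
    (hmax : ∀ L' : Subalgebra k D, (∀ x ∈ L', ∀ y ∈ L', x * y = y * x) → L ≤ L' → L' = L) :
    Module.finrank k D = Module.finrank k L * Module.finrank k L := by
  have := isSimpleRing_of_commute k D L hcomm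
  have h := (centralizer_isSimpleRing_finrank L).2
  rwa [centralizer_eq_self_of_maximal k L hcomm hmax] at h

/-- A central division algebra has a separable maximal commutative subalgebra. -/
theorem exists_separable_maximal :
    ∃ L : Subalgebra k D, (∀ x ∈ L, ∀ y ∈ L, x * y = y * x) ∧
      (∀ L' : Subalgebra k D, (∀ x ∈ L', ∀ y ∈ L', x * y = y * x) → L ≤ L' → L' = L) ∧
      Algebra.IsSeparable k L := by
  classical
  let P : ℕ → Prop := fun n => ∃ L : Subalgebra k D,
    (∀ x ∈ L, ∀ y ∈ L, x * y = y * x) ∧ Algebra.IsSeparable k L ∧ Module.finrank k L = n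
  have hbot : P (Module.finrank k (⊥ : Subalgebra k D)) := by
    refine ⟨⊥, ?_, ⟨fun x => ?_⟩, rfl⟩
    · intro x hx y _
      obtain ⟨a, rfl⟩ := Algebra.mem_bot.1 hx
      exact Algebra.commutes a y
    · obtain ⟨a, ha⟩ := Algebra.mem_bot.1 x.2
      rw [show x = algebraMap k (⊥ : Subalgebra k D) a from Subtype.ext ha.symm]
      exact isSeparable_algebraMap a
  obtain ⟨L, hcomm, hsep, hLn⟩ :=
    Nat.findGreatest_spec (P := P) (n := Module.finrank k D) (Submodule.finrank_le (⊥ : Subalgebra k D).toSubmodule) hbot
  refine ⟨L, hcomm, fun L' hL' hle => le_antisymm (fun x hx => ?_) hle, hsep⟩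
  suffices hC : Subalgebra.centralizer k (L : Set D) = L by
    rw [← hC, Subalgebra.mem_centralizer_iff]
    exact fun y hy => hL' y (hle hy) x hx
  set C := Subalgebra.centralizer k (L : Set D) with hCdef
  have hLC : L ≤ C := fun x hx => (Subalgebra.mem_centralizer_iff k).2 fun y hy => hcomm y hy x hx
  have hLsimple := isSimpleRing_of_commute k D L hcomm
  have hCC : Subalgebra.centralizer k (C : Set D) = L := centralizer_centralizer L
  let : CommRing L :=
    { (inferInstance : Ring L) with mul_comm := fun a b => Subtype.ext (hcomm a a.2 b b.2) }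
  let : Field L := fieldOfFiniteDimensional k L
  let : DivisionRing C := divisionRingOfFiniteDimensional k C
  let : Algebra L C := (Subalgebra.inclusion hLC).toRingHom.toAlgebra' fun l c => Subtype.ext
    ((Subalgebra.mem_centralizer_iff k).1 c.2 (l : D) l.2)
  have : IsScalarTower k L C := IsScalarTower.of_algebraMap_eq fun _ => rfl
  have : FiniteDimensional L C := Module.Finite.of_restrictScalars_finite k L C
  have : Algebra.IsCentral L C := ⟨fun z hz => by
    have : (z : D) ∈ L := by
      rw [← hCC, Subalgebra.mem_centralizer_iff]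
      exact fun c hc => congr_arg Subtype.val ((Subalgebra.mem_center_iff).1 hz ⟨c, hc⟩)
    exact ⟨⟨_, this⟩, Subtype.ext rfl⟩⟩
  refine le_antisymm (fun c hc => ?_) hLC
  by_contra hcL
  have hne : (⊥ : Subalgebra L C) ≠ ⊤ := fun h => hcL (by
    obtain ⟨l, hl⟩ := Algebra.mem_bot.1 (h.symm ▸ Algebra.mem_top : (⟨c, hc⟩ : C) ∈ (⊥ : Subalgebra L C))
    have h' : (l : D) = c := congr_arg Subtype.val hl
    exact h' ▸ l.2)
  obtain ⟨x, hxL, hxsep⟩ := JacobsonNoether.exists_separable_and_not_isCentral' hne
  let M := Algebra.adjoin k (insert (x : D) (L : Set D))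
  have hMcomm : ∀ a ∈ M, ∀ b ∈ M, a * b = b * a := adjoin_commute k (by
    rintro a (rfl | ha) b (rfl | hb)
    · rfl
    · exact ((Subalgebra.mem_centralizer_iff k).1 x.2 b hb).symm
    · exact (Subalgebra.mem_centralizer_iff k).1 x.2 a ha
    · exact hcomm a ha b hb)
  have hLM : L ≤ M := fun y hy => Algebra.subset_adjoin (Set.mem_insert_of_mem _ hy)
  have hMC : M ≤ C := Algebra.adjoin_le (by
    rintro a (rfl | ha)
    · exact x.2
    · exact hLC ha)
  have hxM : (x : D) ∈ M := Algebra.subset_adjoin (Set.mem_insert _ _)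
  let : CommRing M :=
    { (inferInstance : Ring M) with mul_comm := fun a b => Subtype.ext (hMcomm a a.2 b b.2) }
  let : Field M := fieldOfFiniteDimensional k M
  let : Algebra L M := (Subalgebra.inclusion hLM).toRingHom.toAlgebra
  have : IsScalarTower k L M := IsScalarTower.of_algebraMap_eq fun _ => rfl
  let f : M →ₐ[L] C :=
    { (Subalgebra.inclusion hMC).toRingHom with commutes' := fun _ => rfl }
  have hxsep' : IsSeparable L (⟨x, hxM⟩ : M) := by
    have := minpoly.algHom_eq f (Subalgebra.inclusion_injective hMC) ⟨x, hxM⟩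
    unfold IsSeparable at hxsep ⊢
    rw [← this]
    exact hxsep
  have hMsep : Algebra.IsSeparable k M := by
    refine isSeparable_of_adjoin_eq_top Algebra.adjoin_adjoin_coe_preimage fun z hz => ?_
    rcases hz with hz | hz
    · rw [show z = (⟨x, hxM⟩ : M) from Subtype.ext hz]
      exact IsSeparable.of_algebra_isSeparable_of_isSeparable k hxsep'
    · rw [show z = algebraMap L M ⟨(z : D), hz⟩ from Subtype.ext rfl]
      exact IsSeparable.of_algebra_isSeparable_of_isSeparable k (isSeparable_algebraMap _)
  have hlt : Module.finrank k L < Module.finrank k M := by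
    refine Submodule.finrank_lt_finrank_of_lt (s := L.toSubmodule) (t := M.toSubmodule) ?_
    refine lt_of_le_of_ne hLM fun h => hxL ?_
    have : (x : D) ∈ L := by
      change (x : D) ∈ L.toSubmodule
      rw [h]; exact hxM
    exact Algebra.mem_bot.2 ⟨⟨_, this⟩, Subtype.ext rfl⟩
  exact Nat.findGreatest_is_greatest (P := P) (n := Module.finrank k D) (k := Module.finrank k M)
    (hLn ▸ hlt) (Submodule.finrank_le M.toSubmodule)
    ⟨M, hMcomm, hMsep, rfl⟩

omit [Algebra.IsCentral k D]

omit [FiniteDimensional k D] in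
/-- The division algebra of a central simple algebra is central. -/
theorem isCentral_of_algEquiv_matrix {A : Type*} [Ring A] [Algebra k A] [Algebra.IsCentral k A]
    {n : ℕ} [NeZero n] (e : A ≃ₐ[k] Matrix (Fin n) (Fin n) D) : Algebra.IsCentral k D := by
  have := isCentral_congr (e.trans (matrixEquivTensor (Fin n) k D))
  exact Algebra.IsCentral.left_of_tensor_of_field k D (Matrix (Fin n) (Fin n) k)

end

/-- A finite central division algebra over a separably closed field is the field. -/
theorem algebraMap_bijective_of_isSepClosed (K : Type*) [Field K] [IsSepClosed K] (D : Type*)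
    [DivisionRing D] [Algebra K D] [FiniteDimensional K D] [Algebra.IsCentral K D] :
    Function.Bijective (algebraMap K D) := by
  refine ⟨(algebraMap K D).injective, fun y => ?_⟩
  by_contra hy
  have hne : (⊥ : Subalgebra K D) ≠ ⊤ := fun h => hy (Algebra.mem_bot.1 (h.symm ▸ Algebra.mem_top))
  obtain ⟨x, hx, hsep⟩ := JacobsonNoether.exists_separable_and_not_isCentral' hne
  have h1 := IsSepClosed.degree_eq_one_of_irreducible K
    (minpoly.irreducible (Algebra.IsIntegral.isIntegral x)) hsep
  exact hx (Algebra.mem_bot.2 (minpoly.degree_eq_one_iff.1 h1))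

theorem exists_algEquiv_matrix_of_isSepClosed (K : Type*) [Field K] [IsSepClosed K] (A : Type*)
    [Ring A] [Algebra K A] [Algebra.IsCentral K A] [IsSimpleRing A] [FiniteDimensional K A] :
    ∃ n : ℕ, n ≠ 0 ∧ Nonempty (A ≃ₐ[K] Matrix (Fin n) (Fin n) K) := by
  have := IsArtinianRing.of_finite K A
  obtain ⟨n, hn, D, _, _, _, ⟨e⟩⟩ := IsSimpleRing.exists_algEquiv_matrix_divisionRing_finite K A
  have := isCentral_of_algEquiv_matrix K D e
  exact ⟨n, NeZero.ne n, ⟨e.trans <| .mapMatrix <| .symm <| .ofBijective (Algebra.ofId K D)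
    (algebraMap_bijective_of_isSepClosed K D)⟩⟩

theorem isSplit_of_isSepClosed (k : Type*) [Field k] (A : Type*) [Ring A] [Algebra k A]
    [Algebra.IsCentral k A] [IsSimpleRing A] [FiniteDimensional k A] (K : Type*) [Field K]
    [Algebra k K] [IsSepClosed K] : IsSplit k A K := by
  have := isSimpleRing_tensor k K A
  have := isCentral_baseChange k K A
  exact exists_algEquiv_matrix_of_isSepClosed K (K ⊗[k] A)

theorem isSquare_finrank (k : Type*) [Field k] (A : Type*) [Ring A] [Algebra k A]
    [Algebra.IsCentral k A] [IsSimpleRing A] [FiniteDimensional k A] :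
    IsSquare (Module.finrank k A) := by
  obtain ⟨n, hn, -⟩ := exists_algHom_of_isSplit k
    (isSplit_of_isSepClosed k A (SeparableClosure k))
  exact ⟨n, hn.symm⟩

/-- A central simple algebra is split by a finite separable subextension of a separable closure. -/
theorem exists_isSplit_intermediateField (k : Type u) [Field k] (A : Type v) [Ring A] [Algebra k A]
    [Algebra.IsCentral k A] [IsSimpleRing A] [FiniteDimensional k A] :
    ∃ K : IntermediateField k (SeparableClosure k), FiniteDimensional k K ∧ IsSplit k A K := by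
  have := IsArtinianRing.of_finite k A
  obtain ⟨n, hn, D, _, _, _, ⟨e⟩⟩ := IsSimpleRing.exists_algEquiv_matrix_divisionRing_finite k A
  have := isCentral_of_algEquiv_matrix k D e
  obtain ⟨L, hcomm, hmax, hsep⟩ := exists_separable_maximal k Dᵐᵒᵖ
  have hd := finrank_eq_sq_of_maximal k Dᵐᵒᵖ L hcomm hmax
  let : CommRing L :=
    { (inferInstance : Ring L) with mul_comm := fun a b => Subtype.ext (hcomm a a.2 b b.2) }
  let : Field L := fieldOfFiniteDimensional k L
  let j : L →ₐ[k] SeparableClosure k := IsSepClosed.lift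
  let K := j.fieldRange
  let eK : L ≃ₐ[k] K := AlgEquiv.ofInjectiveField j
  have hfin : FiniteDimensional k K := Module.Finite.equiv eK.toLinearEquiv
  have h := isSplit_op k (A := Dᵐᵒᵖ) (L.val.comp eK.symm.toAlgHom) (by
    rw [eK.symm.toLinearEquiv.finrank_eq]; exact hd)
  obtain ⟨m, hm, g, -⟩ := exists_algHom_of_isSplit k h
  refine ⟨K, hfin, ?_⟩
  let φ : A →ₐ[k] Matrix (Fin n × Fin m) (Fin n × Fin m) K :=
    (Matrix.compAlgEquiv (Fin n) (Fin m) K k).toAlgHom.comp
      ((g.comp (AlgEquiv.opOp k D).toAlgHom).mapMatrix.comp e.toAlgHom)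
  refine isSplit_of_algHom k φ ?_
  rw [e.toLinearEquiv.finrank_eq, Module.finrank_matrix, Fintype.card_prod, Fintype.card_fin,
    Fintype.card_fin, (AlgEquiv.opOp k D).toLinearEquiv.finrank_eq, ← hm]
  ring

theorem exists_isSplit_galois (k : Type u) [Field k] (A : Type v) [Ring A] [Algebra k A]
    [Algebra.IsCentral k A] [IsSimpleRing A] [FiniteDimensional k A] :
    ∃ K : IntermediateField k (SeparableClosure k),
      FiniteDimensional k K ∧ IsGalois k K ∧ IsSplit k A K := by
  obtain ⟨K, hK, h⟩ := exists_isSplit_intermediateField k A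
  refine ⟨IntermediateField.normalClosure k K (SeparableClosure k), inferInstance, inferInstance,
    isSplit_of_algHom_field k (IntermediateField.inclusion K.le_normalClosure) h⟩

section Descent

variable (k : Type*) [Field k] (K : Type*) [Field K] [Algebra k K] (A : Type*) [Ring A]
  [Algebra k A]

theorem finiteDimensional_of_baseChange [FiniteDimensional K (K ⊗[k] A)] :
    FiniteDimensional k A := by
  have h := Module.rank_lt_aleph0 K (K ⊗[k] A)
  rw [Module.rank_baseChange, Cardinal.lift_lt_aleph0] at h
  exact Module.rank_lt_aleph0_iff.1 h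

theorem isCentral_of_baseChange [Algebra.IsCentral K (K ⊗[k] A)] : Algebra.IsCentral k A := by
  refine ⟨fun c hc => ?_⟩
  rw [Subalgebra.mem_center_iff] at hc
  have hc' : ((1 : K) ⊗ₜ[k] c) ∈ Subalgebra.center K (K ⊗[k] A) := by
    rw [Subalgebra.mem_center_iff]
    intro x
    induction x using TensorProduct.induction_on with
    | zero => simp
    | tmul a b => simp [Algebra.TensorProduct.tmul_mul_tmul, hc b]
    | add x y hx hy => simp [add_mul, mul_add, hx, hy]
  obtain ⟨a, ha⟩ := Algebra.IsCentral.out (K := K) hc'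
  by_contra hcb
  have hcs : c ∉ (Subalgebra.toSubmodule (⊥ : Subalgebra k A)) := hcb
  obtain ⟨φ, hφc, hφ⟩ := Submodule.exists_dual_map_eq_bot_of_notMem hcs inferInstance
  have hφ1 : φ 1 = 0 := by
    have : φ 1 ∈ Submodule.map φ (Subalgebra.toSubmodule (⊥ : Subalgebra k A)) :=
      ⟨1, one_mem (⊥ : Subalgebra k A), rfl⟩
    rwa [hφ, Submodule.mem_bot] at this
  have := congr_arg (fun y => TensorProduct.rid k K (φ.lTensor K y)) ha
  simp [Algebra.TensorProduct.algebraMap_apply, hφ1] at this
  exact hφc ((smul_eq_zero.1 this.symm).resolve_right one_ne_zero)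

theorem isSimpleRing_of_baseChange [IsSimpleRing (K ⊗[k] A)] : IsSimpleRing A := by
  have hinj : Function.Injective (Algebra.TensorProduct.includeRight : A →ₐ[k] K ⊗[k] A) :=
    Algebra.TensorProduct.includeRight_injective (algebraMap k K).injective
  have : Nontrivial A := by
    by_contra h
    rw [not_nontrivial_iff_subsingleton] at h
    have : Subsingleton (K ⊗[k] A) := ⟨fun x y => by
      have h1 : (1 : K ⊗[k] A) = 0 := by
        rw [Algebra.TensorProduct.one_def, Subsingleton.elim (1 : A) 0, TensorProduct.tmul_zero]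
      rw [← mul_one x, ← mul_one y, h1, mul_zero, mul_zero]⟩
    exact not_nontrivial (K ⊗[k] A) inferInstance
  refine isSimpleRing_iff_isTwoSided_imp.2 ⟨this, fun I hI => or_iff_not_imp_right.2 fun hne => ?_⟩
  have : Nontrivial (A ⧸ I) := Ideal.Quotient.nontrivial_iff.2 hne
  let q : A →ₐ[k] A ⧸ I := Ideal.Quotient.mkₐ k I
  let F := Algebra.TensorProduct.map (AlgHom.id k K) q
  have : Nontrivial (K ⊗[k] (A ⧸ I)) :=
    (Algebra.TensorProduct.includeRight_injective (A := K) (B := A ⧸ I)
      (algebraMap k K).injective).nontrivial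
  have hF : Function.Injective F := F.toRingHom.injective
  rw [eq_bot_iff]
  intro a ha
  refine hinj (hF ?_)
  simp [F, q, Ideal.Quotient.eq_zero_iff_mem.2 ha]

theorem csa_of_isSplit (h : IsSplit k A K) :
    Algebra.IsCentral k A ∧ IsSimpleRing A ∧ FiniteDimensional k A := by
  obtain ⟨n, hn, ⟨e⟩⟩ := h
  have : NeZero n := ⟨hn⟩
  have := Module.Finite.equiv e.symm.toLinearEquiv
  have := isCentral_congr e.symm
  have : IsSimpleRing (K ⊗[k] A) := IsSimpleRing.of_ringEquiv e.symm.toRingEquiv inferInstance
  exact ⟨isCentral_of_baseChange k K A, isSimpleRing_of_baseChange k K A,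
    finiteDimensional_of_baseChange k K A⟩

end Descent

end Groth.Agent.CSA
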