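import Groth.Agent.CSA.CyclicPeriod
import Groth.Agent.CSA.Index

/-!
# Tensor powers and periods of central simple algebras
-/

namespace Groth.Agent.CSA

open scoped TensorProduct

variable {k : Type*} [Field k]

theorem isSplit_self_field : IsSplit k k k :=
  isSplit_self_iff.2 ⟨1, one_ne_zero,
    ⟨AlgEquiv.ofBijective (Algebra.ofId k _) (bijective_of_isSimpleRing _ (by
      rw [Module.finrank_self, Module.finrank_matrix, Fintype.card_fin, Module.finrank_self]))⟩⟩

/-- A split algebra is Brauer equivalent to the field. -/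
theorem brEq_field_of_isSplit {A : Type*} [Ring A] [Algebra k A] (h : IsSplit k A k) :
    BrEq k A k := by
  obtain ⟨n, hn, ⟨e⟩⟩ := isSplit_self_iff.1 h
  exact BrEq.of_matrix hn e

theorem brEq_tensor_of_isSplit {A B : Type*} [Ring A] [Algebra k A] [Ring B] [Algebra k B]
    (h : IsSplit k A k) : BrEq k (A ⊗[k] B) B :=
  ((brEq_field_of_isSplit h).tensor_right B).trans (BrEq.of_algEquiv (Algebra.TensorProduct.lid k B))

section TPow

variable (k) (A : Type*) [Ring A] [Algebra k A] [Algebra.IsCentral k A] [IsSimpleRing A]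
  [FiniteDimensional k A]

theorem csa_tpow (e : ℕ) :
    Algebra.IsCentral k (CSAGal.tpow k A e) ∧ IsSimpleRing (CSAGal.tpow k A e) := by
  induction e with
  | zero =>
    obtain ⟨e₀⟩ := tpow_zero_equiv k A
    exact ⟨isCentral_congr e₀, IsSimpleRing.of_ringEquiv e₀.toRingEquiv inferInstance⟩
  | succ e ih =>
    obtain ⟨_, _⟩ := ih
    obtain ⟨g⟩ := tpow_succ_equiv k A e
    have := isSimpleRing_tensor k A (CSAGal.tpow k A e)
    have := isCentral_tensor k A (CSAGal.tpow k A e)
    exact ⟨isCentral_congr g.symm, IsSimpleRing.of_ringEquiv g.symm.toRingEquiv inferInstance⟩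

theorem isSplit_tpow_zero : IsSplit k (CSAGal.tpow k A 0) k := by
  obtain ⟨e₀⟩ := tpow_zero_equiv k A
  obtain ⟨n, hn, ⟨f⟩⟩ := isSplit_self_iff.1 (isSplit_self_field (k := k))
  exact isSplit_self_iff.2 ⟨n, hn, ⟨e₀.symm.trans f⟩⟩

theorem tpow_add (a b : ℕ) :
    BrEq k (CSAGal.tpow k A (a + b)) (CSAGal.tpow k A a ⊗[k] CSAGal.tpow k A b) := by
  induction a with
  | zero => rw [Nat.zero_add]; exact (brEq_tensor_of_isSplit (isSplit_tpow_zero k A)).symm
  | succ a ih =>
    obtain ⟨g⟩ := tpow_succ_equiv k A (a + b)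
    obtain ⟨g'⟩ := tpow_succ_equiv k A a
    rw [Nat.succ_add]
    exact (BrEq.of_algEquiv g).trans ((ih.tensor_left A).trans ((BrEq.of_algEquiv
      (Algebra.TensorProduct.assoc k k k A (CSAGal.tpow k A a) (CSAGal.tpow k A b)).symm).trans
      ((BrEq.of_algEquiv g'.symm).tensor_right _)))

theorem tpow_mul (r q : ℕ) :
    BrEq k (CSAGal.tpow k A (r * q)) (CSAGal.tpow k (CSAGal.tpow k A r) q) := by
  induction q with
  | zero =>
    exact (brEq_field_of_isSplit (isSplit_tpow_zero k A)).trans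
      (BrEq.of_algEquiv (tpow_zero_equiv k (CSAGal.tpow k A r)).some)
  | succ q ih =>
    obtain ⟨g⟩ := tpow_succ_equiv k (CSAGal.tpow k A r) q
    rw [Nat.mul_succ, Nat.add_comm]
    exact (tpow_add k A r (r * q)).trans ((ih.tensor_left _).trans (BrEq.of_algEquiv g.symm))

theorem isSplit_tpow_add {a b : ℕ} (ha : IsSplit k (CSAGal.tpow k A a) k) :
    IsSplit k (CSAGal.tpow k A (a + b)) k ↔ IsSplit k (CSAGal.tpow k A b) k := by
  obtain ⟨_, _⟩ := csa_tpow k A (a + b)
  obtain ⟨_, _⟩ := csa_tpow k A b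
  exact isSplit_iff_of_brEq ((tpow_add k A a b).trans (brEq_tensor_of_isSplit ha))

theorem isSplit_tpow_mul {a : ℕ} (ha : IsSplit k (CSAGal.tpow k A a) k) (q : ℕ) :
    IsSplit k (CSAGal.tpow k A (a * q)) k := by
  induction q with
  | zero => exact isSplit_tpow_zero k A
  | succ q ih =>
    rw [Nat.mul_succ, Nat.add_comm]
    exact (isSplit_tpow_add k A ha).2 ih

theorem isSplit_tpow_gcd {a b : ℕ} :
    IsSplit k (CSAGal.tpow k A a) k → IsSplit k (CSAGal.tpow k A b) k →
      IsSplit k (CSAGal.tpow k A (Nat.gcd a b)) k := by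
  induction a, b using Nat.gcd.induction with
  | H0 n => intro _ h; rwa [Nat.gcd_zero_left]
  | H1 m n hm ih =>
    intro h1 h2
    rw [Nat.gcd_rec]
    refine ih ((isSplit_tpow_add k A (b := n % m) (isSplit_tpow_mul k A h1 (n / m))).1 ?_) h1
    rwa [Nat.div_add_mod]

theorem isPeriod_dvd {p e : ℕ} (hp : CSAGal.IsPeriod k A p)
    (he : IsSplit k (CSAGal.tpow k A e) k) : p ∣ e := by
  obtain ⟨hp0, hps, hmin⟩ := hp
  have hg := isSplit_tpow_gcd k A hps he
  have hgp : Nat.gcd p e ∣ p := Nat.gcd_dvd_left p e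
  rcases (Nat.le_of_dvd hp0 hgp).eq_or_lt with h | h
  · exact h ▸ Nat.gcd_dvd_right p e
  · exact absurd hg (hmin _ (Nat.pos_of_dvd_of_pos hgp hp0) h)

theorem isSplit_tpow_field (K : Type*) [Field K] [Algebra k K] (hs : IsSplit k A K) :
    ∀ e, IsSplit k (CSAGal.tpow k A e) K := by
  intro e
  induction e with
  | zero =>
    obtain ⟨_, _⟩ := csa_tpow k A 0
    exact isSplit_of_algHom_field k (Algebra.ofId k K) (isSplit_tpow_zero k A)
  | succ e ih =>
    obtain ⟨_, _⟩ := csa_tpow k A e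
    obtain ⟨_, _⟩ := csa_tpow k A (e + 1)
    obtain ⟨g⟩ := tpow_succ_equiv k A e
    have := isSimpleRing_tensor k A (CSAGal.tpow k A e)
    have := isCentral_tensor k A (CSAGal.tpow k A e)
    exact (isSplit_field_iff_of_brEq K (BrEq.of_algEquiv g)).2 (isSplit_tensor k hs ih)

end TPow

end Groth.Agent.CSA
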