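import Groth.Agent.CSA.AntiSym

/-!
# Period divides index, and both have the same prime factors
-/

namespace Groth.Agent.CSA

open scoped TensorProduct

variable {k : Type*} [Field k]

theorem tpow_congr {A B : Type*} [Ring A] [Algebra k A] [Algebra.IsCentral k A] [IsSimpleRing A]
    [FiniteDimensional k A] [Ring B] [Algebra k B] [Algebra.IsCentral k B] [IsSimpleRing B]
    [FiniteDimensional k B] (h : BrEq k A B) (e : ℕ) :
    BrEq k (CSAGal.tpow k A e) (CSAGal.tpow k B e) := by
  induction e with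
  | zero =>
    exact (brEq_field_of_isSplit (isSplit_tpow_zero k A)).trans
      (brEq_field_of_isSplit (isSplit_tpow_zero k B)).symm
  | succ e ih =>
    obtain ⟨g⟩ := tpow_succ_equiv k A e
    obtain ⟨g'⟩ := tpow_succ_equiv k B e
    exact (BrEq.of_algEquiv g).trans ((h.tensor_right _).trans
      ((ih.tensor_left B).trans (BrEq.of_algEquiv g'.symm)))

/-- The index of `A^{⊗ r}` divides `choose d r`. -/
theorem index_tpow_dvd_choose {A : Type*} [Ring A] [Algebra k A] [Algebra.IsCentral k A]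
    [IsSimpleRing A] [FiniteDimensional k A] {D : Type*} [DivisionRing D] [Algebra k D]
    [FiniteDimensional k D] [Algebra.IsCentral k D] (hAD : BrEq k A D) {d : ℕ}
    (hd : Module.finrank k D = d ^ 2) (r : ℕ) {D' : Type*} [DivisionRing D'] [Algebra k D']
    [FiniteDimensional k D'] [Algebra.IsCentral k D'] (h' : BrEq k (CSAGal.tpow k A r) D') {d' : ℕ}
    (hd' : Module.finrank k D' = d' ^ 2) : d' ∣ d.choose r := by
  obtain ⟨J, hJ⟩ := exists_leftIdeal_tpow (k := k) (A := D) hd r
  obtain ⟨_, _⟩ := csa_tpow k D r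
  refine index_dvd_of_leftIdeal ((tpow_congr hAD r).symm.trans h') hd' (N := d ^ r) ?_ J hJ
  rw [finrank_tpow, hd, ← pow_mul, ← pow_mul, mul_comm]

/-- The period divides the index. -/
theorem isSplit_tpow_index {A : Type*} [Ring A] [Algebra k A] [Algebra.IsCentral k A]
    [IsSimpleRing A] [FiniteDimensional k A] {D : Type*} [DivisionRing D] [Algebra k D]
    [FiniteDimensional k D] [Algebra.IsCentral k D] (hAD : BrEq k A D) {d : ℕ}
    (hd : Module.finrank k D = d ^ 2) : IsSplit k (CSAGal.tpow k A d) k := by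
  obtain ⟨_, _⟩ := csa_tpow k A d
  obtain ⟨D', _, _, _, _, n, hn, ⟨e⟩⟩ := exists_division (k := k) (CSAGal.tpow k A d)
  obtain ⟨c, hc⟩ := isSquare_finrank k D'
  rw [← sq] at hc
  have h := index_tpow_dvd_choose hAD hd d (BrEq.of_matrix hn e) hc
  rw [Nat.choose_self, Nat.dvd_one] at h
  subst h
  rw [one_pow] at hc
  let f := AlgEquiv.ofBijective (Algebra.ofId k D')
    (bijective_of_isSimpleRing _ (by rw [Module.finrank_self, hc]))
  exact isSplit_self_iff.2 ⟨n, hn, ⟨e.trans f.symm.mapMatrix⟩⟩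

/-- Base change commutes with tensor powers. -/
theorem baseChange_tpow_equiv (L : Type*) [Field L] [Algebra k L] (A : Type*) [Ring A] [Algebra k A]
    [Algebra.IsCentral k A] [IsSimpleRing A] [FiniteDimensional k A] (e : ℕ) :
    Nonempty (L ⊗[k] CSAGal.tpow k A e ≃ₐ[L] CSAGal.tpow L (L ⊗[k] A) e) := by
  have := isSimpleRing_tensor k L A
  have := isCentral_baseChange k L A
  obtain ⟨_, _⟩ := csa_tpow k A e
  obtain ⟨_, _⟩ := csa_tpow L (L ⊗[k] A) e
  let f : MultilinearMap k (fun _ : Fin e => A) (CSAGal.tpow L (L ⊗[k] A) e) :=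
    ((PiTensorProduct.tprod L).restrictScalars k).compLinearMap
      fun _ => (Algebra.TensorProduct.includeRight : A →ₐ[k] L ⊗[k] A).toLinearMap
  let g : CSAGal.tpow k A e →ₐ[k] CSAGal.tpow L (L ⊗[k] A) e :=
    PiTensorProduct.liftAlgHom f rfl (fun x y => by
      change PiTensorProduct.tprod L _ = PiTensorProduct.tprod L _ * PiTensorProduct.tprod L _
      rw [PiTensorProduct.tprod_mul_tprod]
      exact congr_arg _ (funext fun t => map_mul
        (Algebra.TensorProduct.includeRight : A →ₐ[k] L ⊗[k] A) (x t) (y t)))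
  let φ : L ⊗[k] CSAGal.tpow k A e →ₐ[L] CSAGal.tpow L (L ⊗[k] A) e :=
    Algebra.TensorProduct.lift (Algebra.ofId L _) g (fun x y => Algebra.commutes x (g y))
  have := isSimpleRing_tensor k L (CSAGal.tpow k A e)
  exact ⟨AlgEquiv.ofBijective φ (bijective_of_isSimpleRing φ (by
    rw [Module.finrank_baseChange, finrank_tpow, finrank_tpow, Module.finrank_baseChange]))⟩

theorem isSplit_field_iff_tpow (L : Type*) [Field L] [Algebra k L] (A : Type*) [Ring A] [Algebra k A]
    [Algebra.IsCentral k A] [IsSimpleRing A] [FiniteDimensional k A] (e : ℕ) :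
    IsSplit k (CSAGal.tpow k A e) L ↔ IsSplit L (CSAGal.tpow L (L ⊗[k] A) e) L := by
  have := isSimpleRing_tensor k L A
  have := isCentral_baseChange k L A
  obtain ⟨_, _⟩ := csa_tpow k A e
  obtain ⟨_, _⟩ := csa_tpow L (L ⊗[k] A) e
  obtain ⟨g⟩ := baseChange_tpow_equiv (k := k) L A e
  have := isSimpleRing_tensor k L (CSAGal.tpow k A e)
  have := isCentral_baseChange k L (CSAGal.tpow k A e)
  rw [isSplit_iff_baseChange]
  exact isSplit_iff_of_brEq (BrEq.of_algEquiv g)

theorem brEq_tpow_one (A : Type*) [Ring A] [Algebra k A] [Algebra.IsCentral k A] [IsSimpleRing A]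
    [FiniteDimensional k A] : BrEq k (CSAGal.tpow k A 1) A := by
  obtain ⟨g⟩ := tpow_succ_equiv k A 0
  exact (BrEq.of_algEquiv g).trans ((BrEq.of_algEquiv
    (Algebra.TensorProduct.comm k A (CSAGal.tpow k A 0))).trans
      (brEq_tensor_of_isSplit (isSplit_tpow_zero k A)))

/-- The Sylow core of `prime_dvd_of_dvd_index`, for an abstract Galois splitting field. -/
theorem exists_isSplit_coprime (K : Type*) [Field K] [Algebra k K] [FiniteDimensional k K]
    [IsGalois k K] (A : Type*) [Ring A] [Algebra k A] [Algebra.IsCentral k A]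
    [IsSimpleRing A] [FiniteDimensional k A] (hs : IsSplit k A K) {e : ℕ}
    (he : IsSplit k (CSAGal.tpow k A e) k) {p : ℕ} (hp : p.Prime) (hpe : ¬ p ∣ e) :
    ∃ L : IntermediateField k K, IsSplit k A L ∧ ¬ p ∣ Module.finrank k L := by
  have : Fact p.Prime := ⟨hp⟩
  obtain ⟨P⟩ : Nonempty (Sylow p (K ≃ₐ[k] K)) := inferInstance
  let L := IntermediateField.fixedField (P : Subgroup (K ≃ₐ[k] K))
  obtain ⟨a, ha⟩ : ∃ a, Module.finrank L K = p ^ a :=
    ⟨_, (IntermediateField.finrank_fixedField_eq_card _).trans (Sylow.card_eq_multiplicity P)⟩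
  have hL : ¬ p ∣ Module.finrank k L := by
    intro hdiv
    refine P.not_dvd_index ?_
    have h1 := (P : Subgroup (K ≃ₐ[k] K)).card_mul_index
    rw [IsGalois.card_aut_eq_finrank, ← Module.finrank_mul_finrank k L K,
      IntermediateField.finrank_fixedField_eq_card, mul_comm] at h1
    rwa [Nat.eq_of_mul_eq_mul_right Nat.card_pos h1]
  -- over `L`, the index is a power of `p` and the exponent is prime to `p`
  refine ⟨L, ?_, hL⟩
  have := isSimpleRing_tensor k L A
  have := isCentral_baseChange k L A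
  obtain ⟨DL, _, _, _, _, dL, hdL0, hdL, hALD, -⟩ := exists_isIndex (k := L) (L ⊗[k] A)
  have hsK : IsSplit L (L ⊗[k] A) K := by
    obtain ⟨n, hn, g, -⟩ := exists_algHom_of_isSplit k hs
    let φ : L ⊗[k] A →ₐ[L] Matrix (Fin n) (Fin n) K :=
      Algebra.TensorProduct.lift (Algebra.ofId L _) g (fun x y => Algebra.commutes x (g y))
    exact isSplit_of_algHom L φ (by rw [Fintype.card_fin, hn, Module.finrank_baseChange])
  obtain ⟨b, -, hb⟩ := (Nat.dvd_prime_pow hp).1 (ha ▸ dvd_finrank_of_isSplit hALD hdL hsK)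
  have hsplit := isSplit_tpow_index hALD hdL
  rw [hb] at hsplit
  have heL : IsSplit L (CSAGal.tpow L (L ⊗[k] A) e) L := by
    obtain ⟨_, _⟩ := csa_tpow k A e
    exact (isSplit_field_iff_tpow L A e).1 (isSplit_of_algHom_field k (Algebra.ofId k L) he)
  have h1 := isSplit_tpow_gcd L (L ⊗[k] A) hsplit heL
  rw [(Nat.Coprime.pow_left b ((Nat.Prime.coprime_iff_not_dvd hp).2 hpe))] at h1
  obtain ⟨_, _⟩ := csa_tpow L (L ⊗[k] A) 1
  rw [isSplit_iff_baseChange]
  exact (isSplit_iff_of_brEq (brEq_tpow_one (L ⊗[k] A))).1 h1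

/-- Every prime factor of the index divides every exponent killing the algebra. -/
theorem prime_dvd_of_dvd_index {A : Type*} [Ring A] [Algebra k A] [Algebra.IsCentral k A]
    [IsSimpleRing A] [FiniteDimensional k A] {D : Type*} [DivisionRing D] [Algebra k D]
    [FiniteDimensional k D] [Algebra.IsCentral k D] (hAD : BrEq k A D) {d : ℕ}
    (hd : Module.finrank k D = d ^ 2) {e : ℕ} (he : IsSplit k (CSAGal.tpow k A e) k)
    {p : ℕ} (hp : p.Prime) (hpd : p ∣ d) : p ∣ e := by
  by_contra hpe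
  obtain ⟨K, hf, hg, hs⟩ := exists_isSplit_galois k A
  obtain ⟨L, hAL, hL⟩ := exists_isSplit_coprime (↥K) A hs he hp hpe
  exact hL (hpd.trans (dvd_finrank_of_isSplit hAD hd hAL))

theorem dvd_pow_pred {d e : ℕ} (hd : d ≠ 0) (he : e ≠ 0)
    (h : ∀ p : ℕ, p.Prime → p ∣ d → p ∣ e) : d ∣ e ^ (d - 1) := by
  rw [← Nat.factorization_prime_le_iff_dvd hd (pow_ne_zero _ he)]
  intro p hp
  rw [Nat.factorization_pow, Finsupp.smul_apply, smul_eq_mul]
  rcases Nat.eq_zero_or_pos (d.factorization p) with h0 | h0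
  · rw [h0]; exact Nat.zero_le _
  · have hpd : p ∣ d := Nat.dvd_of_factorization_pos h0.ne'
    have h1 : 1 ≤ e.factorization p := hp.factorization_pos_of_dvd he (h p hp hpd)
    have h2 := Nat.factorization_lt p hd
    calc d.factorization p ≤ (d - 1) * 1 := by omega
      _ ≤ (d - 1) * e.factorization p := Nat.mul_le_mul_left _ h1

end Groth.Agent.CSA
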