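import Mathlib.RingTheory.Flat.FaithfullyFlat.Algebra
import Mathlib.RingTheory.Flat.EquationalCriterion
import Mathlib.RingTheory.Finiteness.Descent
import Mathlib.RingTheory.TensorProduct.Finite

/-!
# Faithfully flat descent of finite projective modules
-/

namespace Groth.Agent.CSA.Azu

open TensorProduct

universe u v w

theorem finite_projective_of_baseChange (R : Type u) [CommRing R] (S : Type v) [CommRing S]
    [Algebra R S] [Module.FaithfullyFlat R S] (B : Type w) [AddCommGroup B] [Module R B]
    [Module.Finite S (S ⊗[R] B)] [Module.Projective S (S ⊗[R] B)] :
    Module.Finite R B ∧ Module.Projective R B := by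
  have : Module.Finite R B := Module.Finite.of_finite_tensorProduct_of_faithfullyFlat S
  obtain ⟨n, f, hf⟩ := Module.Finite.exists_fin' R B
  have hker : (LinearMap.ker f).FG := by
    rw [← Module.Finite.iff_fg]
    have : Module.Finite S (S ⊗[R] LinearMap.ker f) := by
      have hex : Function.Exact ((LinearMap.ker f).subtype.lTensor S) (f.lTensor S) :=
        Module.Flat.lTensor_exact S (LinearMap.exact_subtype_ker_map f)
      have hinj : Function.Injective ((LinearMap.ker f).subtype.baseChange S) :=
        Module.Flat.lTensor_preserves_injective_linearMap (M := S) _ (LinearMap.ker f).injective_subtype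
      obtain ⟨σ, hσ⟩ := Module.projective_lifting_property (f.baseChange S) LinearMap.id
        (LinearMap.lTensor_surjective S hf)
      let pr : S ⊗[R] (Fin n → R) →ₗ[S] LinearMap.ker (f.baseChange S) :=
        (LinearMap.id - σ.comp (f.baseChange S)).codRestrict _ fun x => by
          rw [LinearMap.mem_ker, LinearMap.sub_apply, map_sub, LinearMap.comp_apply, LinearMap.id_apply,
            ← LinearMap.comp_apply (f.baseChange S) σ, hσ, LinearMap.id_apply, sub_self]
      have : Module.Finite S (LinearMap.ker (f.baseChange S)) := Module.Finite.of_surjective pr fun x =>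
        ⟨x, Subtype.ext (by simp [pr, LinearMap.codRestrict_apply, show (f.baseChange S) x = 0 from x.2])⟩
      have hrange : LinearMap.ker (f.baseChange S) =
          LinearMap.range ((LinearMap.ker f).subtype.baseChange S) := SetLike.ext fun x => hex x
      exact Module.Finite.equiv ((LinearEquiv.ofEq _ _ hrange).trans (LinearEquiv.ofInjective _ hinj).symm)
    exact Module.Finite.of_finite_tensorProduct_of_faithfullyFlat S
  have : Module.FinitePresentation R B := Module.finitePresentation_of_surjective f hf hker
  have : Module.Flat R B := Module.Flat.of_flat_tensorProduct R B S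
  exact ⟨‹_›, Module.Flat.projective_of_finitePresentation⟩

end Groth.Agent.CSA.Azu
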