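import Groth.Agent.CSA.Split

/-!
# Uniqueness of matrix sizes and cancellation of matrix algebras
-/

namespace Groth.Agent.CSA

/-- Matrix multiplication on column vectors, as an algebra map. -/
noncomputable def colAction (k : Type*) [Field k] (D : Type*) [Ring D] [Algebra k D] (n : ℕ) :
    Matrix (Fin n) (Fin n) D →ₐ[k] Module.End k (Fin n → D) :=
  AlgHom.ofLinearMap
    { toFun := fun M =>
        { toFun := fun v => M.mulVec v
          map_add' := fun v w => Matrix.mulVec_add M v w
          map_smul' := fun c v => Matrix.mulVec_smul M c v }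
      map_add' := fun M N => LinearMap.ext fun v => Matrix.add_mulVec M N v
      map_smul' := fun c M => LinearMap.ext fun v => Matrix.smul_mulVec c M v }
    (LinearMap.ext fun v => Matrix.one_mulVec v)
    (fun M N => LinearMap.ext fun v => (Matrix.mulVec_mulVec v M N).symm)

theorem colAction_trans (k : Type*) [Field k] (E : Type*) [DivisionRing E] [Algebra k E] (p : ℕ)
    (x : Fin p → E) (hx : x ≠ 0) (y : Fin p → E) :
    ∃ M : Matrix (Fin p) (Fin p) E, colAction k E p M x = y := by
  obtain ⟨j, hj⟩ := Function.ne_iff.1 hx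
  refine ⟨Matrix.of fun i l => if l = j then y i * (x j)⁻¹ else 0, ?_⟩
  ext i
  change (Matrix.mulVec _ x) i = y i
  simp only [Matrix.mulVec, dotProduct, Matrix.of_apply, ite_mul, zero_mul]
  simp [mul_assoc, inv_mul_cancel₀ (show x j ≠ 0 from hj)]

/-- Sizes in the Wedderburn decomposition are unique. -/
theorem matrix_size_unique (k : Type*) [Field k] (D : Type*) [DivisionRing D] [Algebra k D]
    [FiniteDimensional k D] (D' : Type*) [DivisionRing D'] [Algebra k D'] [FiniteDimensional k D']
    (n m : ℕ) (hn : n ≠ 0) (hm : m ≠ 0)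
    (e : Matrix (Fin n) (Fin n) D ≃ₐ[k] Matrix (Fin m) (Fin m) D') : n = m := by
  have : NeZero n := ⟨hn⟩
  have : NeZero m := ⟨hm⟩
  have key : ∀ (V W : Type _) [AddCommGroup V] [Module k V] [FiniteDimensional k V]
      [AddCommGroup W] [Module k W] [FiniteDimensional k W]
      (ρ : Matrix (Fin n) (Fin n) D →ₐ[k] Module.End k V)
      (σ : Matrix (Fin n) (Fin n) D →ₐ[k] Module.End k W)
      (_ : ∀ x : V, x ≠ 0 → ∀ y, ∃ r, ρ r x = y) (_ : ∀ x : W, x ≠ 0 → ∀ y, ∃ r, σ r x = y)
      (_ : Nontrivial V) (_ : Nontrivial W),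
      Module.finrank k V = Module.finrank k W := by
    intro V W _ _ _ _ _ _ ρ σ hρ hσ _ _
    let : Module (Matrix (Fin n) (Fin n) D) V := Module.compHom V ρ.toRingHom
    let : Module (Matrix (Fin n) (Fin n) D) W := Module.compHom W σ.toRingHom
    have : IsScalarTower k (Matrix (Fin n) (Fin n) D) V := ⟨fun c r v => by
      change ρ (c • r) v = c • ρ r v
      rw [map_smul, LinearMap.smul_apply]⟩
    have : IsScalarTower k (Matrix (Fin n) (Fin n) D) W := ⟨fun c r v => by
      change σ (c • r) v = c • σ r v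
      rw [map_smul, LinearMap.smul_apply]⟩
    have : IsSimpleModule (Matrix (Fin n) (Fin n) D) V :=
      isSimpleModule_iff_toSpanSingleton_surjective.2 ⟨inferInstance, fun x hx y => hρ x hx y⟩
    have : IsSimpleModule (Matrix (Fin n) (Fin n) D) W :=
      isSimpleModule_iff_toSpanSingleton_surjective.2 ⟨inferInstance, fun x hx y => hσ x hx y⟩
    obtain ⟨f⟩ := nonempty_linearEquiv_of_isSimpleModule k (Matrix (Fin n) (Fin n) D) V W
    exact (f.restrictScalars k).finrank_eq
  have h := key (Fin n → D) (Fin m → D') (colAction k D n) ((colAction k D' m).comp e.toAlgHom)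
    (colAction_trans k D n) (fun x hx y => by
      obtain ⟨M, hM⟩ := colAction_trans k D' m x hx y
      exact ⟨e.symm M, by simpa using hM⟩) inferInstance inferInstance
  have h2 := e.toLinearEquiv.finrank_eq
  rw [Module.finrank_matrix, Module.finrank_matrix, Fintype.card_fin, Fintype.card_fin] at h2
  rw [Module.finrank_pi_fintype, Module.finrank_pi_fintype, Finset.sum_const, Finset.sum_const,
    Finset.card_univ, Finset.card_univ, Fintype.card_fin, Fintype.card_fin, smul_eq_mul,
    smul_eq_mul] at h
  rw [mul_assoc, mul_assoc, ← h] at h2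
  exact Nat.eq_of_mul_eq_mul_right (Nat.mul_pos (Nat.pos_of_ne_zero hn) Module.finrank_pos) h2

/-- Matrix algebras of the same size over central simple algebras determine the algebras. -/
theorem matrix_cancel (k : Type*) [Field k]
    (A : Type*) [Ring A] [Algebra k A] [Algebra.IsCentral k A] [IsSimpleRing A]
    [FiniteDimensional k A]
    (A' : Type*) [Ring A'] [Algebra k A'] [Algebra.IsCentral k A'] [IsSimpleRing A']
    [FiniteDimensional k A']
    (n : ℕ) (hn : n ≠ 0) (e : Matrix (Fin n) (Fin n) A ≃ₐ[k] Matrix (Fin n) (Fin n) A') :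
    Nonempty (A ≃ₐ[k] A') := by
  have : NeZero n := ⟨hn⟩
  let f : Matrix (Fin n) (Fin n) k →ₐ[k] Matrix (Fin n) (Fin n) A' := (Algebra.ofId k A').mapMatrix
  let f₀ : Matrix (Fin n) (Fin n) k →ₐ[k] Matrix (Fin n) (Fin n) A := (Algebra.ofId k A).mapMatrix
  obtain ⟨x, hx⟩ := skolemNoether f (e.toAlgHom.comp f₀)
  let c : A →ₐ[k] Matrix (Fin n) (Fin n) A' :=
    AlgHom.ofLinearMap
      ((LinearMap.mulLeft k (x : Matrix (Fin n) (Fin n) A')).comp
        ((LinearMap.mulRight k ((x⁻¹ : (Matrix (Fin n) (Fin n) A')ˣ) : Matrix (Fin n) (Fin n) A')).comp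
          (e.toLinearMap.comp (Matrix.scalarAlgHom (Fin n) k : A →ₐ[k] _).toLinearMap)))
      (by simp)
      (fun a b => by
        simp only [LinearMap.comp_apply, LinearMap.mulLeft_apply, LinearMap.mulRight_apply,
          AlgHom.toLinearMap_apply, map_mul, AlgEquiv.toLinearMap_apply]
        simp [mul_assoc])
  have hc : ∀ a, ∃ p : A', c a = Matrix.scalar (Fin n) p := by
    intro a
    have : c a ∈ Set.range (Matrix.scalar (Fin n) : A' →+* _) := by
      refine Matrix.mem_range_scalar_of_commute_single fun i j hij => ?_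
      have h1 : Matrix.single i j (1 : A') = f (Matrix.single i j (1 : k)) := by
        ext a b
        by_cases h : i = a ∧ j = b <;> simp [f, Matrix.single_apply, h]
      show Commute (Matrix.single i j (1 : A')) (c a)
      rw [h1, hx]
      have h2 : Commute (f₀ (Matrix.single i j (1 : k))) (Matrix.scalar (Fin n) a) := by
        refine (Matrix.scalar_commute_iff.2 ?_).symm
        ext p q
        by_cases h : i = p ∧ j = q <;> simp [f₀, Matrix.single_apply, h]
      have h3 := h2.map e
      change ((x : Matrix (Fin n) (Fin n) A') * e (f₀ _) * (x⁻¹ : (Matrix (Fin n) (Fin n) A')ˣ)) *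
          ((x : Matrix (Fin n) (Fin n) A') * (e (Matrix.scalar (Fin n) a) * (x⁻¹ : (Matrix (Fin n) (Fin n) A')ˣ))) =
        ((x : Matrix (Fin n) (Fin n) A') * (e (Matrix.scalar (Fin n) a) * (x⁻¹ : (Matrix (Fin n) (Fin n) A')ˣ))) *
          ((x : Matrix (Fin n) (Fin n) A') * e (f₀ _) * (x⁻¹ : (Matrix (Fin n) (Fin n) A')ˣ))
      simp only [mul_assoc, Units.inv_mul_cancel_left]
      rw [← mul_assoc (e _) (e _), h3.eq, mul_assoc]
    obtain ⟨p, hp⟩ := this
    exact ⟨p, hp.symm⟩
  let ψ : A →ₐ[k] A' :=
    AlgHom.ofLinearMap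
      { toFun := fun a => c a 0 0
        map_add' := fun a b => by simp
        map_smul' := fun s a => by simp }
      (by simp)
      (fun a b => by
        obtain ⟨p, hp⟩ := hc a
        obtain ⟨q, hq⟩ := hc b
        change c (a * b) 0 0 = c a 0 0 * c b 0 0
        rw [map_mul, hp, hq, ← map_mul]
        simp)
  refine ⟨AlgEquiv.ofBijective ψ (bijective_of_isSimpleRing ψ ?_)⟩
  have h2 := e.toLinearEquiv.finrank_eq
  rw [Module.finrank_matrix, Module.finrank_matrix, Fintype.card_fin] at h2
  exact Nat.eq_of_mul_eq_mul_left (Nat.mul_pos (Nat.pos_of_ne_zero hn) (Nat.pos_of_ne_zero hn)) h2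

/-- Isomorphic matrix algebras over central division algebras: the division algebras agree. -/
theorem divisionRing_unique (k : Type*) [Field k] (D : Type*) [DivisionRing D] [Algebra k D]
    [Algebra.IsCentral k D] [FiniteDimensional k D] (D' : Type*) [DivisionRing D'] [Algebra k D']
    [Algebra.IsCentral k D'] [FiniteDimensional k D'] (n m : ℕ) (hn : n ≠ 0) (hm : m ≠ 0)
    (e : Matrix (Fin n) (Fin n) D ≃ₐ[k] Matrix (Fin m) (Fin m) D') : Nonempty (D ≃ₐ[k] D') := by
  obtain rfl := matrix_size_unique k D D' n m hn hm e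
  exact matrix_cancel k D D' n hn e

end Groth.Agent.CSA
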